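import Cfsg.Agent.Transfer.NormalPComplement

/-!
# Control of fusion and the Frobenius normal `p`-complement theorem

* `hasNormalPComplement_of_controls_fusion`: if a Sylow `p`-subgroup controls its own fusion then
  there is a normal `p`-complement.
* `exists_centralizer_smul_eq`: if `N(D)/C(D)` is a `p`-group for all `p`-subgroups `D`, then any two
  Sylow `p`-subgroups `P`, `Q` are conjugate by an element centralizing `P ∩ Q`.
* `controls_fusion`: under the same hypothesis a Sylow `p`-subgroup controls its own fusion.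
-/

set_option autoImplicit false

namespace Cfsg.Agent.Transfer.FrobeniusFusion

open Subgroup Cfsg.Agent.Transfer.NormalPComplement

open scoped commutatorElement

variable {G : Type*} [Group G] {p : ℕ}

/-- A subgroup `Q` of a nilpotent group `P` with `Q ≤ [Q, P]` is trivial. -/
theorem eq_bot_of_le_commutator (P Q : Subgroup G) [Group.IsNilpotent P] (hQP : Q ≤ P)
    (h : Q ≤ ⁅Q, P⁆) : Q = ⊥ := by
  have key : ∀ n : ℕ, Q ≤ P.lowerCentralSeries n := by
    intro n
    induction n with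
    | zero => exact hQP
    | succ n ih => exact h.trans (Subgroup.commutator_mono ih le_rfl)
  obtain ⟨n, hn⟩ := (Subgroup.isNilpotent_iff_lowerCentralSeries P).mp inferInstance
  rw [eq_bot_iff, ← hn]
  exact key n

/-- The index of `P ∩ N` in the normal subgroup `N` is prime to `p` for `P` a Sylow `p`-subgroup. -/
theorem not_dvd_relIndex_of_normal [hp : Fact p.Prime] [Finite G] (P : Sylow p G)
    (N : Subgroup G) [N.Normal] : ¬ p ∣ (P : Subgroup G).relIndex N := by
  have h1 := Subgroup.relIndex_mul_relIndex ((P : Subgroup G) ⊓ N) N ((P : Subgroup G) ⊔ N)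
    inf_le_right le_sup_right
  have h2 := Subgroup.relIndex_mul_relIndex ((P : Subgroup G) ⊓ N) P ((P : Subgroup G) ⊔ N)
    inf_le_left le_sup_left
  rw [Subgroup.inf_relIndex_left, ← Subgroup.relIndex_sup_right (H := (P : Subgroup G)) (K := N),
    ← h1, Subgroup.inf_relIndex_right, mul_comm] at h2
  have h3 : (N.relIndex ((P : Subgroup G) ⊔ N)) ≠ 0 := Subgroup.index_ne_zero_of_finite
  have h4 := Nat.eq_of_mul_eq_mul_right (Nat.pos_of_ne_zero h3) h2
  rw [← h4]
  intro h5
  exact P.not_dvd_index (h5.trans (Subgroup.relIndex_dvd_index_of_le le_sup_left))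

/-- `P ∩ N` is a Sylow `p`-subgroup of the normal subgroup `N`. -/
theorem exists_sylow_subgroupOf [hp : Fact p.Prime] [Finite G] (P : Sylow p G)
    (N : Subgroup G) [N.Normal] : ∃ Q : Sylow p N, (Q : Subgroup N) = (P : Subgroup G).subgroupOf N :=
  ⟨(P.2.comap_subtype (K := N)).toSylow (not_dvd_relIndex_of_normal P N), rfl⟩

/-- **Control of fusion gives a normal `p`-complement.** -/
theorem hasNormalPComplement_of_controls_fusion [hp : Fact p.Prime] [Finite G] (P : Sylow p G)
    (h : ∀ x ∈ P, ∀ y ∈ P, (∃ g : G, g * x * g⁻¹ = y) → ∃ z ∈ P, z * x * z⁻¹ = y) :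
    Cfsg.HasNormalPComplement p G := by
  have hM := pResidual_normal p G
  set M := Cfsg.pResidual p G with hMdef
  obtain ⟨Q, hQ⟩ := exists_sylow_subgroupOf P M
  -- the focal subgroup of `Q` in `M` is everything
  have hfoc : (Q : Subgroup M).focalSubgroupOf = ⊤ := by
    rw [eq_top_iff]
    intro x _
    have hQ' : IsPGroup p (Q ⧸ (Q : Subgroup M).focalSubgroupOf) := Q.2.to_quotient _
    have hsurj := Subgroup.transferFocal_surjective Q
    obtain ⟨y, hy⟩ := hsurj (x : Q ⧸ (Q : Subgroup M).focalSubgroupOf)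
    have h1 := hom_pResidual_eq_one hQ' (Subgroup.transferFocal (Q : Subgroup M)) y
    rw [h1] at hy
    exact (QuotientGroup.eq_one_iff x).mp hy.symm
  have hfoc' : (Q : Subgroup M).focalSubgroup = Q := by
    rw [← Subgroup.map_focalSubgroupOf, hfoc, ← MonoidHom.range_eq_map, Subgroup.range_subtype]
  -- hence `P ∩ M ≤ [P ∩ M, P]`
  have hle : (P : Subgroup G) ⊓ M ≤ ⁅(P : Subgroup G) ⊓ M, (P : Subgroup G)⁆ := by
    have h1 : ((Q : Subgroup M).map M.subtype) = (P : Subgroup G) ⊓ M := by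
      rw [hQ, Subgroup.subgroupOf_map_subtype]
    rw [← h1]
    conv_lhs => rw [← hfoc', Subgroup.focalSubgroup_def]
    rw [MonoidHom.map_closure, Subgroup.closure_le]
    rintro _ ⟨g, ⟨hgQ, x, hx, u, rfl⟩, rfl⟩
    rw [h1]
    have hxP : (x : G) ∈ P := by
      rw [hQ] at hx; exact hx
    have hgP : ((⁅x, u⁆ : M) : G) ∈ P := by
      have : ⁅x, u⁆ ∈ (P : Subgroup G).subgroupOf M := by rw [← hQ]; exact hgQ
      exact this
    have hyP : (u : G) * x * (u : G)⁻¹ ∈ P := by
      have h2 : (u : G) * x * (u : G)⁻¹ = ((⁅x, u⁆ : M) : G)⁻¹ * x := by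
        simp [commutatorElement_def, mul_assoc]
      rw [h2]
      exact mul_mem (inv_mem hgP) hxP
    obtain ⟨z, hz, hzx⟩ := h x hxP _ hyP ⟨u, rfl⟩
    have h3 : (M.subtype ⁅x, u⁆ : G) = ⁅(x : G), z⁆ := by
      rw [Subgroup.coe_subtype]
      have : ((⁅x, u⁆ : M) : G) = (x : G) * ((u : G) * x * (u : G)⁻¹)⁻¹ := by
        simp [commutatorElement_def, mul_assoc]
      rw [this, ← hzx, commutatorElement_def]
      group
    rw [h3]
    exact Subgroup.commutator_mem_commutator ⟨hxP, x.2⟩ hz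
  have : Group.IsNilpotent P := P.2.isNilpotent
  have hbot : (P : Subgroup G) ⊓ M = ⊥ := eq_bot_of_le_commutator _ _ inf_le_left hle
  rw [hasNormalPComplement_iff_coprime, ← hMdef]
  have h5 : ¬ p ∣ Nat.card M := by
    intro hdvd
    have := Q.ne_bot_of_dvd_card hdvd
    apply this
    rw [hQ, eq_bot_iff]
    intro x hx
    have h6 : (x : G) ∈ (P : Subgroup G) ⊓ M := ⟨hx, x.2⟩
    rw [hbot, mem_bot] at h6
    exact mem_bot.mpr (Subtype.ext h6)
  exact ((Nat.Prime.coprime_iff_not_dvd hp.out).mpr h5).symm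

theorem mem_smul_sylow (g : G) (Q : Sylow p G) (x : G) : x ∈ g • Q ↔ g⁻¹ * x * g ∈ Q := by
  have h : x ∈ ((g • Q : Sylow p G) : Subgroup G) ↔ g⁻¹ * x * g ∈ (Q : Subgroup G) := by
    rw [Sylow.coe_subgroup_smul, Subgroup.mem_pointwise_smul_iff_inv_smul_mem, ← map_inv,
      MulAut.smul_def, MulAut.conj_apply, inv_inv]
  exact h

/-- Normalizers grow in nilpotent groups. -/
theorem exists_mem_normalizer_notMem {P D : Subgroup G} [Group.IsNilpotent P] (h : D < P) :
    ∃ x ∈ P, x ∉ D ∧ x ∈ normalizer (D : Set G) := by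
  have h1 : D.subgroupOf P < ⊤ := by
    rw [lt_top_iff_ne_top]
    intro h2
    rw [Subgroup.subgroupOf_eq_top] at h2
    exact not_le_of_gt h h2
  have h2 := Group.normalizerCondition_of_isNilpotent (D.subgroupOf P) h1
  obtain ⟨x, hx1, hx2⟩ := SetLike.exists_of_lt h2
  refine ⟨x, x.2, fun hx => hx2 hx, ?_⟩
  rw [Subgroup.mem_normalizer_iff] at hx1 ⊢
  intro y
  constructor
  · intro hy
    exact (hx1 ⟨y, h.le hy⟩).mp hy
  · intro hy
    have hyP : y ∈ P := by
      have h3 : y = (x : G)⁻¹ * ((x : G) * y * (x : G)⁻¹) * x := by group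
      rw [h3]
      exact mul_mem (mul_mem (inv_mem x.2) (h.le hy)) x.2
    exact (hx1 ⟨y, hyP⟩).mpr hy

/-- `N(D)/C(D)` is a `p`-group for all `p`-subgroups `D` of `G`. -/
def LocalCondition (p : ℕ) (G : Type*) [Group G] : Prop :=
  ∀ D : Subgroup G, IsPGroup p D → ∀ g ∈ Subgroup.normalizer (D : Set G),
    Nat.Coprime (orderOf g) p → g ∈ Subgroup.centralizer (D : Set G)

/-- Any two Sylow `p`-subgroups of `N(D)` are conjugate by an element of `C(D)`, when `N(D)/C(D)`
is a `p`-group. -/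
theorem exists_centralizer_smul_normalizer [hp : Fact p.Prime] [Finite G] (D : Subgroup G)
    (hD : ∀ g ∈ Subgroup.normalizer (D : Set G), Nat.Coprime (orderOf g) p →
      g ∈ Subgroup.centralizer (D : Set G))
    (R S : Sylow p (Subgroup.normalizer (D : Set G))) :
    ∃ c : Subgroup.normalizer (D : Set G), (c : G) ∈ Subgroup.centralizer (D : Set G) ∧
      c • S = R := by
  obtain ⟨C, hC⟩ : ∃ C, C = (Subgroup.centralizer (D : Set G)).subgroupOf
    (Subgroup.normalizer (D : Set G)) := ⟨_, rfl⟩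
  have hCn : C.Normal := by
    have h1 : C = (D.normalizerMonoidHom).ker := by
      rw [Subgroup.normalizerMonoidHom_ker, hC]
    rw [h1]
    infer_instance
  have hq : IsPGroup p (Subgroup.normalizer (D : Set G) ⧸ C) := by
    apply isPGroup_quotient_of_coprime_mem
    intro g hg
    rw [← Subgroup.orderOf_coe] at hg
    rw [hC]
    exact hD g g.2 hg
  have htop : C ⊔ (S : Subgroup (Subgroup.normalizer (D : Set G))) = ⊤ := by
    rw [← Subgroup.index_eq_one]
    have h1 : (C ⊔ (S : Subgroup (Subgroup.normalizer (D : Set G)))).index ∣ C.index :=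
      Subgroup.index_dvd_of_le le_sup_left
    have h2 : (C ⊔ (S : Subgroup (Subgroup.normalizer (D : Set G)))).index ∣
        (S : Subgroup (Subgroup.normalizer (D : Set G))).index :=
      Subgroup.index_dvd_of_le le_sup_right
    obtain ⟨k, hk⟩ := IsPGroup.iff_card.mp hq
    rw [Subgroup.index_eq_card C, hk] at h1
    refine Nat.eq_one_of_dvd_coprimes ?_ h1 h2
    exact Nat.Coprime.pow_left k ((Nat.Prime.coprime_iff_not_dvd hp.out).mpr S.not_dvd_index)
  obtain ⟨n, hn⟩ := MulAction.exists_smul_eq (Subgroup.normalizer (D : Set G)) S R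
  have hnmem : n ∈ C ⊔ (S : Subgroup (Subgroup.normalizer (D : Set G))) := by rw [htop]; trivial
  obtain ⟨c, hc, s, hs, hcs⟩ := Subgroup.mem_sup_of_normal_left.mp hnmem
  refine ⟨c, by rw [hC] at hc; exact hc, ?_⟩
  rw [← hn, ← hcs, mul_smul]
  congr 1
  symm
  rw [Sylow.smul_eq_iff_mem_normalizer]
  exact Subgroup.le_normalizer hs

/-- If `N(D)/C(D)` is a `p`-group for all `p`-subgroups `D`, then two Sylow `p`-subgroups `P`, `Q`
are conjugate under `C(P ∩ Q)`. -/
theorem exists_centralizer_smul_eq [hp : Fact p.Prime] [Finite G] (h : LocalCondition p G)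
    (P Q : Sylow p G) :
    ∃ c ∈ Subgroup.centralizer (((P : Subgroup G) ⊓ Q : Subgroup G) : Set G), c • Q = P := by
  induction hn : Nat.card G - Nat.card ((P : Subgroup G) ⊓ Q : Subgroup G) using
    Nat.strong_induction_on generalizing P Q with
  | _ n ih =>
  by_cases hPQ : (P : Subgroup G) ≤ Q
  · have : P = Q := by
      apply Sylow.ext
      exact (P.3 Q.2 hPQ).symm
    exact ⟨1, one_mem _, by rw [this, one_smul]⟩
  have hQP : ¬ (Q : Subgroup G) ≤ P := by
    intro h1
    apply hPQ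
    rw [Q.3 P.2 h1]
  set D : Subgroup G := (P : Subgroup G) ⊓ Q with hDdef
  have hDP : D < P := lt_of_le_of_ne inf_le_left (fun h1 => hPQ (inf_eq_left.mp h1))
  have hDQ : D < Q := lt_of_le_of_ne inf_le_right (fun h1 => hQP (inf_eq_right.mp h1))
  have hDp : IsPGroup p D := P.2.to_le hDP.le
  have : Group.IsNilpotent P := P.2.isNilpotent
  have : Group.IsNilpotent Q := Q.2.isNilpotent
  obtain ⟨x, hxP, hxD, hxN⟩ := exists_mem_normalizer_notMem hDP
  obtain ⟨y, hyQ, hyD, hyN⟩ := exists_mem_normalizer_notMem hDQ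
  set N := Subgroup.normalizer (D : Set G) with hN
  obtain ⟨R, hR⟩ := (P.2.comap_subtype (K := N)).exists_le_sylow
  obtain ⟨S, hS⟩ := (Q.2.comap_subtype (K := N)).exists_le_sylow
  obtain ⟨c, hcC, hcS⟩ := exists_centralizer_smul_normalizer D (h D hDp) R S
  obtain ⟨P₁, hP₁⟩ := (R.2.map N.subtype).exists_le_sylow
  have hDN : D ≤ N := Subgroup.le_normalizer
  have hcD : ∀ d ∈ D, (c : G)⁻¹ * d * c = d := by
    intro d hd
    have := Subgroup.mem_centralizer_iff.mp hcC d hd
    rw [mul_assoc, this, inv_mul_cancel_left]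
  -- first step
  have hlt : ∀ E : Subgroup G, D < E → Nat.card G - Nat.card E < n := by
    intro E hE
    rw [← hn]
    have h1 : Nat.card D < Nat.card E := by
      apply Set.ncard_lt_ncard (s := (D : Set G)) (t := (E : Set G))
      exact hE
    have h2 : Nat.card E ≤ Nat.card G := Subgroup.card_le_card_group E
    omega
  have hPP₁ : D < (P : Subgroup G) ⊓ P₁ := by
    refine lt_of_le_of_ne (le_inf hDP.le ?_) ?_
    · intro d hd
      exact hP₁ ⟨⟨d, hDN hd⟩, hR (hDP.le hd), rfl⟩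
    · intro h1
      apply hxD
      rw [h1]
      exact ⟨hxP, hP₁ ⟨⟨x, hxN⟩, hR hxP, rfl⟩⟩
  obtain ⟨c₁, hc₁, hc₁P⟩ := ih _ (hlt _ hPP₁) P P₁ rfl
  have hcR : ∀ z : G, z ∈ Q → z ∈ N → (c : G) * z * (c : G)⁻¹ ∈ P₁ := by
    intro z hz hzN
    have h1 : (⟨z, hzN⟩ : N) ∈ S := hS hz
    have h2 : c * ⟨z, hzN⟩ * c⁻¹ ∈ R := by
      rw [← hcS, mem_smul_sylow]
      have h3 : c⁻¹ * (c * ⟨z, hzN⟩ * c⁻¹) * c = ⟨z, hzN⟩ := by group
      rw [h3]
      exact h1
    exact hP₁ ⟨_, h2, rfl⟩
  have hQP₁ : D < (P₁ : Subgroup G) ⊓ ((c : G) • Q : Sylow p G) := by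
    have hmem : ∀ z : G, z ∈ Q → (c : G) * z * (c : G)⁻¹ ∈ ((c : G) • Q : Sylow p G) := by
      intro z hz
      rw [mem_smul_sylow]
      have : (c : G)⁻¹ * ((c : G) * z * (c : G)⁻¹) * c = z := by group
      rw [this]
      exact hz
    refine lt_of_le_of_ne (le_inf ?_ ?_) ?_
    · exact hPP₁.le.trans inf_le_right
    · intro d hd
      change d ∈ ((c : G) • Q : Sylow p G)
      rw [mem_smul_sylow, hcD d hd]
      exact hDQ.le hd
    · intro h1
      apply hyD
      have h2 : (c : G) * y * (c : G)⁻¹ ∈ D := h1.ge ⟨hcR y hyQ hyN, hmem y hyQ⟩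
      have h3 := hcD _ h2
      have h4 : (c : G)⁻¹ * ((c : G) * y * (c : G)⁻¹) * c = y := by group
      rw [h4] at h3
      rw [h3]
      exact h2
  obtain ⟨c₂, hc₂, hc₂P⟩ := ih _ (hlt _ hQP₁) P₁ ((c : G) • Q) rfl
  refine ⟨c₁ * c₂ * c, mul_mem (mul_mem ?_ ?_) hcC, ?_⟩
  · exact Subgroup.centralizer_le hPP₁.le hc₁
  · exact Subgroup.centralizer_le hQP₁.le hc₂
  · rw [mul_smul, mul_smul, hc₂P, hc₁P]

/-- If `N(D)/C(D)` is a `p`-group for all `p`-subgroups `D`, then a Sylow `p`-subgroup controls its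
own fusion. -/
theorem controls_fusion [hp : Fact p.Prime] [Finite G] (h : LocalCondition p G) (P : Sylow p G) :
    ∀ x ∈ P, ∀ y ∈ P, (∃ g : G, g * x * g⁻¹ = y) → ∃ z ∈ P, z * x * z⁻¹ = y := by
  rintro x hx y hy ⟨g, hg⟩
  -- `y ∈ P ∩ gP`
  obtain ⟨c, hc, hcP⟩ := exists_centralizer_smul_eq h P (g • P)
  have hy' : y ∈ g • P := by
    rw [mem_smul_sylow, ← hg]
    have : g⁻¹ * (g * x * g⁻¹) * g = x := by group
    rw [this]
    exact hx
  have hcy : y * c = c * y := Subgroup.mem_centralizer_iff.mp hc y ⟨hy, hy'⟩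
  -- `c * g` normalizes `P`
  have hcg : c * g ∈ Subgroup.normalizer (P : Set G) := by
    rw [← Sylow.smul_eq_iff_mem_normalizer, mul_smul, hcP]
  have hcgx : (c * g) * x * (c * g)⁻¹ = y := by
    have : (c * g) * x * (c * g)⁻¹ = c * (g * x * g⁻¹) * c⁻¹ := by group
    rw [this, hg, ← hcy, mul_inv_cancel_right]
  -- write `c * g = c' * s`
  have hPN : (P : Subgroup G) ≤ Subgroup.normalizer ((P : Subgroup G) : Set G) :=
    Subgroup.le_normalizer
  obtain ⟨k, hk, s, hs, hks⟩ : ∃ k ∈ Subgroup.centralizer ((P : Subgroup G) : Set G),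
      ∃ s ∈ P, k * s = c * g := by
    set N := Subgroup.normalizer ((P : Subgroup G) : Set G) with hN
    set C := (Subgroup.centralizer ((P : Subgroup G) : Set G)).subgroupOf N with hC
    have hCn : C.Normal := by
      have h1 : C = ((P : Subgroup G).normalizerMonoidHom).ker := by
        rw [Subgroup.normalizerMonoidHom_ker]
      rw [h1]
      infer_instance
    have hq : IsPGroup p (N ⧸ C) := by
      apply isPGroup_quotient_of_coprime_mem
      intro g hg
      rw [← Subgroup.orderOf_coe] at hg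
      exact h P P.2 g g.2 hg
    have htop : C ⊔ (P.subtype hPN : Subgroup N) = ⊤ := by
      rw [← Subgroup.index_eq_one]
      have h1 : (C ⊔ (P.subtype hPN : Subgroup N)).index ∣ C.index :=
        Subgroup.index_dvd_of_le le_sup_left
      have h2 : (C ⊔ (P.subtype hPN : Subgroup N)).index ∣ (P.subtype hPN : Subgroup N).index :=
        Subgroup.index_dvd_of_le le_sup_right
      obtain ⟨k, hk⟩ := IsPGroup.iff_card.mp hq
      rw [Subgroup.index_eq_card C, hk] at h1
      refine Nat.eq_one_of_dvd_coprimes ?_ h1 h2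
      exact Nat.Coprime.pow_left k
        ((Nat.Prime.coprime_iff_not_dvd hp.out).mpr (P.subtype hPN).not_dvd_index)
    have hmem : (⟨c * g, hcg⟩ : N) ∈ C ⊔ (P.subtype hPN : Subgroup N) := by rw [htop]; trivial
    obtain ⟨k, hk, s, hs, hks⟩ := Subgroup.mem_sup_of_normal_left.mp hmem
    exact ⟨k, hk, s, hs, congrArg Subtype.val hks⟩
  refine ⟨s, hs, ?_⟩
  have h1 : s * x * s⁻¹ ∈ (P : Subgroup G) := mul_mem (mul_mem hs hx) (inv_mem hs)
  have h2 : (s * x * s⁻¹) * k = k * (s * x * s⁻¹) := Subgroup.mem_centralizer_iff.mp hk _ h1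
  rw [← hcgx, ← hks]
  have h3 : k * s * x * (k * s)⁻¹ = (k * (s * x * s⁻¹)) * k⁻¹ := by group
  rw [h3, ← h2, mul_inv_cancel_right]

/-- The local condition may be tested on the subgroups of one Sylow `p`-subgroup. -/
theorem localCondition_of_sylow [hp : Fact p.Prime] [Finite G] (P : Sylow p G)
    (h : ∀ Q : Subgroup G, Q ≤ (P : Subgroup G) → ∀ g ∈ Subgroup.normalizer (Q : Set G),
      Nat.Coprime (orderOf g) p → g ∈ Subgroup.centralizer (Q : Set G)) :
    LocalCondition p G := by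
  intro D hD g hg hgp
  obtain ⟨R, hR⟩ := hD.exists_le_sylow
  obtain ⟨a, ha⟩ := MulAction.exists_smul_eq G R P
  -- conjugate everything by `a`
  have hDP : D.map (MulAut.conj a).toMonoidHom ≤ (P : Subgroup G) := by
    rintro _ ⟨d, hd, rfl⟩
    change a * d * a⁻¹ ∈ P
    rw [← ha, mem_smul_sylow]
    have : a⁻¹ * (a * d * a⁻¹) * a = d := by group
    rw [this]
    exact hR hd
  have hmem : ∀ x : G, x ∈ D.map (MulAut.conj a).toMonoidHom ↔ a⁻¹ * x * a ∈ D := by
    intro x
    constructor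
    · rintro ⟨d, hd, rfl⟩
      have : a⁻¹ * ((MulAut.conj a).toMonoidHom d) * a = d := by
        change a⁻¹ * (a * d * a⁻¹) * a = d
        group
      rw [this]
      exact hd
    · intro hx
      refine ⟨a⁻¹ * x * a, hx, ?_⟩
      change a * (a⁻¹ * x * a) * a⁻¹ = x
      group
  have h1 := h (D.map (MulAut.conj a).toMonoidHom) hDP (a * g * a⁻¹) ?_ ?_
  · rw [Subgroup.mem_centralizer_iff] at h1 ⊢
    intro d hd
    have h2 := h1 (a * d * a⁻¹) ⟨d, hd, rfl⟩
    have h3 : a * (d * g) * a⁻¹ = a * (g * d) * a⁻¹ := by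
      have h4 : a * (d * g) * a⁻¹ = (a * d * a⁻¹) * (a * g * a⁻¹) := by group
      rw [h4, h2]
      group
    exact mul_left_cancel (mul_right_cancel h3)
  · rw [Subgroup.mem_normalizer_iff] at hg ⊢
    intro x
    rw [hmem, hmem, hg]
    have : g * (a⁻¹ * x * a) * g⁻¹ = a⁻¹ * (a * g * a⁻¹ * x * (a * g * a⁻¹)⁻¹) * a := by group
    rw [this]
  · have : orderOf (a * g * a⁻¹) = orderOf g :=
      orderOf_injective (MulAut.conj a).toMonoidHom (MulAut.conj a).injective g
    rw [this]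
    exact hgp

/-- **Frobenius**: the local condition is equivalent to having a normal `p`-complement. -/
theorem hasNormalPComplement_iff_localCondition [hp : Fact p.Prime] [Finite G] :
    Cfsg.HasNormalPComplement p G ↔ LocalCondition p G := by
  constructor
  · intro hG D hD g hg hgp
    obtain ⟨N, hN, h1, h2⟩ := hasNormalPComplement_iff.mp hG
    have hgN : g ∈ N := (mem_iff_coprime_orderOf' N h1 h2 g).mpr hgp
    rw [Subgroup.mem_centralizer_iff]
    intro d hd
    have h3 : d * g * d⁻¹ * g⁻¹ ∈ N := mul_mem (hN.conj_mem g hgN d) (inv_mem hgN)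
    have h4 : d * g * d⁻¹ * g⁻¹ ∈ D := by
      have h5 : g * d⁻¹ * g⁻¹ ∈ D := (Subgroup.mem_normalizer_iff.mp hg d⁻¹).mp (inv_mem hd)
      have h6 : d * g * d⁻¹ * g⁻¹ = d * (g * d⁻¹ * g⁻¹) := by group
      rw [h6]
      exact mul_mem hd h5
    have h5 : d * g * d⁻¹ * g⁻¹ = 1 := by
      obtain ⟨k, hk⟩ := IsPGroup.iff_card.mp hD
      have h6 : orderOf (d * g * d⁻¹ * g⁻¹) ∣ Nat.card N := Subgroup.orderOf_dvd_natCard N h3
      have h7 : orderOf (d * g * d⁻¹ * g⁻¹) ∣ Nat.card D := Subgroup.orderOf_dvd_natCard D h4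
      rw [hk] at h7
      rw [← orderOf_eq_one_iff]
      exact Nat.eq_one_of_dvd_coprimes (h1.pow_right k) h6 h7
    rw [mul_inv_eq_one, mul_inv_eq_iff_eq_mul] at h5
    exact h5
  · intro h
    obtain ⟨P⟩ : Nonempty (Sylow p G) := inferInstance
    exact hasNormalPComplement_of_controls_fusion P (controls_fusion h P)

end Cfsg.Agent.Transfer.FrobeniusFusion
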