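import Mathlib.GroupTheory.Sylow
import Mathlib.GroupTheory.Transfer
import Mathlib.GroupTheory.Focal
import Mathlib.GroupTheory.Frattini
import Mathlib.GroupTheory.Nilpotent
import Mathlib.GroupTheory.SchurZassenhaus
import Cfsg.Prelude.Def_Transfer

/-!
# Normal `p`-complements: basic facts about `Cfsg.HasNormalPComplement`

Characterisations, inheritance by subgroups / quotients / isomorphic groups, extension by a normal
`p'`-subgroup, and the relation with `Cfsg.pResidual`.
-/

set_option autoImplicit false

namespace Cfsg.Agent.Transfer.NormalPComplement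

open Subgroup

variable {G : Type*} [Group G] {p : ℕ}

/-- `g ^ (p-part of its order)` has order prime to `p`. -/
theorem coprime_orderOf_pow_ordProj [hp : Fact p.Prime] {g : G} (hg : IsOfFinOrder g) :
    (orderOf (g ^ (p ^ (orderOf g).factorization p))).Coprime p := by
  rw [orderOf_pow_of_dvd (pow_ne_zero _ hp.out.ne_zero) (Nat.ordProj_dvd _ _)]
  exact (Nat.coprime_ordCompl hp.out hg.orderOf_pos.ne').symm

/-- An element of order prime to `p` is killed by every homomorphism to a `p`-group. -/
theorem map_eq_one_of_coprime [hp : Fact p.Prime] {A : Type*} [Group A] (hA : IsPGroup p A)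
    (f : G →* A) {g : G} (hg : (orderOf g).Coprime p) : f g = 1 := by
  obtain ⟨k, hk⟩ := (IsPGroup.iff_orderOf.mp hA) (f g)
  have h1 : orderOf (f g) ∣ orderOf g := orderOf_map_dvd f g
  have h2 : (orderOf (f g)).Coprime (orderOf (f g)) := by
    conv_rhs => rw [hk]
    exact (Nat.Coprime.coprime_dvd_left h1 hg).pow_right k
  rw [← orderOf_eq_one_iff]
  exact (Nat.coprime_self _).mp h2

theorem mem_pResidual_of_coprime {g : G} (hg : (orderOf g).Coprime p) :
    g ∈ Cfsg.pResidual p G := subset_closure hg

/-- `O^p(G)` lies in the kernel of every homomorphism to a `p`-group. -/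
theorem pResidual_le_ker [hp : Fact p.Prime] {A : Type*} [Group A] (hA : IsPGroup p A)
    (f : G →* A) : Cfsg.pResidual p G ≤ f.ker := by
  rw [Cfsg.pResidual, closure_le]
  intro g hg
  exact map_eq_one_of_coprime hA f hg

/-- Homomorphisms from `O^p(G)` to `p`-groups are trivial. -/
theorem hom_pResidual_eq_one [hp : Fact p.Prime] {A : Type*} [Group A] (hA : IsPGroup p A)
    (f : Cfsg.pResidual p G →* A) (x : Cfsg.pResidual p G) : f x = 1 := by
  have h : Cfsg.pResidual p G ≤ f.ker.map (Cfsg.pResidual p G).subtype := by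
    conv_lhs => rw [Cfsg.pResidual]
    rw [closure_le]
    intro y hy
    have hy' : (orderOf y).Coprime p := hy
    refine ⟨⟨y, mem_pResidual_of_coprime hy'⟩, ?_, rfl⟩
    apply map_eq_one_of_coprime hA
    rwa [Subgroup.orderOf_mk]
  obtain ⟨y, hy, hyx⟩ := h x.2
  have : y = x := Subtype.ext hyx
  rw [← this]
  exact hy

theorem pResidual_normal (p : ℕ) (G : Type*) [Group G] : (Cfsg.pResidual p G).Normal := by
  rw [Cfsg.pResidual]
  refine ⟨fun n hn g => ?_⟩
  induction hn using closure_induction with
  | mem x hx =>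
    apply subset_closure
    have h1 : orderOf (g * x * g⁻¹) = orderOf x := by
      have := orderOf_injective (MulAut.conj g).toMonoidHom (MulAut.conj g).injective x
      simpa using this
    change (orderOf (g * x * g⁻¹)).Coprime p
    rw [h1]
    exact hx
  | one => simp
  | mul a b _ _ iha ihb =>
    have : g * (a * b) * g⁻¹ = (g * a * g⁻¹) * (g * b * g⁻¹) := by group
    rw [this]
    exact mul_mem iha ihb
  | inv a _ iha =>
    have : g * a⁻¹ * g⁻¹ = (g * a * g⁻¹)⁻¹ := by group
    rw [this]
    exact inv_mem iha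

theorem isPGroup_quotient_iff (N : Subgroup G) [N.Normal] :
    IsPGroup p (G ⧸ N) ↔ ∀ g : G, ∃ k : ℕ, g ^ p ^ k ∈ N := by
  rw [isPGroup_iff_pow_pow_eq_one]
  constructor
  · intro h g
    obtain ⟨k, hk⟩ := h (g : G ⧸ N)
    refine ⟨k, ?_⟩
    rwa [← QuotientGroup.mk_pow, QuotientGroup.eq_one_iff] at hk
  · intro h x
    obtain ⟨g, rfl⟩ := QuotientGroup.mk_surjective x
    obtain ⟨k, hk⟩ := h g
    refine ⟨k, ?_⟩
    rwa [← QuotientGroup.mk_pow, QuotientGroup.eq_one_iff]

/-- If `N` is normal and contains every element of order prime to `p`, the quotient is a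
`p`-group. -/
theorem isPGroup_quotient_of_coprime_mem [hp : Fact p.Prime] [Finite G] (N : Subgroup G)
    [N.Normal] (h : ∀ g : G, (orderOf g).Coprime p → g ∈ N) : IsPGroup p (G ⧸ N) := by
  rw [isPGroup_quotient_iff]
  intro g
  exact ⟨(orderOf g).factorization p, h _ (coprime_orderOf_pow_ordProj (isOfFinOrder_of_finite g))⟩

theorem isPGroup_quotient_pResidual [hp : Fact p.Prime] [Finite G]
    [(Cfsg.pResidual p G).Normal] : IsPGroup p (G ⧸ Cfsg.pResidual p G) :=
  isPGroup_quotient_of_coprime_mem _ fun _ hg => mem_pResidual_of_coprime hg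

/-- A normal `p'`-subgroup with quotient a `p`-group complements every Sylow `p`-subgroup. -/
theorem isComplement'_of_coprime_of_isPGroup [hp : Fact p.Prime] [Finite G] (N : Subgroup G)
    [N.Normal] (h1 : (Nat.card N).Coprime p) (h2 : IsPGroup p (G ⧸ N)) (P : Sylow p G) :
    N.IsComplement' (P : Subgroup G) := by
  obtain ⟨k, hk⟩ := IsPGroup.iff_card.mp P.2
  have hcop : (Nat.card N).Coprime (Nat.card P) := by
    rw [hk]; exact h1.pow_right k
  apply isComplement'_of_coprime _ hcop
  obtain ⟨m, hm⟩ := IsPGroup.iff_card.mp h2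
  have hG : Nat.card N * p ^ m = Nat.card G := by
    rw [← hm, ← N.index_eq_card, N.card_mul_index]
  have hP : Nat.card P = p ^ m := by
    rw [P.card_eq_multiplicity, ← hG, Nat.factorization_mul Nat.card_pos.ne'
      (pow_ne_zero _ hp.out.ne_zero), Finsupp.add_apply,
      Nat.factorization_eq_zero_of_not_dvd, zero_add, hp.out.factorization_pow,
      Finsupp.single_eq_same]
    intro hdvd
    have := Nat.Coprime.eq_one_of_dvd h1.symm hdvd
    exact hp.out.one_lt.ne' this
  rw [hP, hG]

theorem coprime_of_isComplement' [hp : Fact p.Prime] [Finite G] {N : Subgroup G} (P : Sylow p G)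
    (h : N.IsComplement' (P : Subgroup G)) : (Nat.card N).Coprime p := by
  rw [← h.index_eq_card]
  exact ((Nat.Prime.coprime_iff_not_dvd hp.out).mpr P.not_dvd_index).symm

theorem isPGroup_quotient_of_isComplement' {N : Subgroup G} [N.Normal]
    {P : Subgroup G} (hP : IsPGroup p P) (h : N.IsComplement' P) : IsPGroup p (G ⧸ N) := by
  have hs : Function.Surjective ((QuotientGroup.mk' N).comp P.subtype) := by
    intro x
    obtain ⟨g, rfl⟩ := QuotientGroup.mk_surjective x
    obtain ⟨⟨a, b⟩, hab⟩ := h.symm.existsUnique g |>.exists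
    refine ⟨⟨a, a.2⟩, ?_⟩
    simp only [MonoidHom.comp_apply, Subgroup.coe_subtype, QuotientGroup.mk'_apply]
    rw [QuotientGroup.eq]
    rw [← hab]
    simp
  exact hP.of_surjective _ hs

theorem hasNormalPComplement_iff [hp : Fact p.Prime] [Finite G] :
    Cfsg.HasNormalPComplement p G ↔
      ∃ N : Subgroup G, ∃ _ : N.Normal, (Nat.card N).Coprime p ∧ IsPGroup p (G ⧸ N) := by
  constructor
  · rintro ⟨P, N, hN, hc⟩
    exact ⟨N, hN, coprime_of_isComplement' P hc, isPGroup_quotient_of_isComplement' P.2 hc⟩
  · rintro ⟨N, hN, h1, h2⟩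
    obtain ⟨P⟩ : Nonempty (Sylow p G) := inferInstance
    exact ⟨P, N, hN, isComplement'_of_coprime_of_isPGroup N h1 h2 P⟩

/-- `HasNormalPComplement` through any prescribed Sylow subgroup. -/
theorem exists_of_sylow [hp : Fact p.Prime] [Finite G] (h : Cfsg.HasNormalPComplement p G)
    (P : Sylow p G) : ∃ N : Subgroup G, N.Normal ∧ N.IsComplement' (P : Subgroup G) := by
  obtain ⟨N, hN, h1, h2⟩ := hasNormalPComplement_iff.mp h
  exact ⟨N, hN, isComplement'_of_coprime_of_isPGroup N h1 h2 P⟩

theorem hasNormalPComplement_iff_sylow [hp : Fact p.Prime] [Finite G] (P : Sylow p G) :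
    Cfsg.HasNormalPComplement p G ↔
      ∃ N : Subgroup G, N.Normal ∧ N.IsComplement' (P : Subgroup G) :=
  ⟨fun h => exists_of_sylow h P, fun ⟨N, h⟩ => ⟨P, N, h⟩⟩

/-- In a group with a normal `p'`-subgroup with quotient a `p`-group, this subgroup consists
exactly of the elements of order prime to `p`. -/
theorem mem_iff_coprime_orderOf' [hp : Fact p.Prime] [Finite G] (N : Subgroup G)
    [N.Normal] (h1 : (Nat.card N).Coprime p) (h2 : IsPGroup p (G ⧸ N)) (x : G) :
    x ∈ N ↔ Nat.Coprime (orderOf x) p := by
  constructor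
  · intro hx
    exact Nat.Coprime.coprime_dvd_left (Subgroup.orderOf_dvd_natCard N hx) h1
  · intro hx
    have := map_eq_one_of_coprime h2 (QuotientGroup.mk' N) hx
    rwa [QuotientGroup.mk'_apply, QuotientGroup.eq_one_iff] at this

theorem mem_iff_coprime_orderOf [hp : Fact p.Prime] [Finite G] (P : Sylow p G) (N : Subgroup G)
    [N.Normal] (hN : N.IsComplement' (P : Subgroup G)) (x : G) :
    x ∈ N ↔ Nat.Coprime (orderOf x) p :=
  mem_iff_coprime_orderOf' N (coprime_of_isComplement' P hN)
    (isPGroup_quotient_of_isComplement' P.2 hN) x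

theorem eq_pResidual [hp : Fact p.Prime] [Finite G] (N : Subgroup G)
    [N.Normal] (h1 : (Nat.card N).Coprime p) (h2 : IsPGroup p (G ⧸ N)) :
    N = Cfsg.pResidual p G := by
  apply le_antisymm
  · intro x hx
    exact mem_pResidual_of_coprime ((mem_iff_coprime_orderOf' N h1 h2 x).mp hx)
  · rw [Cfsg.pResidual, closure_le]
    intro x hx
    exact (mem_iff_coprime_orderOf' N h1 h2 x).mpr hx

theorem hasNormalPComplement_iff_coprime [hp : Fact p.Prime] [Finite G] :
    Cfsg.HasNormalPComplement p G ↔ (Nat.card (Cfsg.pResidual p G)).Coprime p := by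
  constructor
  · intro h
    obtain ⟨N, hN, h1, h2⟩ := hasNormalPComplement_iff.mp h
    rw [← eq_pResidual N h1 h2]
    exact h1
  · intro h
    have := pResidual_normal p G
    exact hasNormalPComplement_iff.mpr
      ⟨Cfsg.pResidual p G, pResidual_normal p G, h, isPGroup_quotient_pResidual⟩

/-- The normal `p`-complement, complementing all Sylow subgroups, is `O^p(G)`. -/
theorem isComplement'_pResidual [hp : Fact p.Prime] [Finite G]
    (h : Cfsg.HasNormalPComplement p G) (P : Sylow p G) :
    (Cfsg.pResidual p G).IsComplement' (P : Subgroup G) := by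
  have := pResidual_normal p G
  exact isComplement'_of_coprime_of_isPGroup _ (hasNormalPComplement_iff_coprime.mp h)
    isPGroup_quotient_pResidual P

/-- Groups embedding in a group with a normal `p`-complement have one. -/
theorem of_injective [hp : Fact p.Prime] [Finite G] {H : Type*} [Group H] (f : H →* G)
    (hf : Function.Injective f) (h : Cfsg.HasNormalPComplement p G) :
    Cfsg.HasNormalPComplement p H := by
  have : Finite H := Finite.of_injective f hf
  obtain ⟨N, hN, h1, h2⟩ := hasNormalPComplement_iff.mp h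
  have : (N.comap f).Normal := hN.comap f
  refine hasNormalPComplement_iff.mpr ⟨N.comap f, this, ?_, ?_⟩
  · refine Nat.Coprime.coprime_dvd_left ?_ h1
    exact Subgroup.card_dvd_of_injective (f.subgroupComap N)
      (fun a b hab => Subtype.ext (hf (congrArg Subtype.val hab)))
  · rw [isPGroup_quotient_iff] at h2 ⊢
    intro g
    obtain ⟨k, hk⟩ := h2 (f g)
    exact ⟨k, by rwa [mem_comap, map_pow]⟩

theorem subgroup [hp : Fact p.Prime] [Finite G] (h : Cfsg.HasNormalPComplement p G)
    (H : Subgroup G) : Cfsg.HasNormalPComplement p H :=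
  of_injective H.subtype H.subtype_injective h

theorem of_surjective [hp : Fact p.Prime] [Finite G] {H : Type*} [Group H] (f : G →* H)
    (hf : Function.Surjective f) (h : Cfsg.HasNormalPComplement p G) :
    Cfsg.HasNormalPComplement p H := by
  have : Finite H := Finite.of_surjective f hf
  obtain ⟨N, hN, h1, h2⟩ := hasNormalPComplement_iff.mp h
  have : (N.map f).Normal := hN.map f hf
  refine hasNormalPComplement_iff.mpr ⟨N.map f, this, ?_, ?_⟩
  · exact Nat.Coprime.coprime_dvd_left (Subgroup.card_map_dvd N f) h1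
  · refine h2.of_surjective (QuotientGroup.map N (N.map f) f (le_comap_map f N)) ?_
    intro x
    obtain ⟨y, rfl⟩ := QuotientGroup.mk_surjective x
    obtain ⟨g, rfl⟩ := hf y
    exact ⟨g, rfl⟩

theorem quotient [hp : Fact p.Prime] [Finite G] (h : Cfsg.HasNormalPComplement p G)
    (N : Subgroup G) [N.Normal] : Cfsg.HasNormalPComplement p (G ⧸ N) :=
  of_surjective (QuotientGroup.mk' N) (QuotientGroup.mk'_surjective N) h

theorem congr [hp : Fact p.Prime] [Finite G] {H : Type*} [Group H] (e : G ≃* H) :
    Cfsg.HasNormalPComplement p G ↔ Cfsg.HasNormalPComplement p H :=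
  have : Finite H := Finite.of_equiv G e.toEquiv
  ⟨of_injective e.symm.toMonoidHom e.symm.injective, of_injective e.toMonoidHom e.injective⟩

/-- If `N` is a normal `p'`-subgroup and `G ⧸ N` has a normal `p`-complement, so has `G`. -/
theorem of_quotient [hp : Fact p.Prime] [Finite G] (N : Subgroup G) [N.Normal]
    (hN : (Nat.card N).Coprime p) (h : Cfsg.HasNormalPComplement p (G ⧸ N)) :
    Cfsg.HasNormalPComplement p G := by
  obtain ⟨M, hM, h1, h2⟩ := hasNormalPComplement_iff.mp h
  have : (M.comap (QuotientGroup.mk' N)).Normal := hM.comap _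
  refine hasNormalPComplement_iff.mpr ⟨M.comap (QuotientGroup.mk' N), this, ?_, ?_⟩
  · have h3 : Nat.card (M.comap (QuotientGroup.mk' N)) = Nat.card N * Nat.card M := by
      have h4 : N.relIndex (M.comap (QuotientGroup.mk' N)) = Nat.card M := by
        have h5 := Subgroup.relIndex_comap ⊥ (QuotientGroup.mk' N) (M.comap (QuotientGroup.mk' N))
        rw [MonoidHom.comap_bot, QuotientGroup.ker_mk',
          Subgroup.map_comap_eq_self_of_surjective (QuotientGroup.mk'_surjective N),
          Subgroup.relIndex_bot_left] at h5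
        exact h5
      rw [← h4]
      have h6 := Subgroup.relIndex_mul_relIndex ⊥ N (M.comap (QuotientGroup.mk' N)) bot_le
        (QuotientGroup.le_comap_mk' N M)
      rw [Subgroup.relIndex_bot_left, Subgroup.relIndex_bot_left] at h6
      exact h6.symm
    rw [h3]
    exact Nat.Coprime.mul_left hN h1
  · rw [isPGroup_quotient_iff] at h2 ⊢
    intro g
    obtain ⟨k, hk⟩ := h2 (g : G ⧸ N)
    exact ⟨k, hk⟩

end Cfsg.Agent.Transfer.NormalPComplement
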