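import Mathlib

set_option autoImplicit false

/-!
# Normal subgroups of finite `p`-groups

* `exists_mem_inf_center_orderOf` : a nontrivial normal subgroup of a finite `p`-group contains a
  central element of order `p`.
* `exists_normal_between` : between two normal subgroups of a finite `p`-group there are normal
  subgroups of every intermediate order `p ^ k`.
* `mul_pow_of_comm` : the class two power formula `(xy)^n = x^n y^n c^(n choose 2)`.
* `isCyclic_of_card_ker_pow_le` : an abelian finite `p`-group with at most `p` solutions of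
  `x ^ p = 1` is cyclic.
-/

namespace Cfsg.Agent.Transfer.PGroupNormal

open Subgroup

variable {G : Type*} [Group G]

/-- A nontrivial normal subgroup of a finite `p`-group contains a central element of order `p`. -/
theorem exists_mem_inf_center_orderOf [Finite G] {p : ℕ} [Fact p.Prime] (hG : IsPGroup p G)
    (K : Subgroup G) [K.Normal] (hK : K ≠ ⊥) :
    ∃ z ∈ K, z ∈ center G ∧ orderOf z = p := by
  have hnt : Nontrivial K := (Subgroup.nontrivial_iff_ne_bot K).mpr hK
  have hKp : IsPGroup p K := hG.to_subgroup K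
  obtain ⟨n, hn, hcard⟩ := hKp.nontrivial_iff_card.mp hnt
  have hdvd : p ∣ Nat.card K := hcard ▸ dvd_pow_self p hn.ne'
  have hconj : IsPGroup p (ConjAct G) := hG.of_equiv ConjAct.toConjAct
  have h1 : (1 : K) ∈ MulAction.fixedPoints (ConjAct G) K := fun g => smul_one g
  obtain ⟨b, hb, hb1⟩ :=
    hconj.exists_fixed_point_of_prime_dvd_card_of_fixed_point K hdvd h1
  have hbc : (b : G) ∈ center G := by
    rw [Subgroup.mem_center_iff]
    intro g
    have h2 := congrArg (Subtype.val) (hb (ConjAct.toConjAct g))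
    rw [ConjAct.Subgroup.val_conj_smul, ConjAct.toConjAct_smul] at h2
    rw [← h2]
    have h3 : g * (b : G) * g⁻¹ = b := h2
    rw [h3]
    calc g * (b : G) = (g * b * g⁻¹) * g := by group
      _ = b * g := by rw [h3]
  have hbne : (b : G) ≠ 1 := fun h => hb1 (Subtype.ext h.symm)
  have hint : Nontrivial (K ⊓ center G : Subgroup G) := by
    rw [Subgroup.nontrivial_iff_ne_bot]
    intro h
    have : (b : G) ∈ (K ⊓ center G : Subgroup G) := ⟨b.2, hbc⟩
    rw [h] at this
    exact hbne (Subgroup.mem_bot.mp this)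
  obtain ⟨m, hm, hcard2⟩ := (hG.to_subgroup (K ⊓ center G)).nontrivial_iff_card.mp hint
  have hdvd2 : p ∣ Nat.card (K ⊓ center G : Subgroup G) := hcard2 ▸ dvd_pow_self p hm.ne'
  obtain ⟨z, hz⟩ := exists_prime_orderOf_dvd_card' p hdvd2
  refine ⟨z, z.2.1, z.2.2, ?_⟩
  rw [← hz]
  exact Subgroup.orderOf_coe z

/-- The order of the preimage in `G` of a subgroup of `G ⧸ N`. -/
theorem card_comap_mk' [Finite G] (N : Subgroup G) [N.Normal] (H : Subgroup (G ⧸ N)) :
    Nat.card (H.comap (QuotientGroup.mk' N)) = Nat.card H * Nat.card N := by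
  have h1 : (H.comap (QuotientGroup.mk' N)).index = H.index :=
    H.index_comap_of_surjective (QuotientGroup.mk'_surjective N)
  have h2 := (H.comap (QuotientGroup.mk' N)).card_mul_index
  have h3 := H.card_mul_index
  have h4 := N.card_eq_card_quotient_mul_card_subgroup
  have h5 : 0 < H.index := Nat.pos_of_ne_zero H.index_ne_zero_of_finite
  apply Nat.eq_of_mul_eq_mul_right h5
  rw [h1] at h2
  rw [h2, h4, ← h3]
  ring

/-- One step: above a normal subgroup `N < K` of a finite `p`-group there is a normal `M ≤ K`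
with `|M| = p |N|`. -/
theorem exists_normal_step [Finite G] {p : ℕ} [Fact p.Prime] (hG : IsPGroup p G)
    {N K : Subgroup G} (hN : N.Normal) (hK : K.Normal) (hNK : N < K) :
    ∃ M : Subgroup G, M.Normal ∧ N ≤ M ∧ M ≤ K ∧ Nat.card M = Nat.card N * p := by
  have hK' : (K.map (QuotientGroup.mk' N)).Normal :=
    hK.map _ (QuotientGroup.mk'_surjective N)
  have hne : K.map (QuotientGroup.mk' N) ≠ ⊥ := by
    intro h
    rw [Subgroup.map_eq_bot_iff, QuotientGroup.ker_mk'] at h
    exact absurd h (not_le_of_gt hNK)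
  obtain ⟨z, hzK, hzc, hz⟩ :=
    exists_mem_inf_center_orderOf (hG.to_quotient N) (K.map (QuotientGroup.mk' N)) hne
  have hcn : (zpowers z).Normal := by
    constructor
    intro x hx g
    have hx' : x ∈ center (G ⧸ N) := (zpowers_le.mpr hzc) hx
    have := Subgroup.mem_center_iff.mp hx' g
    rw [this]
    simpa using hx
  refine ⟨(zpowers z).comap (QuotientGroup.mk' N), hcn.comap _, ?_, ?_, ?_⟩
  · intro x hx
    rw [Subgroup.mem_comap]
    have : QuotientGroup.mk' N x = 1 := (QuotientGroup.eq_one_iff x).mpr hx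
    rw [this]
    exact one_mem _
  · have h1 : (K.map (QuotientGroup.mk' N)).comap (QuotientGroup.mk' N) = K := by
      rw [Subgroup.comap_map_eq, QuotientGroup.ker_mk']
      exact sup_eq_left.mpr hNK.le
    rw [← h1]
    exact Subgroup.comap_mono (zpowers_le.mpr hzK)
  · rw [card_comap_mk', Nat.card_zpowers, hz, mul_comm]

/-- Between two normal subgroups `N ≤ K` of a finite `p`-group there are normal subgroups of every
intermediate order `p ^ k`. -/
theorem exists_normal_between [Finite G] {p : ℕ} [Fact p.Prime] (hG : IsPGroup p G)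
    {N K : Subgroup G} (hN : N.Normal) (hK : K.Normal) (hNK : N ≤ K) {k : ℕ}
    (h1 : Nat.card N ≤ p ^ k) (h2 : p ^ k ≤ Nat.card K) :
    ∃ M : Subgroup G, M.Normal ∧ N ≤ M ∧ M ≤ K ∧ Nat.card M = p ^ k := by
  have hp : p.Prime := Fact.out
  obtain ⟨a, ha⟩ := (hG.to_subgroup N).exists_card_eq
  induction hd : k - a generalizing N a with
  | zero =>
    have hak : a ≤ k := by
      rw [ha] at h1
      exact (Nat.pow_le_pow_iff_right hp.one_lt).mp h1
    have : a = k := by omega
    subst this
    exact ⟨N, hN, le_rfl, hNK, ha⟩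
  | succ d ih =>
    have hlt : N < K := by
      refine lt_of_le_of_ne hNK ?_
      rintro rfl
      rw [ha] at h2
      have := (Nat.pow_le_pow_iff_right hp.one_lt).mp h2
      omega
    obtain ⟨M, hM, hNM, hMK, hMc⟩ := exists_normal_step hG hN hK hlt
    have hMc' : Nat.card M = p ^ (a + 1) := by rw [hMc, ha, pow_succ]
    have hle : Nat.card M ≤ p ^ k := by
      rw [hMc']
      exact Nat.pow_le_pow_right hp.pos (by omega)
    obtain ⟨M', hM', h3, h4, h5⟩ := ih hM hMK hle (a + 1) hMc' (by omega)
    exact ⟨M', hM', hNM.trans h3, h4, h5⟩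

/-- A normal subgroup `K` of a finite `p`-group contains a normal subgroup of the whole group of
each order `p ^ k ≤ |K|`. -/
theorem exists_normal_le_card [Finite G] {p : ℕ} [Fact p.Prime] (hG : IsPGroup p G)
    {K : Subgroup G} (hK : K.Normal) {k : ℕ} (h2 : p ^ k ≤ Nat.card K) :
    ∃ M : Subgroup G, M.Normal ∧ M ≤ K ∧ Nat.card M = p ^ k := by
  obtain ⟨M, h3, -, h4, h5⟩ := exists_normal_between hG (N := ⊥) inferInstance hK bot_le
    (by rw [Subgroup.card_bot]; exact Nat.one_le_pow _ _ (Fact.out : p.Prime).pos) h2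
  exact ⟨M, h3, h4, h5⟩

/-- The class two power formula. -/
theorem mul_pow_of_comm {x y c : G} (h : y * x = x * y * c) (hx : Commute c x)
    (hy : Commute c y) (n : ℕ) : (x * y) ^ n = x ^ n * y ^ n * c ^ (n.choose 2) := by
  have key : ∀ n : ℕ, y ^ n * x = x * y ^ n * c ^ n := by
    intro n
    induction n with
    | zero => simp
    | succ n ih =>
      calc y ^ (n + 1) * x = y ^ n * (y * x) := by rw [pow_succ, mul_assoc]
        _ = y ^ n * x * y * c := by rw [h]; simp only [mul_assoc]
        _ = x * y ^ n * (c ^ n * y) * c := by rw [ih]; simp only [mul_assoc]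
        _ = x * y ^ n * (y * c ^ n) * c := by rw [(hy.pow_left n).eq]
        _ = x * y ^ (n + 1) * c ^ (n + 1) := by rw [pow_succ, pow_succ]; simp only [mul_assoc]
  induction n with
  | zero => simp
  | succ n ih =>
    have hch : (n + 1).choose 2 = n + n.choose 2 := by
      rw [Nat.choose_succ_succ' n 1, Nat.choose_one_right]
    calc (x * y) ^ (n + 1) = x ^ n * y ^ n * c ^ (n.choose 2) * (x * y) := by rw [pow_succ, ih]
      _ = x ^ n * y ^ n * (c ^ (n.choose 2) * (x * y)) := by simp only [mul_assoc]
      _ = x ^ n * y ^ n * ((x * y) * c ^ (n.choose 2)) := by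
          rw [((hx.mul_right hy).pow_left _).eq]
      _ = x ^ n * (y ^ n * x) * y * c ^ (n.choose 2) := by simp only [mul_assoc]
      _ = x ^ n * x * y ^ n * (c ^ n * y) * c ^ (n.choose 2) := by
          rw [key]; simp only [mul_assoc]
      _ = x ^ n * x * y ^ n * (y * c ^ n) * c ^ (n.choose 2) := by rw [(hy.pow_left n).eq]
      _ = x ^ (n + 1) * y ^ (n + 1) * c ^ ((n + 1).choose 2) := by
          rw [hch, pow_add c, pow_succ x, pow_succ y]; simp only [mul_assoc]

/-- For `p` odd: if `[y, x]` commutes with `x` and `y` and has order dividing `p`,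
then `(xy)^p = x^p y^p`. -/
theorem mul_pow_prime {p : ℕ} (hp : p.Prime) (hp2 : p ≠ 2) {x y c : G} (h : y * x = x * y * c)
    (hx : Commute c x) (hy : Commute c y) (hc : c ^ p = 1) : (x * y) ^ p = x ^ p * y ^ p := by
  rw [mul_pow_of_comm h hx hy]
  have : p ∣ p.choose 2 := hp.dvd_choose_self (by norm_num) (lt_of_le_of_ne hp.two_le (Ne.symm hp2))
  obtain ⟨m, hm⟩ := this
  rw [hm, pow_mul, hc, one_pow, mul_one]

/-- An abelian finite `p`-group with at most `p` solutions of `x ^ p = 1` is cyclic. -/
theorem isCyclic_of_card_ker_pow_le {A : Type*} [CommGroup A] [Finite A] {p : ℕ} [Fact p.Prime]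
    (hA : IsPGroup p A) (h : Nat.card (powMonoidHom p : A →* A).ker ≤ p) : IsCyclic A := by
  have hp : p.Prime := Fact.out
  have key : ∀ k : ℕ, Nat.card (powMonoidHom (p ^ k) : A →* A).ker ≤ p ^ k := by
    intro k
    induction k with
    | zero =>
      have : (powMonoidHom (p ^ 0) : A →* A).ker = ⊥ := by
        ext x; simp [MonoidHom.mem_ker]
      rw [this]; simp
    | succ k ih =>
      -- restrict `x ↦ x ^ p` to the kernel of `x ↦ x ^ (p ^ (k+1))`
      let f : (powMonoidHom (p ^ (k + 1)) : A →* A).ker →* A :=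
        (powMonoidHom p : A →* A).comp (powMonoidHom (p ^ (k + 1)) : A →* A).ker.subtype
      have h1 : Nat.card f.ker ≤ p := by
        refine le_trans ?_ h
        have : f.ker.map (powMonoidHom (p ^ (k + 1)) : A →* A).ker.subtype ≤
            (powMonoidHom p : A →* A).ker := by
          rintro _ ⟨x, hx, rfl⟩
          exact hx
        have h4 := Subgroup.card_map_of_injective (K := f.ker)
          (powMonoidHom (p ^ (k + 1)) : A →* A).ker.subtype_injective
        exact h4.symm.le.trans (Subgroup.card_le_of_le this)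
      have h2 : Nat.card f.range ≤ p ^ k := by
        refine le_trans ?_ ih
        apply Subgroup.card_le_of_le
        rintro _ ⟨x, rfl⟩
        have hx : ((x : A)) ^ (p ^ (k + 1)) = 1 := x.2
        show ((x : A) ^ p) ^ (p ^ k) = 1
        rw [← pow_mul, ← pow_succ']
        exact hx
      have h3 : Nat.card (powMonoidHom (p ^ (k + 1)) : A →* A).ker =
          Nat.card f.ker * Nat.card f.range := by
        rw [← Subgroup.index_ker, Subgroup.card_mul_index]
      rw [h3]
      exact (Nat.mul_le_mul h1 h2).trans (pow_succ' p k).symm.le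
  obtain ⟨e, he⟩ := (isPGroup_iff_exponent_eq_pow (p := p)).mp hA
  apply IsCyclic.of_exponent_eq_card
  apply le_antisymm
  · exact Nat.le_of_dvd Nat.card_pos (Group.exponent_dvd_nat_card)
  · have h1 : (powMonoidHom (p ^ e) : A →* A).ker = ⊤ := by
      rw [eq_top_iff]
      intro x _
      show x ^ (p ^ e) = 1
      rw [← he]
      exact Monoid.pow_exponent_eq_one x
    have h2 := key e
    rw [h1, Subgroup.card_top] at h2
    rw [he]; exact h2

end Cfsg.Agent.Transfer.PGroupNormal
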