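import Mathlib.GroupTheory.Commutator.Basic
import Mathlib.GroupTheory.PGroup
import Mathlib.GroupTheory.Nilpotent
import Mathlib.Data.Nat.Choose.Sum
import Mathlib.Data.Nat.Choose.Dvd
import Mathlib.Tactic

/-!
# Powers in groups of class at most three

`mul_pow_class_three`: with `c = ⁅y, x⁆`, `d = ⁅x, c⁆`, `e = ⁅y, c⁆` and `d`, `e` central,
`(x * y) ^ n = d ^ (C(n,2) + 2 C(n,3)) * e ^ C(n,3) * c ^ C(n,2) * x ^ n * y ^ n`.
-/

set_option autoImplicit false

open scoped commutatorElement

namespace Cfsg.Agent.Transfer.SmallClassPow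

variable {R : Type*} [Group R]

/-- `y ^ n * x = e ^ C(n,2) * c ^ n * x * y ^ n`. -/
theorem pow_mul_eq {x y c e : R} (hyx : y * x = c * x * y) (hyc : y * c = e * c * y)
    (he : ∀ g : R, g * e = e * g) (n : ℕ) :
    y ^ n * x = e ^ (n.choose 2) * c ^ n * x * y ^ n := by
  have hycn : ∀ k : ℕ, y * c ^ k = e ^ k * c ^ k * y := by
    intro k
    induction k with
    | zero => simp
    | succ k ih =>
      have hek : ∀ (k : ℕ) (g : R), g * e ^ k = e ^ k * g := fun k g =>
        ((show Commute g e from he g).pow_right k)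
      calc y * c ^ (k + 1) = (y * c ^ k) * c := by rw [pow_succ]; group
        _ = e ^ k * c ^ k * (y * c) := by rw [ih]; group
        _ = e ^ k * (c ^ k * e) * c * y := by rw [hyc]; group
        _ = e ^ k * (e * c ^ k) * c * y := by rw [he]
        _ = e ^ (k + 1) * c ^ (k + 1) * y := by rw [pow_succ, pow_succ]; group
  have hek : ∀ (k : ℕ) (g : R), g * e ^ k = e ^ k * g := fun k g =>
    ((show Commute g e from he g).pow_right k)
  induction n with
  | zero => simp
  | succ n ih =>
    calc y ^ (n + 1) * x = y * (y ^ n * x) := by rw [pow_succ']; group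
      _ = (y * e ^ (n.choose 2)) * c ^ n * x * y ^ n := by rw [ih]; group
      _ = e ^ (n.choose 2) * (y * c ^ n) * x * y ^ n := by rw [hek]; group
      _ = e ^ (n.choose 2) * e ^ n * c ^ n * (y * x) * y ^ n := by rw [hycn]; group
      _ = e ^ (n.choose 2) * e ^ n * c ^ n * (c * x * y) * y ^ n := by rw [hyx]
      _ = (e ^ (n.choose 2) * e ^ n) * (c ^ n * c) * x * (y * y ^ n) := by
        simp only [mul_assoc]
      _ = e ^ ((n + 1).choose 2) * c ^ (n + 1) * x * y ^ (n + 1) := by
        rw [← pow_add, ← pow_succ, ← pow_succ', Nat.choose_succ_succ' n 1, Nat.choose_one_right,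
          add_comm n (n.choose _)]

/-- The collection formula in class three. -/
theorem mul_pow_class_three {x y c d e : R} (hyx : y * x = c * x * y) (hxc : x * c = d * c * x)
    (hyc : y * c = e * c * y) (hd : ∀ g : R, g * d = d * g) (he : ∀ g : R, g * e = e * g)
    (n : ℕ) :
    (x * y) ^ n = d ^ (n.choose 2 + 2 * n.choose 3) * e ^ (n.choose 3) * c ^ (n.choose 2)
      * x ^ n * y ^ n := by
  have hdk : ∀ (k : ℕ) (g : R), g * d ^ k = d ^ k * g := fun k g =>
    ((show Commute g d from hd g).pow_right k)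
  have hek : ∀ (k : ℕ) (g : R), g * e ^ k = e ^ k * g := fun k g =>
    ((show Commute g e from he g).pow_right k)
  -- `x * c ^ k = d ^ k * c ^ k * x`
  have hxck : ∀ k : ℕ, x * c ^ k = d ^ k * c ^ k * x := by
    intro k
    induction k with
    | zero => simp
    | succ k ih =>
      calc x * c ^ (k + 1) = (x * c ^ k) * c := by rw [pow_succ]; group
        _ = d ^ k * c ^ k * (x * c) := by rw [ih]; group
        _ = d ^ k * (c ^ k * d) * c * x := by rw [hxc]; group
        _ = d ^ k * (d * c ^ k) * c * x := by rw [hd]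
        _ = d ^ (k + 1) * c ^ (k + 1) * x := by rw [pow_succ, pow_succ]; group
  have hxmck : ∀ m k : ℕ, x ^ m * c ^ k = d ^ (m * k) * c ^ k * x ^ m := by
    intro m k
    induction m with
    | zero => simp
    | succ m ih =>
      calc x ^ (m + 1) * c ^ k = x * (x ^ m * c ^ k) := by rw [pow_succ']; group
        _ = (x * d ^ (m * k)) * c ^ k * x ^ m := by rw [ih]; group
        _ = d ^ (m * k) * (x * c ^ k) * x ^ m := by rw [hdk]; group
        _ = (d ^ (m * k) * d ^ k) * c ^ k * (x * x ^ m) := by rw [hxck]; group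
        _ = d ^ ((m + 1) * k) * c ^ k * x ^ (m + 1) := by
          rw [← pow_add, ← pow_succ', add_mul, one_mul]
  induction n with
  | zero => simp
  | succ n ih =>
    have h2 : (n + 1).choose 2 = n.choose 2 + n := by
      rw [Nat.choose_succ_succ' n 1, Nat.choose_one_right, add_comm n]
    have h3 : (n + 1).choose 3 = n.choose 3 + n.choose 2 := by
      rw [Nat.choose_succ_succ' n 2, add_comm (n.choose 2)]
    have hsq : n * n = n + 2 * n.choose 2 := by
      rcases n with _ | n
      · simp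
      · have := Nat.choose_two_right (n + 1)
        have h4 : 2 * (n + 1).choose 2 = (n + 1) * n := by
          have h5 := Nat.triangle_succ n
          have h6 : (n + 1) * (n + 1 - 1) / 2 = (n + 1).choose 2 := this.symm
          rw [this]
          simp only [Nat.add_sub_cancel]
          exact Nat.mul_div_cancel' (Nat.even_mul_pred_self (n + 1)).two_dvd
        rw [h4]; ring
    calc (x * y) ^ (n + 1) = (x * y) ^ n * (x * y) := pow_succ _ _
      _ = d ^ (n.choose 2 + 2 * n.choose 3) * e ^ (n.choose 3) * c ^ (n.choose 2)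
            * x ^ n * (y ^ n * x) * y := by rw [ih]; group
      _ = d ^ (n.choose 2 + 2 * n.choose 3) * e ^ (n.choose 3) * c ^ (n.choose 2)
            * (x ^ n * e ^ (n.choose 2)) * c ^ n * x * y ^ n * y := by
          rw [pow_mul_eq hyx hyc he n]; group
      _ = d ^ (n.choose 2 + 2 * n.choose 3) * e ^ (n.choose 3) * (c ^ (n.choose 2)
            * e ^ (n.choose 2)) * (x ^ n * c ^ n) * x * y ^ n * y := by
          rw [hek (n.choose 2) (x ^ n)]; group
      _ = d ^ (n.choose 2 + 2 * n.choose 3) * (e ^ (n.choose 3) * e ^ (n.choose 2)) *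
            (c ^ (n.choose 2) * d ^ (n * n)) * c ^ n * x ^ n * x * y ^ n * y := by
          rw [hxmck, hek (n.choose 2) (c ^ (n.choose 2))]; group
      _ = d ^ (n.choose 2 + 2 * n.choose 3) * ((e ^ (n.choose 3) * e ^ (n.choose 2)) *
            d ^ (n * n)) * (c ^ (n.choose 2) * c ^ n) * (x ^ n * x) * (y ^ n * y) := by
          rw [hdk (n * n) (c ^ (n.choose 2))]; group
      _ = (d ^ (n.choose 2 + 2 * n.choose 3) * d ^ (n * n)) * (e ^ (n.choose 3) *
            e ^ (n.choose 2)) * (c ^ (n.choose 2) * c ^ n) * (x ^ n * x) * (y ^ n * y) := by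
          rw [hdk (n * n)]; group
      _ = d ^ ((n + 1).choose 2 + 2 * (n + 1).choose 3) * e ^ ((n + 1).choose 3) *
            c ^ ((n + 1).choose 2) * x ^ (n + 1) * y ^ (n + 1) := by
          rw [← pow_add, ← pow_add, ← pow_add, ← pow_succ, ← pow_succ, hsq, h2, h3]
          congr 4
          congr 1
          ring

/-- `a ^ n * b = d ^ n * b * a ^ n` when `a * b = d * b * a` with `d` central. -/
theorem pow_mul_central {a b d : R} (hab : a * b = d * b * a) (hd : ∀ g : R, g * d = d * g)
    (n : ℕ) : a ^ n * b = d ^ n * b * a ^ n := by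
  have hdk : ∀ (k : ℕ) (g : R), g * d ^ k = d ^ k * g := fun k g =>
    ((show Commute g d from hd g).pow_right k)
  induction n with
  | zero => simp
  | succ n ih =>
    calc a ^ (n + 1) * b = a * (a ^ n * b) := by rw [pow_succ']; group
      _ = (a * d ^ n) * b * a ^ n := by rw [ih]; group
      _ = d ^ n * (a * b) * a ^ n := by rw [hdk]; group
      _ = (d ^ n * d) * b * (a * a ^ n) := by rw [hab]; group
      _ = d ^ (n + 1) * b * a ^ (n + 1) := by rw [← pow_succ, ← pow_succ']

/-- The data of the collection formula, for `p ≠ 2` and class two, or `p > 3` and class three. -/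
theorem exists_collect {p : ℕ} (hpr : p.Prime)
    (hcl : (p ≠ 2 ∧ ⁅commutator R, (⊤ : Subgroup R)⁆ = ⊥) ∨
      (3 < p ∧ ⁅⁅commutator R, (⊤ : Subgroup R)⁆, (⊤ : Subgroup R)⁆ = ⊥)) (x y : R) :
    ∃ c d e : R, y * x = c * x * y ∧ x * c = d * c * x ∧ y * c = e * c * y ∧
      (∀ g : R, g * d = d * g) ∧ (∀ g : R, g * e = e * g) ∧
      c ∈ commutator R ∧ d ∈ commutator R ∧ e ∈ commutator R ∧ p ∣ p.choose 2 ∧
      ((d = 1 ∧ e = 1) ∨ p ∣ p.choose 3) := by
  have hc : ⁅y, x⁆ ∈ commutator R := by
    rw [commutator_def]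
    exact Subgroup.commutator_mem_commutator (Subgroup.mem_top _) (Subgroup.mem_top _)
  have hd : ⁅x, ⁅y, x⁆⁆ ∈ commutator R := by
    rw [commutator_def]
    exact Subgroup.commutator_mem_commutator (Subgroup.mem_top _) (Subgroup.mem_top _)
  have he : ⁅y, ⁅y, x⁆⁆ ∈ commutator R := by
    rw [commutator_def]
    exact Subgroup.commutator_mem_commutator (Subgroup.mem_top _) (Subgroup.mem_top _)
  have hd' : ⁅x, ⁅y, x⁆⁆ ∈ ⁅commutator R, (⊤ : Subgroup R)⁆ := by
    rw [← commutatorElement_inv]
    exact inv_mem (Subgroup.commutator_mem_commutator hc (Subgroup.mem_top _))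
  have he' : ⁅y, ⁅y, x⁆⁆ ∈ ⁅commutator R, (⊤ : Subgroup R)⁆ := by
    rw [← commutatorElement_inv]
    exact inv_mem (Subgroup.commutator_mem_commutator hc (Subgroup.mem_top _))
  have hp2 : 2 < p := by
    rcases hcl with h | h
    · exact lt_of_le_of_ne hpr.two_le (Ne.symm h.1)
    · omega
  refine ⟨⁅y, x⁆, ⁅x, ⁅y, x⁆⁆, ⁅y, ⁅y, x⁆⁆, ?_, ?_, ?_, ?_, ?_, hc, hd, he,
    hpr.dvd_choose_self (by norm_num) hp2, ?_⟩
  · rw [commutatorElement_def]; group
  · rw [commutatorElement_def x]; group
  · rw [commutatorElement_def y ⁅y, x⁆]; group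
  · intro g
    rcases hcl with h | h
    · rw [h.2, Subgroup.mem_bot] at hd'
      rw [hd', mul_one, one_mul]
    · have h1 := Subgroup.commutator_eq_bot_iff_le_centralizer.mp h.2 hd'
      rw [Subgroup.mem_centralizer_iff] at h1
      exact h1 g (Subgroup.mem_top g)
  · intro g
    rcases hcl with h | h
    · rw [h.2, Subgroup.mem_bot] at he'
      rw [he', mul_one, one_mul]
    · have h1 := Subgroup.commutator_eq_bot_iff_le_centralizer.mp h.2 he'
      rw [Subgroup.mem_centralizer_iff] at h1
      exact h1 g (Subgroup.mem_top g)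
  · rcases hcl with h | h
    · left
      rw [h.2, Subgroup.mem_bot] at hd' he'
      exact ⟨hd', he'⟩
    · right
      exact hpr.dvd_choose_self (by norm_num) h.1

/-- In a group of class at most two with `p` odd, or at most three with `p > 3`, the product of
two elements of order dividing `p` has order dividing `p`. -/
theorem mul_pow_eq_one_of_small_class {p : ℕ} (hpr : p.Prime)
    (hcl : (p ≠ 2 ∧ ⁅commutator R, (⊤ : Subgroup R)⁆ = ⊥) ∨
      (3 < p ∧ ⁅⁅commutator R, (⊤ : Subgroup R)⁆, (⊤ : Subgroup R)⁆ = ⊥)) {x y : R}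
    (hx : x ^ p = 1) (hy : y ^ p = 1) : (x * y) ^ p = 1 := by
  obtain ⟨c, d, e, hyx, hxc, hyc, hd, he, -, -, -, h2, h3⟩ := exists_collect hpr hcl x y
  have hdp : d ^ p = 1 := by
    have h := pow_mul_central hxc hd p
    rw [hx, one_mul, mul_one] at h
    exact mul_eq_right.mp h.symm
  have hep : e ^ p = 1 := by
    have h := pow_mul_central hyc he p
    rw [hy, one_mul, mul_one] at h
    exact mul_eq_right.mp h.symm
  have pow_dvd : ∀ (g : R) (m : ℕ), g ^ p = 1 → p ∣ m → g ^ m = 1 := by
    rintro g m hg ⟨k, rfl⟩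
    rw [pow_mul, hg, one_pow]
  have hcp : c ^ p = 1 := by
    have h := pow_mul_eq hyx hyc he p
    rw [hy, one_mul, mul_one, pow_dvd e _ hep h2, one_mul] at h
    exact mul_eq_right.mp h.symm
  rw [mul_pow_class_three hyx hxc hyc hd he p, hx, hy, pow_dvd c _ hcp h2, mul_one, mul_one,
    mul_one]
  rcases h3 with ⟨rfl, rfl⟩ | h3
  · simp
  · rw [pow_dvd e _ hep h3, pow_dvd d _ hdp (dvd_add h2 (h3.mul_left 2)), mul_one]

/-- In a group of class at most two with `p` odd, or at most three with `p > 3`, the elements of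
order dividing `p` generate a subgroup of exponent dividing `p`. -/
theorem pow_eq_one_of_mem_closure {p : ℕ} (hpr : p.Prime)
    (hcl : (p ≠ 2 ∧ ⁅commutator R, (⊤ : Subgroup R)⁆ = ⊥) ∨
      (3 < p ∧ ⁅⁅commutator R, (⊤ : Subgroup R)⁆, (⊤ : Subgroup R)⁆ = ⊥)) {g : R}
    (hg : g ∈ Subgroup.closure {x : R | x ^ p = 1}) : g ^ p = 1 := by
  induction hg using Subgroup.closure_induction with
  | mem x hx => exact hx
  | one => exact one_pow p
  | mul x y _ _ hx hy => exact mul_pow_eq_one_of_small_class hpr hcl hx hy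
  | inv x _ hx => rw [inv_pow, hx, inv_one]

/-- In a group of class at most two with `p` odd, or at most three with `p > 3`, whose derived
subgroup has exponent dividing `p`, the `p`-th power map is multiplicative. -/
theorem mul_pow_of_small_class {p : ℕ} (hpr : p.Prime)
    (hcl : (p ≠ 2 ∧ ⁅commutator R, (⊤ : Subgroup R)⁆ = ⊥) ∨
      (3 < p ∧ ⁅⁅commutator R, (⊤ : Subgroup R)⁆, (⊤ : Subgroup R)⁆ = ⊥))
    (hder : ∀ g ∈ commutator R, g ^ p = 1) (x y : R) : (x * y) ^ p = x ^ p * y ^ p := by
  obtain ⟨c, d, e, hyx, hxc, hyc, hd, he, hc', hd', he', h2, h3⟩ := exists_collect hpr hcl x y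
  have pow_dvd : ∀ (g : R) (m : ℕ), g ^ p = 1 → p ∣ m → g ^ m = 1 := by
    rintro g m hg ⟨k, rfl⟩
    rw [pow_mul, hg, one_pow]
  rw [mul_pow_class_three hyx hxc hyc hd he p, pow_dvd c _ (hder c hc') h2, mul_one]
  rcases h3 with ⟨rfl, rfl⟩ | h3
  · simp
  · rw [pow_dvd e _ (hder e he') h3, pow_dvd d _ (hder d hd') (dvd_add h2 (h3.mul_left 2)),
      mul_one, one_mul]

end Cfsg.Agent.Transfer.SmallClassPow
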