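import Mathlib
import Cfsg.Prelude.Def_Transfer
import Cfsg.Agent.Transfer.CentralComm

/-!
# Groups with central derived subgroup of prime order; extraspecial groups

If `P' ≤ Z(P)` and `|P'|` divides the prime `p` then `|P : Z(P)| = p^(2n)`: for `x, y` with `[x, y] ≠ 1` one has
`P = ⟨x, y⟩ C_P(x, y)`, `|P : C_P(x, y)| = p^2` and `Z(C_P(x, y)) = Z(P)`.
-/

set_option autoImplicit false

namespace Cfsg.Agent.Transfer.Extraspecial

open Subgroup
open scoped commutatorElement
open Cfsg.Agent.Transfer.CentralComm

variable {G : Type*} [Group G]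

theorem comm_mem (a b : G) : ⁅a, b⁆ ∈ commutator G :=
  commutator_mem_commutator (mem_top a) (mem_top b)

/-- In class two, commutation with `x` on the right is a homomorphism into the derived subgroup. -/
def commHom' (hc : ∀ a b : G, ⁅a, b⁆ ∈ center G) (x : G) : G →* commutator G where
  toFun g := ⟨⁅g, x⁆, comm_mem g x⟩
  map_one' := by ext; simp
  map_mul' a b := by ext; simpa using comm_mul_left hc a b x

theorem coe_commHom' (hc : ∀ a b : G, ⁅a, b⁆ ∈ center G) (x g : G) :
    ((commHom' hc x g : commutator G) : G) = ⁅g, x⁆ := rfl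

theorem mem_ker_commHom' (hc : ∀ a b : G, ⁅a, b⁆ ∈ center G) {x g : G} :
    g ∈ (commHom' hc x).ker ↔ g * x = x * g := by
  rw [MonoidHom.mem_ker, Subtype.ext_iff, coe_commHom', coe_one,
    commutatorElement_eq_one_iff_mul_comm]

section PrimeDerived

variable {p : ℕ} [hp : Fact p.Prime]

/-- If the derived subgroup has prime order, any nontrivial element of it generates it. -/
theorem exists_zpow_eq (hcard : Nat.card (commutator G) = p) {c z : G} (hcc : c ∈ commutator G)
    (hne : c ≠ 1) (hz : z ∈ commutator G) : ∃ i : ℤ, c ^ i = z := by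
  have h1 : (⟨c, hcc⟩ : commutator G) ≠ 1 := fun h => hne (congrArg Subtype.val h)
  have h2 : (⟨z, hz⟩ : commutator G) ∈ zpowers (⟨c, hcc⟩ : commutator G) :=
    mem_zpowers_of_prime_card hcard h1
  obtain ⟨i, hi⟩ := mem_zpowers_iff.mp h2
  exact ⟨i, by simpa using congrArg Subtype.val hi⟩

/-- If `|G'| = p` is prime, `G' ≤ Z(G)` and `[x, y] ≠ 1`, every element is a product of an element commuting with
`x` and `y` with powers of `x` and `y`. -/
theorem exists_mul_zpow_mem (hc : ∀ a b : G, ⁅a, b⁆ ∈ center G)
    (hcard : Nat.card (commutator G) = p) {x y : G} (hxy : ⁅x, y⁆ ≠ 1) (u : G) :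
    ∃ i j : ℤ, u * x ^ i * y ^ j ∈ centralizer {x, y} := by
  have hyx : ⁅y, x⁆ ≠ 1 := by
    rw [← commutatorElement_inv]
    exact inv_ne_one.mpr hxy
  obtain ⟨i, hi⟩ := exists_zpow_eq hcard (comm_mem x y) hxy (inv_mem (comm_mem u y))
  obtain ⟨j, hj⟩ := exists_zpow_eq hcard (comm_mem y x) hyx (inv_mem (comm_mem u x))
  refine ⟨i, j, ?_⟩
  rw [mem_centralizer_iff]
  intro h hh
  rw [eq_comm, ← commutatorElement_eq_one_iff_mul_comm, comm_mul_left hc, comm_mul_left hc,
    comm_zpow_left hc, comm_zpow_left hc]
  rcases hh with rfl | hh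
  · rw [hj, commutatorElement_self, one_zpow, mul_one, mul_inv_cancel]
  · rw [Set.mem_singleton_iff] at hh
    subst hh
    rw [hi, commutatorElement_self, one_zpow, mul_one, mul_inv_cancel]

/-- If `|G'| = p` is prime, `G' ≤ Z(G)` and `[x, y] ≠ 1`, then `C_G(x, y)` has index `p^2`. -/
theorem index_centralizer_pair (hc : ∀ a b : G, ⁅a, b⁆ ∈ center G)
    (hcard : Nat.card (commutator G) = p) {x y : G} (hxy : ⁅x, y⁆ ≠ 1) :
    (centralizer {x, y}).index = p ^ 2 := by
  have hyx : ⁅y, x⁆ ≠ 1 := by
    rw [← commutatorElement_inv]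
    exact inv_ne_one.mpr hxy
  let f : G →* commutator G × commutator G := (commHom' hc x).prod (commHom' hc y)
  have hker : f.ker = centralizer {x, y} := by
    ext g
    rw [MonoidHom.ker_prod, mem_inf, mem_ker_commHom', mem_ker_commHom', mem_centralizer_iff]
    constructor
    · rintro ⟨h1, h2⟩ h hh
      rcases hh with rfl | hh
      · exact h1.symm
      · rw [Set.mem_singleton_iff] at hh
        subst hh
        exact h2.symm
    · intro h
      exact ⟨(h x (by simp)).symm, (h y (by simp)).symm⟩
  have hsurj : Function.Surjective f := by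
    rintro ⟨⟨a, ha⟩, ⟨b, hb⟩⟩
    obtain ⟨i, hi⟩ := exists_zpow_eq hcard (comm_mem x y) hxy hb
    obtain ⟨j, hj⟩ := exists_zpow_eq hcard (comm_mem y x) hyx ha
    refine ⟨x ^ i * y ^ j, ?_⟩
    apply Prod.ext
    · apply Subtype.ext
      show ⁅x ^ i * y ^ j, x⁆ = a
      rw [comm_mul_left hc, comm_zpow_left hc, comm_zpow_left hc, commutatorElement_self, one_zpow,
        one_mul, hj]
    · apply Subtype.ext
      show ⁅x ^ i * y ^ j, y⁆ = b
      rw [comm_mul_left hc, comm_zpow_left hc, comm_zpow_left hc, commutatorElement_self, one_zpow,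
        mul_one, hi]
  rw [← hker, index_ker, MonoidHom.range_eq_top.mpr hsurj, card_top, Nat.card_prod, hcard, sq]

/-- If `|G'| = p` is prime, `G' ≤ Z(G)` and `[x, y] ≠ 1`, then the centre of `C_G(x, y)` is the centre of `G`. -/
theorem center_centralizer_pair (hc : ∀ a b : G, ⁅a, b⁆ ∈ center G)
    (hcard : Nat.card (commutator G) = p) {x y : G} (hxy : ⁅x, y⁆ ≠ 1) :
    center (centralizer {x, y}) = (center G).subgroupOf (centralizer {x, y}) := by
  ext ⟨g, hg⟩
  rw [mem_subgroupOf, mem_center_iff, mem_center_iff]
  constructor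
  · intro h u
    obtain ⟨i, j, hij⟩ := exists_mul_zpow_mem hc hcard hxy u
    have h1 : Commute g (u * x ^ i * y ^ j) := (congrArg Subtype.val (h ⟨_, hij⟩)).symm
    have hx : Commute g x := (mem_centralizer_iff.mp hg x (by simp)).symm
    have hy : Commute g y := (mem_centralizer_iff.mp hg y (by simp)).symm
    have h2 : Commute g (u * x ^ i) := by
      have := h1.mul_right ((hy.zpow_right j).inv_right)
      simpa using this
    have h3 : Commute g u := by
      have := h2.mul_right ((hx.zpow_right i).inv_right)
      simpa using this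
    exact h3.symm
  · intro h u
    apply Subtype.ext
    exact h u

end PrimeDerived

/-- The derived subgroup of a subgroup embeds in the derived subgroup. -/
theorem card_commutator_subgroup_dvd (Q : Subgroup G) :
    Nat.card (commutator Q) ∣ Nat.card (commutator G) := by
  have h1 : (commutator Q).map Q.subtype ≤ commutator G := by
    rw [commutator_def, commutator_def, map_commutator]
    exact commutator_mono le_top le_top
  have h2 : Nat.card ((commutator Q).map Q.subtype) = Nat.card (commutator Q) :=
    card_map_of_injective Q.subtype_injective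
  rw [← h2]
  exact card_dvd_of_le h1

/-- If `P' ≤ Z(P)` and `|P'|` divides the prime `p` then `|P : Z(P)| = p^(2n)` for some `n`. -/
theorem exists_index_center_eq {p : ℕ} [hp : Fact p.Prime] :
    ∀ (k : ℕ) {P : Type*} [Group P] [Finite P], Nat.card P = k →
      (∀ a b : P, ⁅a, b⁆ ∈ center P) → Nat.card (commutator P) ∣ p →
      ∃ n : ℕ, (center P).index = p ^ (2 * n) := by
  intro k
  induction k using Nat.strong_induction_on with
  | _ k ih =>
  intro P _ _ hk hc hd
  by_cases hab : ∀ x y : P, ⁅x, y⁆ = 1
  · refine ⟨0, ?_⟩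
    rw [mul_zero, pow_zero, index_eq_one, eq_top_iff]
    intro x _
    rw [mem_center_iff]
    intro g
    exact commutatorElement_eq_one_iff_mul_comm.mp (hab g x)
  · push Not at hab
    obtain ⟨x, y, hxy⟩ := hab
    have hcard : Nat.card (commutator P) = p := by
      rcases (Nat.dvd_prime hp.out).mp hd with h1 | h1
      · exfalso
        have h2 : commutator P = ⊥ := card_eq_one.mp h1
        have h3 := comm_mem x y
        rw [h2, mem_bot] at h3
        exact hxy h3
      · exact h1
    set Q : Subgroup P := centralizer {x, y} with hQ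
    have hidx : Q.index = p ^ 2 := index_centralizer_pair hc hcard hxy
    have hcen : center Q = (center P).subgroupOf Q := center_centralizer_pair hc hcard hxy
    have hle : center P ≤ Q := center_le_centralizer _
    have hlt : Nat.card Q < k := by
      have h1 := Q.card_mul_index
      rw [hidx, hk] at h1
      have h2 : 1 < p ^ 2 := Nat.one_lt_pow (by norm_num) hp.out.one_lt
      have h3 : 0 < Nat.card Q := Nat.card_pos
      nlinarith
    have hcQ : ∀ a b : Q, ⁅a, b⁆ ∈ center Q := by
      intro a b
      rw [hcen, mem_subgroupOf]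
      exact hc a b
    obtain ⟨n, hn⟩ := ih (Nat.card Q) hlt (P := Q) rfl hcQ
      ((card_commutator_subgroup_dvd Q).trans hd)
    refine ⟨n + 1, ?_⟩
    have h4 : (center P).relIndex Q * Q.index = (center P).index := relIndex_mul_index hle
    rw [relIndex, ← hcen, hn, hidx] at h4
    rw [← h4]
    ring

section IsExtraspecial

variable {p : ℕ} {E : Type*} [Group E]

theorem comm_mem_center (h : Cfsg.IsExtraspecial p E) (a b : E) : ⁅a, b⁆ ∈ center E :=
  comm_mem_center_of_le h.1.2.2.le a b

theorem commutator_eq_center (h : Cfsg.IsExtraspecial p E) : commutator E = center E := h.1.2.2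

theorem card_commutator (h : Cfsg.IsExtraspecial p E) : Nat.card (commutator E) = p := by
  rw [commutator_eq_center h]
  exact h.2

theorem card_center (h : Cfsg.IsExtraspecial p E) : Nat.card (center E) = p := h.2

/-- Central elements of an extraspecial `p`-group have order dividing `p`. -/
theorem pow_eq_one_of_mem_center (h : Cfsg.IsExtraspecial p E) {z : E} (hz : z ∈ center E) :
    z ^ p = 1 := by
  have h1 : (⟨z, hz⟩ : center E) ^ Nat.card (center E) = 1 := pow_card_eq_one'
  rw [h.2] at h1
  simpa using congrArg Subtype.val h1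

theorem comm_pow_eq_one (h : Cfsg.IsExtraspecial p E) (a b : E) : ⁅a, b⁆ ^ p = 1 :=
  pow_eq_one_of_mem_center h (comm_mem_center h a b)

/-- `x^p` is central in an extraspecial `p`-group. -/
theorem pow_mem_center (h : Cfsg.IsExtraspecial p E) (x : E) : x ^ p ∈ center E := by
  rw [mem_center_iff]
  intro g
  rw [← commutatorElement_eq_one_iff_mul_comm, comm_pow_right (comm_mem_center h),
    comm_pow_eq_one h]

/-- An extraspecial group is not commutative. -/
theorem exists_comm_ne_one (hp : p ≠ 1) (h : Cfsg.IsExtraspecial p E) : ∃ x y : E, ⁅x, y⁆ ≠ 1 := by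
  by_contra hcon
  push Not at hcon
  apply hp
  rw [← card_commutator h, card_eq_one]
  rw [commutator_def, commutator_eq_bot_iff_le_centralizer]
  intro x _
  rw [mem_centralizer_iff]
  intro y _
  exact commutatorElement_eq_one_iff_mul_comm.mp (hcon y x)

/-- The order of an extraspecial `p`-group is `p^(2n+1)` with `n ≥ 1`. -/
theorem exists_card_eq [Finite E] (hp : p.Prime) (h : Cfsg.IsExtraspecial p E) :
    ∃ n : ℕ, 1 ≤ n ∧ Nat.card E = p ^ (2 * n + 1) := by
  have : Fact p.Prime := ⟨hp⟩
  obtain ⟨n, hn⟩ := exists_index_center_eq (p := p) (Nat.card E) (P := E) rfl (comm_mem_center h)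
    (card_commutator h).dvd
  refine ⟨n, ?_, ?_⟩
  · by_contra hlt
    have h0 : n = 0 := by omega
    subst h0
    rw [mul_zero, pow_zero, index_eq_one] at hn
    obtain ⟨x, y, hxy⟩ := exists_comm_ne_one hp.one_lt.ne' h
    apply hxy
    rw [commutatorElement_eq_one_iff_mul_comm]
    have : y ∈ center E := hn ▸ mem_top y
    exact mem_center_iff.mp this x
  · rw [← (center E).card_mul_index, hn, card_center h]
    ring

/-- For `p` odd, the `p`-th power map of an extraspecial `p`-group is a homomorphism. -/
theorem mul_pow_eq (hp : p.Prime) (h2 : p ≠ 2) (h : Cfsg.IsExtraspecial p E) (a b : E) :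
    (a * b) ^ p = a ^ p * b ^ p :=
  mul_pow_prime (comm_mem_center h) hp h2 (comm_pow_eq_one h b a)

/-- For `p` odd, the `p`-th power map of an extraspecial `p`-group, as a homomorphism into the centre. -/
def powHom (hp : p.Prime) (h2 : p ≠ 2) (h : Cfsg.IsExtraspecial p E) : E →* center E where
  toFun g := ⟨g ^ p, pow_mem_center h g⟩
  map_one' := by ext; simp
  map_mul' a b := by ext; simpa using mul_pow_eq hp h2 h a b

theorem mem_ker_powHom (hp : p.Prime) (h2 : p ≠ 2) (h : Cfsg.IsExtraspecial p E) {g : E} :
    g ∈ (powHom hp h2 h).ker ↔ g ^ p = 1 := by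
  rw [MonoidHom.mem_ker, Subtype.ext_iff]
  rfl

/-- For `p` odd, the elements of order dividing `p` generate a subgroup of index at most `p`. -/
theorem index_closure_le [Finite E] (hp : p.Prime) (h2 : p ≠ 2) (h : Cfsg.IsExtraspecial p E) :
    (closure {x : E | x ^ p = 1}).index ≤ p := by
  have hle : (powHom hp h2 h).ker ≤ closure {x : E | x ^ p = 1} := by
    intro g hg
    exact subset_closure ((mem_ker_powHom hp h2 h).mp hg)
  have h3 : (powHom hp h2 h).ker.index ≤ p := by
    rw [index_ker]
    exact (card_le_card_group _).trans (card_center h).le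
  have h4 : (closure {x : E | x ^ p = 1}).index ∣ (powHom hp h2 h).ker.index := index_dvd_of_le hle
  exact (Nat.le_of_dvd (Nat.pos_of_ne_zero index_ne_zero_of_finite) h4).trans h3

end IsExtraspecial

end Cfsg.Agent.Transfer.Extraspecial
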