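import Mathlib

set_option autoImplicit false

namespace Cfsg.Agent.Transfer.TausskyTwoGroup

open Subgroup
open scoped commutatorElement

universe u

theorem normal_of_le_center {X : Type*} [Group X] {Z : Subgroup X} (h : Z ≤ center X) :
    Z.Normal := by
  refine ⟨fun z hz g => ?_⟩
  rw [Subgroup.mem_center_iff.1 (h hz) g, mul_assoc, mul_inv_cancel, mul_one]
  exact hz

/-- A nontrivial normal subgroup of a finite `p`-group meets the centre nontrivially. -/
theorem exists_ne_one_mem_inf_center {p : ℕ} [Fact p.Prime] {X : Type*} [Group X] [Finite X]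
    (hp : IsPGroup p X) (N : Subgroup X) [N.Normal] (hN : N ≠ ⊥) :
    ∃ z ∈ N, z ∈ center X ∧ z ≠ 1 := by
  classical
  -- conjugation action of `X` on `N`
  have hcard : p ∣ Nat.card N := by
    obtain ⟨k, hk⟩ := IsPGroup.iff_card.1 (hp.to_subgroup N)
    have hk0 : k ≠ 0 := by
      rintro rfl
      rw [pow_zero] at hk
      exact hN (Subgroup.eq_bot_of_card_eq N hk)
    rw [hk]
    exact dvd_pow_self p hk0
  have hX : IsPGroup p (ConjAct X) := hp.of_equiv ConjAct.toConjAct
  obtain ⟨z, hz, hz1⟩ := hX.exists_fixed_point_of_prime_dvd_card_of_fixed_point N hcard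
    (a := 1) (by intro g; ext; simp)
  refine ⟨z, z.2, ?_, ?_⟩
  · rw [Subgroup.mem_center_iff]
    intro g
    have := hz (ConjAct.toConjAct g)
    have h2 := congrArg (Subtype.val) this
    rw [ConjAct.Subgroup.val_conj_smul, ConjAct.smul_def, ConjAct.ofConjAct_toConjAct] at h2
    exact mul_inv_eq_iff_eq_mul.1 h2
  · intro h
    exact hz1 (Subtype.ext h.symm)

/-- A nontrivial normal subgroup of a finite `p`-group contains a central subgroup of order `p`. -/
theorem exists_central_card_prime_le {p : ℕ} [Fact p.Prime] {X : Type*} [Group X] [Finite X]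
    (hp : IsPGroup p X) (N : Subgroup X) [N.Normal] (hN : N ≠ ⊥) :
    ∃ Z : Subgroup X, Z ≤ N ∧ Z ≤ center X ∧ Nat.card Z = p := by
  have hinf : N ⊓ center X ≠ ⊥ := by
    obtain ⟨z, hz, hzc, hz1⟩ := exists_ne_one_mem_inf_center hp N hN
    intro h
    have : z ∈ N ⊓ center X := ⟨hz, hzc⟩
    rw [h, Subgroup.mem_bot] at this
    exact hz1 this
  have hcard : p ∣ Nat.card (N ⊓ center X : Subgroup X) := by
    obtain ⟨k, hk⟩ := IsPGroup.iff_card.1 (hp.to_subgroup (N ⊓ center X))
    have hk0 : k ≠ 0 := by
      rintro rfl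
      rw [pow_zero] at hk
      exact hinf (Subgroup.eq_bot_of_card_eq _ hk)
    rw [hk]
    exact dvd_pow_self p hk0
  obtain ⟨x, hx⟩ := exists_prime_orderOf_dvd_card' p hcard
  refine ⟨zpowers (x : X), ?_, ?_, ?_⟩
  · rw [Subgroup.zpowers_le]; exact x.2.1
  · rw [Subgroup.zpowers_le]; exact x.2.2
  · rw [Nat.card_zpowers, Subgroup.orderOf_coe, hx]

/-- If a finite group `X` has an abelian subgroup `A` of index `2`, `t ∉ A`, then
`|A| = |C_A(t)| |[A,t]|`, and every commutator is of the form `[t, a]` with `a ∈ A`. In particular,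
if `X` is a `2`-group of order at least `8` with `|X : X'| = 4`, the centre has order `2`. -/
theorem card_center_eq_two {X : Type*} [Group X] [Finite X] {n : ℕ} (hn : 3 ≤ n)
    (hX : Nat.card X = 2 ^ n) (hab : (commutator X).index = 4) (A : Subgroup X)
    (hA2 : A.index = 2) (hA : ∀ a ∈ A, ∀ b ∈ A, a * b = b * a) :
    Nat.card (center X) = 2 := by
  have hp : IsPGroup 2 X := IsPGroup.of_card hX
  have hAn : A.Normal := Subgroup.normal_of_index_eq_two hA2
  have hcardX' : Nat.card (commutator X) * 4 = 2 ^ n := by
    rw [← hX, ← hab, Subgroup.card_mul_index]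
  have hcardA : Nat.card A * 2 = 2 ^ n := by
    rw [← hX, ← hA2, Subgroup.card_mul_index]
  -- `X` is not abelian
  have hnonab : ¬ ∀ a b : X, a * b = b * a := by
    intro h
    have : commutator X = ⊥ := by
      rw [_root_.commutator_def, Subgroup.commutator_eq_bot_iff_le_centralizer]
      intro x _
      rw [Subgroup.mem_centralizer_iff]
      intro y _
      exact h y x
    rw [this, Subgroup.card_bot] at hcardX'
    have : 2 ^ 3 ≤ 2 ^ n := Nat.pow_le_pow_right (by norm_num) hn
    omega
  obtain ⟨t, ht⟩ : ∃ t, t ∉ A := by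
    by_contra h
    push Not at h
    apply hnonab
    intro a b
    exact hA a (h a) b (h b)
  -- the homomorphism `a ↦ [t, a]` on `A`
  let φ : A →* X :=
    { toFun := fun a => t * a * t⁻¹ * (a : X)⁻¹
      map_one' := by simp
      map_mul' := by
        intro a b
        have h1 : t * b * t⁻¹ ∈ A := hAn.conj_mem b b.2 t
        have h2 : (t * a * t⁻¹) * ((t * b * t⁻¹) * ((b : X)⁻¹ * (a : X)⁻¹)) =
            t * a * t⁻¹ * (a : X)⁻¹ * (t * b * t⁻¹ * (b : X)⁻¹) := by
          have h3 : (t * b * t⁻¹ * (b : X)⁻¹) * (a : X)⁻¹ =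
            (a : X)⁻¹ * (t * b * t⁻¹ * (b : X)⁻¹) :=
            hA _ (A.mul_mem h1 (A.inv_mem b.2)) _ (A.inv_mem a.2)
          calc (t * a * t⁻¹) * ((t * b * t⁻¹) * ((b : X)⁻¹ * (a : X)⁻¹))
              = (t * a * t⁻¹) * ((t * b * t⁻¹ * (b : X)⁻¹) * (a : X)⁻¹) := by group
            _ = (t * a * t⁻¹) * ((a : X)⁻¹ * (t * b * t⁻¹ * (b : X)⁻¹)) := by rw [h3]
            _ = _ := by group
        rw [← h2]
        simp only [Subgroup.coe_mul, mul_inv_rev]
        group }
  have hφ : ∀ a : A, φ a = t * a * t⁻¹ * (a : X)⁻¹ := fun a => rfl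
  -- commutators of `A` with an outside element
  have key1 : ∀ a ∈ A, ∀ h, h ∉ A → ⁅a, h⁆ ∈ φ.range := by
    intro a ha h hh
    have hb : h * t⁻¹ ∈ A := by
      rw [Subgroup.mul_mem_iff_of_index_two hA2]
      simp [hh, ht]
    refine ⟨⟨a⁻¹, A.inv_mem ha⟩, ?_⟩
    rw [hφ]
    have h1 : t * a⁻¹ * t⁻¹ ∈ A := hAn.conj_mem _ (A.inv_mem ha) t
    rw [commutatorElement_def]
    have e1 : a * h * a⁻¹ * h⁻¹ = a * ((h * t⁻¹) * (t * a⁻¹ * t⁻¹)) * (h * t⁻¹)⁻¹ := by group
    rw [e1, hA _ hb _ h1]
    have e2 : a * (t * a⁻¹ * t⁻¹ * (h * t⁻¹)) * (h * t⁻¹)⁻¹ = a * (t * a⁻¹ * t⁻¹) := by group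
    rw [e2, hA _ ha _ h1]
    simp
  have hcomm : commutator X ≤ φ.range := by
    rw [_root_.commutator_def, Subgroup.commutator_le]
    intro g _ h _
    by_cases hg : g ∈ A
    · by_cases hh : h ∈ A
      · have : ⁅g, h⁆ = 1 := by
          rw [commutatorElement_eq_one_iff_mul_comm]
          exact hA g hg h hh
        rw [this]; exact one_mem _
      · exact key1 g hg h hh
    · by_cases hh : h ∈ A
      · rw [← commutatorElement_inv]
        exact inv_mem (key1 h hh g hg)
      · have hc : g * h⁻¹ ∈ A := by
          rw [Subgroup.mul_mem_iff_of_index_two hA2]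
          simp [hh, hg]
        have := key1 _ hc h hh
        have e : ⁅g, h⁆ = ⁅g * h⁻¹, h⁆ := by
          rw [commutatorElement_def, commutatorElement_def]; group
        rw [e]; exact this
  have hker : Nat.card φ.ker ≤ 2 := by
    have h1 : Nat.card φ.ker * Nat.card φ.range = Nat.card A := by
      rw [← Subgroup.index_ker, Subgroup.card_mul_index]
    have h2 : Nat.card (commutator X) ≤ Nat.card φ.range := Subgroup.card_le_of_le hcomm
    have h3 : Nat.card φ.ker * Nat.card (commutator X) ≤ 2 * Nat.card (commutator X) := by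
      calc Nat.card φ.ker * Nat.card (commutator X) ≤ Nat.card φ.ker * Nat.card φ.range :=
            Nat.mul_le_mul_left _ h2
        _ = Nat.card A := h1
        _ = 2 * Nat.card (commutator X) := by omega
    exact Nat.le_of_mul_le_mul_right h3 Nat.card_pos
  -- the centre lies in `A`
  have hZA : center X ≤ A := by
    intro z hz
    by_contra hzA
    apply hnonab
    rw [Subgroup.mem_center_iff] at hz
    have hz' : ∀ b, b ∉ A → ∃ c ∈ A, b = c * z := by
      intro b hb
      refine ⟨b * z⁻¹, ?_, by group⟩
      rw [Subgroup.mul_mem_iff_of_index_two hA2]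
      simp [hb, hzA]
    intro a b
    by_cases ha : a ∈ A
    · by_cases hb : b ∈ A
      · exact hA a ha b hb
      · obtain ⟨c, hc, rfl⟩ := hz' b hb
        rw [← mul_assoc, hA a ha c hc, mul_assoc, hz, mul_assoc]
    · obtain ⟨d, hd, rfl⟩ := hz' a ha
      by_cases hb : b ∈ A
      · rw [← mul_assoc, ← hA d hd b hb, mul_assoc, ← hz, mul_assoc]
      · obtain ⟨c, hc, rfl⟩ := hz' b hb
        calc d * z * (c * z) = d * (z * c) * z := by group
          _ = d * (c * z) * z := by rw [hz c]
          _ = (d * c) * z * z := by group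
          _ = (c * d) * z * z := by rw [hA d hd c hc]
          _ = c * (d * z) * z := by group
          _ = c * (z * d) * z := by rw [hz d]
          _ = c * z * (d * z) := by group
  have hZle : Nat.card (center X) ≤ 2 := by
    refine le_trans ?_ hker
    have : center X ≤ φ.ker.map A.subtype := by
      intro z hz
      refine ⟨⟨z, hZA hz⟩, ?_, rfl⟩
      change φ _ = 1
      rw [hφ]
      rw [Subgroup.mem_center_iff] at hz
      change t * z * t⁻¹ * z⁻¹ = 1
      rw [hz t]; group
    calc Nat.card (center X) ≤ Nat.card (φ.ker.map A.subtype) := Subgroup.card_le_of_le this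
      _ = Nat.card φ.ker := Subgroup.card_map_of_injective A.subtype_injective
  have : Nontrivial X := by
    rw [← Finite.one_lt_card_iff_nontrivial, hX]
    exact Nat.one_lt_two_pow (by omega)
  have := hp.center_nontrivial
  have h1 : 1 < Nat.card (center X) := Finite.one_lt_card
  omega


/-- The commutator subgroup of a quotient by a subgroup of the commutator subgroup has the same
index. -/
theorem index_commutator_quotient {X : Type*} [Group X] (Z : Subgroup X) [Z.Normal]
    (hZ : Z ≤ commutator X) : (commutator (X ⧸ Z)).index = (commutator X).index := by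
  have h1 : commutator (X ⧸ Z) = (commutator X).map (QuotientGroup.mk' Z) := by
    rw [_root_.commutator_def, _root_.commutator_def, Subgroup.map_commutator,
      Subgroup.map_top_of_surjective _ (QuotientGroup.mk'_surjective Z)]
  rw [h1, Subgroup.index_map_eq _ (QuotientGroup.mk'_surjective Z)]
  rw [QuotientGroup.ker_mk']
  exact hZ

/-- **Taussky**: a finite `2`-group with `|X : X'| = 4` has a cyclic subgroup of index `2`. -/
theorem exists_isCyclic_index_two (n : ℕ) : ∀ {X : Type u} [Group X] [Finite X],
    Nat.card X = 2 ^ n → (commutator X).index = 4 →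
    ∃ C : Subgroup X, IsCyclic C ∧ C.index = 2 := by
  induction n with
  | zero =>
    intro X _ _ hX hab
    have := Subgroup.index_dvd_card (commutator X)
    rw [hX, hab] at this
    omega
  | succ n ih =>
    intro X _ _ hX hab
    have hp : IsPGroup 2 X := IsPGroup.of_card hX
    have hcardX' : Nat.card (commutator X) * 4 = 2 ^ (n + 1) := by
      rw [← hX, ← hab, Subgroup.card_mul_index]
    -- a group with an element of order `|X|/2`
    have hkey : ∀ x : X, orderOf x * 2 = 2 ^ (n + 1) → ∃ C : Subgroup X, IsCyclic C ∧ C.index = 2 := by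
      intro x hx
      refine ⟨zpowers x, inferInstance, ?_⟩
      have h1 := Subgroup.card_mul_index (zpowers x)
      rw [Nat.card_zpowers, hX, ← hx] at h1
      exact Nat.eq_of_mul_eq_mul_left (orderOf_pos x) h1
    -- abelian
    have habel : (∀ a b : X, a * b = b * a) → 2 ^ (n + 1) = 4 := by
      intro h
      have : commutator X = ⊥ := by
        rw [_root_.commutator_def, Subgroup.commutator_eq_bot_iff_le_centralizer]
        intro x _
        rw [Subgroup.mem_centralizer_iff]
        intro y _
        exact h y x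
      rw [this, Subgroup.card_bot] at hcardX'
      omega
    have hn1 : 1 ≤ n := by
      by_contra h
      have : n = 0 := by omega
      subst this
      omega
    by_cases hn : n = 1
    · subst hn
      obtain ⟨x, hx⟩ := exists_prime_orderOf_dvd_card' (G := X) 2 (by rw [hX]; norm_num)
      exact hkey x (by rw [hx]; norm_num)
    by_cases hn2 : n = 2
    · subst hn2
      have h8 : Nat.card X = 8 := by rw [hX]; norm_num
      have hex : ∃ x : X, x ^ 2 ≠ 1 := by
        by_contra h
        push Not at h
        have := habel (by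
          intro a b
          have ha := h a
          have hb := h b
          have hab := h (a * b)
          have ha' : a⁻¹ = a := inv_eq_of_mul_eq_one_left (by rw [← sq]; exact ha)
          have hb' : b⁻¹ = b := inv_eq_of_mul_eq_one_left (by rw [← sq]; exact hb)
          have hab' : (a * b)⁻¹ = a * b := inv_eq_of_mul_eq_one_left (by rw [← sq]; exact hab)
          rw [mul_inv_rev, ha', hb'] at hab'
          exact hab'.symm)
        norm_num at this
      obtain ⟨x, hx⟩ := hex
      have hd : orderOf x ∣ 2 ^ 3 := by rw [← show Nat.card X = 2 ^ 3 from hX]; exact orderOf_dvd_natCard x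
      obtain ⟨k, hk, hk2⟩ := (Nat.dvd_prime_pow Nat.prime_two).1 hd
      have hk3 : k = 0 ∨ k = 1 ∨ k = 2 ∨ k = 3 := by omega
      rcases hk3 with rfl | rfl | rfl | rfl
      · exfalso
        apply hx
        rw [← orderOf_dvd_iff_pow_eq_one, hk2]; norm_num
      · exfalso
        apply hx
        rw [← orderOf_dvd_iff_pow_eq_one, hk2]; norm_num
      · exact hkey x (by rw [hk2]; norm_num)
      · exfalso
        have hcyc : IsCyclic X := isCyclic_of_orderOf_eq_card x (by rw [hk2, hX])
        have := habel (fun a b => by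
          let _ := IsCyclic.commGroup (α := X)
          exact mul_comm a b)
        norm_num at this
    -- the main case
    have hn3 : 3 ≤ n := by omega
    have hX'bot : commutator X ≠ ⊥ := by
      intro h
      rw [h, Subgroup.card_bot] at hcardX'
      have : 2 ^ 3 ≤ 2 ^ (n + 1) := Nat.pow_le_pow_right (by norm_num) (by omega)
      omega
    obtain ⟨Z, hZX', hZc, hZ2⟩ := exists_central_card_prime_le hp (commutator X) hX'bot
    have hZn : Z.Normal := normal_of_le_center hZc
    have hZidx : Nat.card (X ⧸ Z) = 2 ^ n := by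
      have h1 := Subgroup.card_eq_card_quotient_mul_card_subgroup Z
      rw [hX, hZ2, pow_succ] at h1
      omega
    obtain ⟨C, hCcyc, hC2⟩ := ih hZidx (by rw [index_commutator_quotient Z hZX', hab])
    obtain ⟨⟨c, hc⟩, hcgen⟩ := hCcyc.exists_generator
    obtain ⟨a, rfl⟩ := QuotientGroup.mk_surjective c
    have hCcard : Nat.card C * 2 = 2 ^ n := by
      rw [← hZidx, ← hC2, Subgroup.card_mul_index]
    have hordc : orderOf (a : X ⧸ Z) * 2 = 2 ^ n := by
      rw [← hCcard]
      congr 1
      have := orderOf_eq_card_of_forall_mem_zpowers hcgen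
      rw [← this, ← Subgroup.orderOf_coe]
    set A : Subgroup X := C.comap (QuotientGroup.mk' Z) with hAdef
    have hA2 : A.index = 2 := by
      rw [hAdef, Subgroup.index_comap_of_surjective _ (QuotientGroup.mk'_surjective Z), hC2]
    -- every element of `A` is `a ^ k * z`
    have hAform : ∀ x ∈ A, ∃ k : ℤ, ∃ z ∈ Z, x = a ^ k * z := by
      intro x hx
      obtain ⟨k, hk⟩ := Subgroup.mem_zpowers_iff.1 (hcgen ⟨(x : X ⧸ Z), hx⟩)
      have hk' : (a : X ⧸ Z) ^ k = (x : X ⧸ Z) := congrArg Subtype.val hk
      refine ⟨k, (a ^ k)⁻¹ * x, ?_, by group⟩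
      rw [← QuotientGroup.eq]
      rw [QuotientGroup.mk_zpow]; exact hk'
    have hzcomm : ∀ z ∈ Z, ∀ x : X, x * z = z * x := by
      intro z hz x
      exact Subgroup.mem_center_iff.1 (hZc hz) x
    have hAab : ∀ x ∈ A, ∀ y ∈ A, x * y = y * x := by
      intro x hx y hy
      obtain ⟨k, z, hz, rfl⟩ := hAform x hx
      obtain ⟨l, w, hw, rfl⟩ := hAform y hy
      calc a ^ k * z * (a ^ l * w) = a ^ k * (z * a ^ l) * w := by group
        _ = a ^ k * (a ^ l * z) * w := by rw [hzcomm z hz]
        _ = (a ^ k * a ^ l) * (z * w) := by group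
        _ = (a ^ l * a ^ k) * (w * z) := by rw [← zpow_add, add_comm, zpow_add, hzcomm w hw z]
        _ = a ^ l * (a ^ k * w) * z := by group
        _ = a ^ l * (w * a ^ k) * z := by rw [hzcomm w hw]
        _ = a ^ l * w * (a ^ k * z) := by group
    have hZX : Nat.card (center X) = 2 := card_center_eq_two (by omega) hX hab A hA2 hAab
    have hZeq : Z = center X := Subgroup.eq_of_le_of_card_ge hZc (by rw [hZX, hZ2])
    have haA : a ∈ A := hc
    have hdvd1 : orderOf (a : X ⧸ Z) ∣ orderOf a := orderOf_map_dvd (QuotientGroup.mk' Z) a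
    have hdvd2 : orderOf a ∣ orderOf (a : X ⧸ Z) * 2 := by
      rw [orderOf_dvd_iff_pow_eq_one, pow_mul]
      have h1 : a ^ orderOf (a : X ⧸ Z) ∈ Z := by
        rw [← QuotientGroup.eq_one_iff, QuotientGroup.mk_pow, pow_orderOf_eq_one]
      have h2 : (⟨_, h1⟩ : Z) ^ 2 = 1 := by
        rw [← hZ2]; exact pow_card_eq_one'
      exact congrArg Subtype.val h2
    obtain ⟨m, rfl⟩ : ∃ m, n = m + 3 := ⟨n - 3, by omega⟩
    have hordc' : orderOf (a : X ⧸ Z) = 2 ^ (m + 2) := by
      rw [pow_succ] at hordc
      omega
    by_cases hord : orderOf a = orderOf (a : X ⧸ Z)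
    · exfalso
      -- `b = a ^ (2 ^ (m + 1))` is central
      have hb : a ^ (2 ^ (m + 1)) ∈ center X := by
        rw [Subgroup.mem_center_iff]
        intro x
        have hAn : A.Normal := Subgroup.normal_of_index_eq_two hA2
        obtain ⟨k, z, hz, hk⟩ := hAform _ (hAn.conj_mem a haA x)
        have hz2 : z ^ 2 = 1 := by
          have h2 : (⟨z, hz⟩ : Z) ^ 2 = 1 := by
            rw [← hZ2]; exact pow_card_eq_one'
          exact congrArg Subtype.val h2
        have hcomm : Commute (a ^ k) z := hzcomm z hz (a ^ k)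
        have h1 : x * a ^ (2 ^ (m + 1)) * x⁻¹ = (a ^ (2 ^ (m + 1))) ^ k := by
          rw [← conj_pow, hk, hcomm.mul_pow]
          have : z ^ 2 ^ (m + 1) = 1 := by
            rw [pow_succ, mul_comm, pow_mul, hz2, one_pow]
          rw [this, mul_one, ← zpow_natCast (a ^ k), ← zpow_mul, ← zpow_natCast a, ← zpow_mul, mul_comm]
        have hsq : (a ^ (2 ^ (m + 1))) ^ 2 = 1 := by
          rw [← pow_mul, ← pow_succ, ← hordc', ← hord, pow_orderOf_eq_one]
        have hne : a ^ (2 ^ (m + 1)) ≠ 1 := by
          intro h
          have h2 := orderOf_dvd_of_pow_eq_one h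
          rw [hord, hordc'] at h2
          have := Nat.le_of_dvd (by positivity) h2
          have h3 : 2 ^ (m + 1) < 2 ^ (m + 2) := Nat.pow_lt_pow_right (by norm_num) (by omega)
          omega
        have h2 : (a ^ (2 ^ (m + 1))) ^ k = a ^ (2 ^ (m + 1)) := by
          rcases Int.even_or_odd' k with ⟨l, rfl | rfl⟩
          · exfalso
            rw [zpow_mul] at h1
            have h4 : (a ^ (2 ^ (m + 1))) ^ (2 : ℤ) = 1 := by exact_mod_cast hsq
            rw [h4, one_zpow] at h1
            apply hne
            have h5 := mul_inv_eq_iff_eq_mul.1 h1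
            rw [one_mul] at h5
            exact mul_eq_left.1 h5
          · rw [zpow_add, zpow_mul]
            have h4 : (a ^ (2 ^ (m + 1))) ^ (2 : ℤ) = 1 := by exact_mod_cast hsq
            rw [h4, one_zpow, one_mul, zpow_one]
        rw [h2] at h1
        exact mul_inv_eq_iff_eq_mul.1 h1
      rw [← hZeq, ← QuotientGroup.eq_one_iff, QuotientGroup.mk_pow] at hb
      have h2 := orderOf_dvd_of_pow_eq_one hb
      rw [hordc'] at h2
      have := Nat.le_of_dvd (by positivity) h2
      have h3 : 2 ^ (m + 1) < 2 ^ (m + 2) := Nat.pow_lt_pow_right (by norm_num) (by omega)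
      omega
    · apply hkey a
      rw [hordc'] at hdvd1 hdvd2 hord
      obtain ⟨j, hj, hj2⟩ := (Nat.dvd_prime_pow Nat.prime_two).1
        (show orderOf a ∣ 2 ^ (m + 3) by rw [pow_succ]; exact hdvd2)
      rw [hj2] at hdvd1 hord ⊢
      have hle := (Nat.pow_dvd_pow_iff_le_right (by norm_num)).1 hdvd1
      have : j ≠ m + 2 := by
        rintro rfl
        exact hord rfl
      have : j = m + 3 := by omega
      rw [this]
      ring

/-- The centre of a `2`-group of order `2 ^ n`, `n ≥ 3`, with `|X : X'| = 4` has order `2`. -/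
theorem card_center_of_index_commutator {X : Type u} [Group X] [Finite X] {n : ℕ} (hn : 3 ≤ n)
    (hX : Nat.card X = 2 ^ n) (hab : (commutator X).index = 4) : Nat.card (center X) = 2 := by
  obtain ⟨C, hC, hC2⟩ := exists_isCyclic_index_two n hX hab
  refine card_center_eq_two hn hX hab C hC2 ?_
  intro a ha b hb
  let _ := IsCyclic.commGroup (α := C)
  exact congrArg Subtype.val (mul_comm (⟨a, ha⟩ : C) ⟨b, hb⟩)

theorem center_le_commutator_of_index_commutator {X : Type u} [Group X] [Finite X] {n : ℕ}
    (hn : 3 ≤ n) (hX : Nat.card X = 2 ^ n) (hab : (commutator X).index = 4) :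
    center X ≤ commutator X := by
  have hp : IsPGroup 2 X := IsPGroup.of_card hX
  have hcardX' : Nat.card (commutator X) * 4 = 2 ^ n := by
    rw [← hX, ← hab, Subgroup.card_mul_index]
  have hX'bot : commutator X ≠ ⊥ := by
    intro h
    rw [h, Subgroup.card_bot] at hcardX'
    have : 2 ^ 3 ≤ 2 ^ n := Nat.pow_le_pow_right (by norm_num) (by omega)
    omega
  obtain ⟨Z, hZX', hZc, hZ2⟩ := exists_central_card_prime_le hp (commutator X) hX'bot
  have hZeq : Z = center X := Subgroup.eq_of_le_of_card_ge hZc
    (by rw [card_center_of_index_commutator hn hX hab, hZ2])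
  rw [← hZeq]; exact hZX'

/-- **Taussky**: a finite `2`-group with `|X : X'| = 4` is of maximal class. -/
theorem nilpotencyClass_of_index_commutator (n : ℕ) : ∀ {X : Type u} [Group X] [Finite X],
    Nat.card X = 2 ^ n → (commutator X).index = 4 → Group.nilpotencyClass X = n - 1 := by
  induction n with
  | zero =>
    intro X _ _ hX hab
    have := Subgroup.index_dvd_card (commutator X)
    rw [hX, hab] at this
    omega
  | succ n ih =>
    intro X _ _ hX hab
    have hp : IsPGroup 2 X := IsPGroup.of_card hX
    have hnil : Group.IsNilpotent X := hp.isNilpotent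
    have hcardX' : Nat.card (commutator X) * 4 = 2 ^ (n + 1) := by
      rw [← hX, ← hab, Subgroup.card_mul_index]
    have hn1 : 1 ≤ n := by
      by_contra h
      have : n = 0 := by omega
      subst this
      omega
    have hnt : Nontrivial X := by
      rw [← Finite.one_lt_card_iff_nontrivial, hX]
      exact Nat.one_lt_two_pow (by omega)
    by_cases hn : n = 1
    · subst hn
      have h1 : commutator X = ⊥ := Subgroup.eq_bot_of_card_eq _ (by omega)
      have h2 : Group.nilpotencyClass X ≤ 1 := by
        rw [← Subgroup.lowerCentralSeries_eq_bot_iff_nilpotencyClass_le,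
          Subgroup.top_lowerCentralSeries_one]
        exact h1
      have h3 : Group.nilpotencyClass X ≠ 0 := by
        intro h
        rw [Group.nilpotencyClass_zero_iff_subsingleton] at h
        exact not_subsingleton X h
      omega
    · have hn2 : 2 ≤ n := by omega
      have hc2 := card_center_of_index_commutator (by omega) hX hab
      have hcle := center_le_commutator_of_index_commutator (by omega) hX hab
      have hZidx : Nat.card (X ⧸ center X) = 2 ^ n := by
        have h1 := Subgroup.card_eq_card_quotient_mul_card_subgroup (center X)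
        rw [hX, hc2, pow_succ] at h1
        omega
      have := ih hZidx (by rw [index_commutator_quotient _ hcle, hab])
      rw [Group.nilpotencyClass_eq_quotient_center_plus_one, this]
      omega


/-- If `X` is nilpotent and `X / X'` is cyclic then `X` is abelian (`X' = 1`). -/
theorem commutator_eq_bot_of_isCyclic_quotient {X : Type*} [Group X] [hnil : Group.IsNilpotent X]
    (hcyc : IsCyclic (X ⧸ commutator X)) : commutator X = ⊥ := by
  have h2 : (⊤ : Subgroup X).lowerCentralSeries 2 = ⁅commutator X, (⊤ : Subgroup X)⁆ := by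
    rw [Subgroup.lowerCentralSeries_succ, Subgroup.top_lowerCentralSeries_one]
  set N : Subgroup X := ⁅commutator X, (⊤ : Subgroup X)⁆ with hN
  have hle : N ≤ commutator X := by
    rw [hN]
    exact Subgroup.commutator_mono le_top le_rfl
  have hmem : ∀ c ∈ commutator X, ∀ x : X, ⁅c, x⁆ ∈ N := fun c hc x =>
    Subgroup.commutator_mem_commutator hc (Subgroup.mem_top x)
  -- `X / N` is abelian
  have hab : ∀ a b : X ⧸ N, a * b = b * a := by
    suffices h : IsMulCommutative (X ⧸ N) from fun a b => mul_comm' a b
    refine MonoidHom.isMulCommutative_of_isCyclic_of_ker_le_center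
      (QuotientGroup.map N (commutator X) (MonoidHom.id X) hle) ?_
    intro q hq
    obtain ⟨c, rfl⟩ := QuotientGroup.mk_surjective q
    rw [MonoidHom.mem_ker] at hq
    have hc : c ∈ commutator X := by
      rw [← QuotientGroup.eq_one_iff]
      exact hq
    rw [Subgroup.mem_center_iff]
    intro g
    obtain ⟨x, rfl⟩ := QuotientGroup.mk_surjective g
    have h1 := hmem c hc x
    rw [← QuotientGroup.eq_one_iff] at h1
    have h3 : ⁅(c : X ⧸ N), (x : X ⧸ N)⁆ = 1 := h1
    rw [commutatorElement_eq_one_iff_mul_comm] at h3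
    exact h3.symm
  have hX'N : commutator X ≤ N := by
    rw [_root_.commutator_def, Subgroup.commutator_le]
    intro a _ b _
    rw [← QuotientGroup.eq_one_iff]
    change ⁅(a : X ⧸ N), (b : X ⧸ N)⁆ = 1
    rw [commutatorElement_eq_one_iff_mul_comm]
    exact hab _ _
  have heq : N = commutator X := le_antisymm hle hX'N
  have hall : ∀ k, (⊤ : Subgroup X).lowerCentralSeries (k + 1) = commutator X := by
    intro k
    induction k with
    | zero => exact Subgroup.top_lowerCentralSeries_one
    | succ k ih =>
      rw [Subgroup.lowerCentralSeries_succ, ih, ← hN, heq]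
  have hbot := Subgroup.lowerCentralSeries_eq_bot_iff_nilpotencyClass_le (G := X)
    (n := Group.nilpotencyClass X + 1) |>.2 (by omega)
  rw [hall] at hbot
  exact hbot

/-- Orders in the lower central series of a `2`-group. -/
theorem two_pow_le_card_lowerCentralSeries {X : Type*} [Group X] [Finite X]
    [hnil : Group.IsNilpotent X] : ∀ k i : ℕ, i + k = Group.nilpotencyClass X →
    2 ^ k ≤ Nat.card ((⊤ : Subgroup X).lowerCentralSeries i) := by
  intro k
  induction k with
  | zero =>
    intro i _
    rw [pow_zero]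
    exact Nat.one_le_iff_ne_zero.2 Nat.card_pos.ne'
  | succ k ih =>
    intro i hi
    have h1 := ih (i + 1) (by omega)
    have hle : (⊤ : Subgroup X).lowerCentralSeries (i + 1) ≤
      (⊤ : Subgroup X).lowerCentralSeries i :=
      Subgroup.lowerCentralSeries_antitone _ (Nat.le_succ i)
    have hne : (⊤ : Subgroup X).lowerCentralSeries (i + 1) ≠
        (⊤ : Subgroup X).lowerCentralSeries i := by
      intro h
      have hall : ∀ j, (⊤ : Subgroup X).lowerCentralSeries (i + j) =
          (⊤ : Subgroup X).lowerCentralSeries i := by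
        intro j
        induction j with
        | zero => rfl
        | succ j ihj =>
          rw [← add_assoc, Subgroup.lowerCentralSeries_succ, ihj,
            ← Subgroup.lowerCentralSeries_succ, h]
      have h2 : (⊤ : Subgroup X).lowerCentralSeries i = ⊥ := by
        rw [← hall (k + 1), hi, Subgroup.lowerCentralSeries_nilpotencyClass]
      rw [Subgroup.lowerCentralSeries_eq_bot_iff_nilpotencyClass_le] at h2
      omega
    have h3 := Subgroup.relIndex_mul_relIndex ⊥ _ _ bot_le hle
    rw [Subgroup.relIndex_bot_left, Subgroup.relIndex_bot_left, mul_comm] at h3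
    have h4 : ((⊤ : Subgroup X).lowerCentralSeries (i + 1)).relIndex
        ((⊤ : Subgroup X).lowerCentralSeries i) ≠ 1 := by
      intro h
      rw [Subgroup.relIndex_eq_one] at h
      exact hne (le_antisymm hle h)
    have h5 : ((⊤ : Subgroup X).lowerCentralSeries (i + 1)).relIndex
        ((⊤ : Subgroup X).lowerCentralSeries i) ≠ 0 := by
      intro h
      rw [h, zero_mul] at h3
      exact Nat.card_pos.ne h3
    have h6 : 2 ≤ ((⊤ : Subgroup X).lowerCentralSeries (i + 1)).relIndex
        ((⊤ : Subgroup X).lowerCentralSeries i) := by omega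
    rw [← h3, pow_succ, mul_comm]
    exact Nat.mul_le_mul h6 h1

theorem index_commutator_of_nilpotencyClass {X : Type*} [Group X] [Finite X] {n : ℕ} (hn : 3 ≤ n)
    (hX : Nat.card X = 2 ^ n) (hc : Group.nilpotencyClass X = n - 1) :
    IsKleinFour (X ⧸ commutator X) := by
  have hp : IsPGroup 2 X := IsPGroup.of_card hX
  have hnil : Group.IsNilpotent X := hp.isNilpotent
  have h1 := two_pow_le_card_lowerCentralSeries (X := X) (n - 2) 1 (by omega)
  rw [Subgroup.top_lowerCentralSeries_one] at h1
  have h2 := Subgroup.card_mul_index (commutator X)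
  rw [hX] at h2
  have hnot : ¬ IsCyclic (X ⧸ commutator X) := by
    intro h
    have h3 := commutator_eq_bot_of_isCyclic_quotient h
    rw [← Subgroup.top_lowerCentralSeries_one,
      Subgroup.lowerCentralSeries_eq_bot_iff_nilpotencyClass_le] at h3
    omega
  have hle : (commutator X).index ≤ 4 := by
    by_contra h
    have h5 : 2 ^ (n - 2) * 5 ≤ Nat.card (commutator X) * (commutator X).index :=
      Nat.mul_le_mul h1 (by omega)
    rw [h2] at h5
    obtain ⟨m, rfl⟩ : ∃ m, n = m + 2 := ⟨n - 2, by omega⟩
    rw [Nat.add_sub_cancel, pow_add] at h5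
    have : 0 < 2 ^ m := by positivity
    omega
  have hcardQ : Nat.card (X ⧸ commutator X) = (commutator X).index := rfl
  have hdvd : (commutator X).index ∣ 2 ^ n := by rw [← h2]; exact Dvd.intro_left _ rfl
  obtain ⟨k, hk, hk2⟩ := (Nat.dvd_prime_pow Nat.prime_two).1 hdvd
  have hk3 : k = 2 := by
    have hk4 : k < 3 := by
      by_contra h
      have : 2 ^ 3 ≤ 2 ^ k := Nat.pow_le_pow_right (by norm_num) (by omega)
      omega
    have hk5 : k = 0 ∨ k = 1 ∨ k = 2 := by omega
    rcases hk5 with rfl | rfl | rfl
    · exfalso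
      apply hnot
      have : Nat.card (X ⧸ commutator X) = 1 := by rw [hcardQ, hk2]; rfl
      have : Subsingleton (X ⧸ commutator X) := (Nat.card_eq_one_iff_unique.1 this).1
      exact isCyclic_of_subsingleton
    · exfalso
      apply hnot
      have h6 : Nat.card (X ⧸ commutator X) = 2 := by rw [hcardQ, hk2]; rfl
      exact isCyclic_of_prime_card h6
    · rfl
  subst hk3
  have hcard4 : Nat.card (X ⧸ commutator X) = 4 := by rw [hcardQ, hk2]; norm_num
  refine ⟨hcard4, ?_⟩
  have hexp : Monoid.exponent (X ⧸ commutator X) ∣ 4 := by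
    rw [← hcard4]; exact Group.exponent_dvd_nat_card
  have hexp4 : Monoid.exponent (X ⧸ commutator X) ≠ 4 := by
    intro h
    apply hnot
    exact IsCyclic.of_exponent_eq_card (α := Abelianization X) (by rw [← hcard4] at h; exact h)
  have hexp1 : Monoid.exponent (X ⧸ commutator X) ≠ 1 := by
    intro h
    rw [Monoid.exp_eq_one_iff] at h
    rw [Nat.card_of_subsingleton (1 : X ⧸ commutator X)] at hcard4
    omega
  have h7 := Nat.le_of_dvd (by norm_num) hexp
  have h0 : Monoid.exponent (X ⧸ commutator X) ≠ 0 := by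
    intro h
    rw [h] at hexp
    omega
  have h8 : Monoid.exponent (X ⧸ commutator X) ≠ 3 := by
    intro h
    rw [h] at hexp
    omega
  omega

/-- **Taussky's theorem.** -/
theorem nilpotencyClass_eq_iff_isKleinFour {X : Type u} [Group X] [Finite X] (n : ℕ) (hn : 3 ≤ n)
    (hX : Nat.card X = 2 ^ n) :
    Group.nilpotencyClass X = n - 1 ↔ IsKleinFour (X ⧸ commutator X) := by
  refine ⟨index_commutator_of_nilpotencyClass hn hX, fun h => ?_⟩
  exact nilpotencyClass_of_index_commutator n hX h.card_four

end Cfsg.Agent.Transfer.TausskyTwoGroup
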