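import Mathlib
import Cfsg.Agent.PLocal.ConjFunctor

/-!
# Sylow subgroups of subgroups, and conjugation maps induced by a subgroup

* `Ind M H g`: the map `h ↦ g h g⁻¹` on `H` is induced by an element of `M`.
* `SylIn p S L`: `S ≤ L` is a Sylow `p`-subgroup of the subgroup `L` of `G`.
-/

set_option autoImplicit false

namespace Cfsg.Agent.Transfer.FusionBasic

open Subgroup

variable {G : Type*} [Group G]

/-! ### Elementary facts -/

theorem mem_normalizer_of_conj_mem [Finite G] {A : Subgroup G} {x : G}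
    (h : ∀ a ∈ A, x * a * x⁻¹ ∈ A) : x ∈ normalizer (A : Set G) := by
  have := Subgroup.mem_normalizer_fintype (S := (A : Set G)) (x := x) h
  exact this

theorem mem_map_conj_iff {A : Subgroup G} {x g : G} :
    g ∈ A.map (MulAut.conj x).toMonoidHom ↔ x⁻¹ * g * x ∈ A := by
  constructor
  · rintro ⟨a, ha, rfl⟩
    have : x⁻¹ * (MulAut.conj x).toMonoidHom a * x = a := by
      simp [MulAut.conj_apply]; group
    rwa [this]
  · intro h
    exact ⟨x⁻¹ * g * x, h, by simp [MulAut.conj_apply]; group⟩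

theorem map_conj_le_iff {A B : Subgroup G} {x : G} :
    A.map (MulAut.conj x).toMonoidHom ≤ B ↔ ∀ a ∈ A, x * a * x⁻¹ ∈ B := by
  rw [Subgroup.map_le_iff_le_comap]
  rfl

theorem card_map_conj (A : Subgroup G) (x : G) :
    Nat.card (A.map (MulAut.conj x).toMonoidHom) = Nat.card A :=
  (Nat.card_congr (A.equivMapOfInjective _ (MulAut.conj x).injective).toEquiv).symm

theorem map_conj_map_conj (A : Subgroup G) (x y : G) :
    (A.map (MulAut.conj x).toMonoidHom).map (MulAut.conj y).toMonoidHom =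
      A.map (MulAut.conj (y * x)).toMonoidHom := by
  rw [Subgroup.map_map]
  congr 1
  ext g
  simp

theorem map_conj_inv_map_conj (A : Subgroup G) (x : G) :
    (A.map (MulAut.conj x).toMonoidHom).map (MulAut.conj x⁻¹).toMonoidHom = A := by
  rw [map_conj_map_conj, inv_mul_cancel]
  ext g; simp

theorem map_conj_map_conj_inv (A : Subgroup G) (x : G) :
    (A.map (MulAut.conj x⁻¹).toMonoidHom).map (MulAut.conj x).toMonoidHom = A := by
  rw [map_conj_map_conj, mul_inv_cancel]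
  ext g; simp

theorem map_conj_eq_of_mem_normalizer {A : Subgroup G} {x : G}
    (h : x ∈ normalizer (A : Set G)) : A.map (MulAut.conj x).toMonoidHom = A :=
  Subgroup.mem_normalizer_iff_map_conj_eq.mp h

theorem isPGroup_map_conj {p : ℕ} {A : Subgroup G} (h : IsPGroup p A) (x : G) :
    IsPGroup p (A.map (MulAut.conj x).toMonoidHom) := h.map _

/-- the normalizer of a conjugate. -/
theorem normalizer_map_conj (A : Subgroup G) (x : G) :
    normalizer ((A.map (MulAut.conj x).toMonoidHom : Subgroup G) : Set G) =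
      (normalizer (A : Set G)).map (MulAut.conj x).toMonoidHom := by
  ext g
  rw [mem_map_conj_iff, Subgroup.mem_normalizer_iff, Subgroup.mem_normalizer_iff]
  constructor
  · intro h a
    have h1 := h (x * a * x⁻¹)
    rw [mem_map_conj_iff, mem_map_conj_iff] at h1
    have e1 : x⁻¹ * (x * a * x⁻¹) * x = a := by group
    have e2 : x⁻¹ * (g * (x * a * x⁻¹) * g⁻¹) * x = x⁻¹ * g * x * a * (x⁻¹ * g * x)⁻¹ := by group
    rwa [e1, e2] at h1
  · intro h a
    have h1 := h (x⁻¹ * a * x)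
    rw [mem_map_conj_iff, mem_map_conj_iff]
    have e2 : x⁻¹ * g * x * (x⁻¹ * a * x) * (x⁻¹ * g * x)⁻¹ = x⁻¹ * (g * a * g⁻¹) * x := by group
    rwa [e2] at h1

/-! ### Maps induced by a subgroup -/

/-- `h ↦ g h g⁻¹` on `H` is induced by an element of `M`. -/
def Ind (M H : Subgroup G) (g : G) : Prop := ∃ m ∈ M, ∀ h ∈ H, m * h * m⁻¹ = g * h * g⁻¹

theorem ind_def {M H : Subgroup G} {g : G} :
    Ind M H g ↔ ∃ m ∈ M, ∀ h ∈ H, m * h * m⁻¹ = g * h * g⁻¹ := Iff.rfl

theorem Ind.mono {M M' H H' : Subgroup G} {g : G} (h : Ind M H g) (hM : M ≤ M') (hH : H' ≤ H) :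
    Ind M' H' g := by
  obtain ⟨m, hm, h⟩ := h
  exact ⟨m, hM hm, fun x hx => h x (hH hx)⟩

theorem ind_of_mem {M H : Subgroup G} {g : G} (h : g ∈ M) : Ind M H g := ⟨g, h, fun _ _ => rfl⟩

theorem ind_of_mem_centralizer {M H : Subgroup G} {g : G} (h : g ∈ centralizer (H : Set G)) :
    Ind M H g := by
  refine ⟨1, one_mem _, fun x hx => ?_⟩
  have := (Subgroup.mem_centralizer_iff.mp h) x hx
  rw [← this]; group

theorem Ind.comp {M H K : Subgroup G} {g g' : G} (h : Ind M H g) (hHK : ∀ x ∈ H, g * x * g⁻¹ ∈ K)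
    (h' : Ind M K g') : Ind M H (g' * g) := by
  obtain ⟨m, hm, h⟩ := h
  obtain ⟨m', hm', h'⟩ := h'
  refine ⟨m' * m, mul_mem hm' hm, fun x hx => ?_⟩
  have h1 := h' _ (hHK x hx)
  calc m' * m * x * (m' * m)⁻¹ = m' * (m * x * m⁻¹) * m'⁻¹ := by group
    _ = m' * (g * x * g⁻¹) * m'⁻¹ := by rw [h x hx]
    _ = g' * (g * x * g⁻¹) * g'⁻¹ := h1
    _ = g' * g * x * (g' * g)⁻¹ := by group

/-- Inverse: if `K = g H g⁻¹` (only `g⁻¹ K g ≤ H` is needed). -/
theorem Ind.inv {M H K : Subgroup G} {g : G} (h : Ind M H g) (hK : ∀ x ∈ K, g⁻¹ * x * g ∈ H) :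
    Ind M K g⁻¹ := by
  obtain ⟨m, hm, h⟩ := h
  refine ⟨m⁻¹, inv_mem hm, fun x hx => ?_⟩
  have h1 := h _ (hK x hx)
  have h2 : g * (g⁻¹ * x * g) * g⁻¹ = x := by group
  rw [h2] at h1
  calc m⁻¹ * x * (m⁻¹)⁻¹ = m⁻¹ * (m * (g⁻¹ * x * g) * m⁻¹) * m := by rw [h1]; group
    _ = g⁻¹ * x * (g⁻¹)⁻¹ := by group

/-! ### Sylow subgroups of subgroups -/

/-- `S` is a Sylow `p`-subgroup of the subgroup `L` of `G`. -/
def SylIn (p : ℕ) (S L : Subgroup G) : Prop :=
  S ≤ L ∧ IsPGroup p S ∧ ∀ R : Subgroup G, S ≤ R → R ≤ L → IsPGroup p R → R = S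

theorem SylIn.le {p : ℕ} {S L : Subgroup G} (h : SylIn p S L) : S ≤ L := h.1
theorem SylIn.isPGroup {p : ℕ} {S L : Subgroup G} (h : SylIn p S L) : IsPGroup p S := h.2.1

theorem sylIn_top {p : ℕ} (P : Sylow p G) : SylIn p (P : Subgroup G) ⊤ :=
  ⟨le_top, P.isPGroup', fun _ hR _ hRp => P.is_maximal' hRp hR⟩

/-- The image of a Sylow subgroup of `L`. -/
theorem sylIn_map {p : ℕ} {L : Subgroup G} (T : Sylow p L) :
    SylIn p ((T : Subgroup L).map L.subtype) L := by
  refine ⟨map_subtype_le _, T.isPGroup'.map _, fun R hR hRL hRp => ?_⟩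
  have h1 : (R.subgroupOf L) = (T : Subgroup L) := by
    refine T.is_maximal' (hRp.comap_of_injective _ L.subtype_injective) ?_
    intro x hx
    rw [mem_subgroupOf]
    exact hR ⟨x, hx, rfl⟩
  rw [← h1, subgroupOf_map_subtype, inf_eq_left.mpr hRL]

theorem SylIn.exists_sylow {p : ℕ} {S L : Subgroup G} (h : SylIn p S L) :
    ∃ T : Sylow p L, (T : Subgroup L).map L.subtype = S := by
  refine ⟨⟨S.subgroupOf L, h.isPGroup.comap_of_injective _ L.subtype_injective, ?_⟩, ?_⟩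
  · intro Q hQ hSQ
    have h1 := h.2.2 (Q.map L.subtype) ?_ (map_subtype_le _) (hQ.map _)
    · rw [← h1]
      exact (comap_map_eq_self_of_injective L.subtype_injective _).symm
    · have := map_mono (f := L.subtype) hSQ
      rwa [subgroupOf_map_subtype, inf_eq_left.mpr h.le] at this
  · exact (subgroupOf_map_subtype _ _).trans (inf_eq_left.mpr h.le)

theorem exists_sylIn_ge {p : ℕ} {R L : Subgroup G} (hR : IsPGroup p R) (hRL : R ≤ L) :
    ∃ S, R ≤ S ∧ SylIn p S L := by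
  obtain ⟨T, hT⟩ := Cfsg.Agent.PLocal.ConjFunctor.exists_sylow_of_le hR hRL
  exact ⟨_, hT, sylIn_map T⟩

theorem SylIn.conj_le [Finite G] {p : ℕ} [Fact p.Prime] {S L R : Subgroup G} (h : SylIn p S L)
    (hRL : R ≤ L) (hR : IsPGroup p R) : ∃ l ∈ L, ∀ r ∈ R, l * r * l⁻¹ ∈ S := by
  obtain ⟨T, rfl⟩ := h.exists_sylow
  obtain ⟨T', hT'⟩ := Cfsg.Agent.PLocal.ConjFunctor.exists_sylow_of_le hR hRL
  obtain ⟨x, hx, hxT⟩ := Cfsg.Agent.PLocal.ConjFunctor.exists_conj_sylow T' T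
  refine ⟨x, hx, fun r hr => ?_⟩
  rw [← hxT]
  exact ⟨r, hT' hr, rfl⟩

theorem SylIn.map_conj {p : ℕ} {S L : Subgroup G} (h : SylIn p S L) (x : G) :
    SylIn p (S.map (MulAut.conj x).toMonoidHom) (L.map (MulAut.conj x).toMonoidHom) := by
  refine ⟨map_mono h.le, h.isPGroup.map _, fun R hSR hRL hR => ?_⟩
  have h1 := h.2.2 (R.map (MulAut.conj x⁻¹).toMonoidHom) ?_ ?_ (hR.map _)
  · rw [← h1, map_conj_map_conj_inv]
  · have := map_mono (f := (MulAut.conj x⁻¹).toMonoidHom) hSR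
    rwa [map_conj_inv_map_conj] at this
  · have := map_mono (f := (MulAut.conj x⁻¹).toMonoidHom) hRL
    rwa [map_conj_inv_map_conj] at this

/-- A `p`-subgroup with at least as many elements as a Sylow subgroup is a Sylow subgroup. -/
theorem SylIn.of_card_le [Finite G] {p : ℕ} [Fact p.Prime] {S L R : Subgroup G} (h : SylIn p S L)
    (hRL : R ≤ L) (hR : IsPGroup p R) (hc : Nat.card S ≤ Nat.card R) : SylIn p R L := by
  obtain ⟨x, hx, hxR⟩ := h.conj_le hRL hR
  have h1 : R.map (MulAut.conj x).toMonoidHom ≤ S := map_conj_le_iff.mpr hxR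
  have h2 : R.map (MulAut.conj x).toMonoidHom = S :=
    Subgroup.eq_of_le_of_card_ge h1 (by rwa [card_map_conj])
  have h3 : R = S.map (MulAut.conj x⁻¹).toMonoidHom := by rw [← h2, map_conj_inv_map_conj]
  have h4 : L = L.map (MulAut.conj x⁻¹).toMonoidHom :=
    (map_conj_eq_of_mem_normalizer (le_normalizer (inv_mem hx))).symm
  rw [h3, h4]
  exact h.map_conj _

theorem SylIn.card_le [Finite G] {p : ℕ} [Fact p.Prime] {S L R : Subgroup G} (h : SylIn p S L)
    (hRL : R ≤ L) (hR : IsPGroup p R) : Nat.card R ≤ Nat.card S := by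
  obtain ⟨x, hx, hxR⟩ := h.conj_le hRL hR
  have h1 : R.map (MulAut.conj x).toMonoidHom ≤ S := map_conj_le_iff.mpr hxR
  rw [← card_map_conj R x]
  exact Subgroup.card_le_of_le h1

/-- Sylow subgroups of normal subgroups of `L`. -/
theorem SylIn.inf [Finite G] {p : ℕ} [Fact p.Prime] {S L N : Subgroup G} (h : SylIn p S L)
    (hNL : N ≤ L) (hN : L ≤ normalizer (N : Set G)) : SylIn p (S ⊓ N) N := by
  refine ⟨inf_le_right, h.isPGroup.to_le inf_le_left, fun R hSR hRN hR => ?_⟩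
  obtain ⟨x, hx, hxR⟩ := h.conj_le (hRN.trans hNL) hR
  have h1 : R.map (MulAut.conj x).toMonoidHom ≤ S ⊓ N := by
    rw [map_conj_le_iff]
    intro a ha
    exact ⟨hxR a ha, ((Subgroup.mem_normalizer_iff.mp (hN hx)) a).mp (hRN ha)⟩
  have h2 : Nat.card R ≤ Nat.card ↥(S ⊓ N) := by
    rw [← card_map_conj R x]
    exact Subgroup.card_le_of_le h1
  exact (Subgroup.eq_of_le_of_card_ge hSR h2).symm

/-- The Frattini argument. -/
theorem SylIn.frattini [Finite G] {p : ℕ} [Fact p.Prime] {S L N : Subgroup G} (h : SylIn p S N)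
    (hN : L ≤ normalizer (N : Set G)) {x : G} (hx : x ∈ L) :
    ∃ n ∈ N, n * x ∈ normalizer (S : Set G) := by
  have h1 : S.map (MulAut.conj x).toMonoidHom ≤ N := by
    rw [map_conj_le_iff]
    intro a ha
    exact ((Subgroup.mem_normalizer_iff.mp (hN hx)) a).mp (h.le ha)
  obtain ⟨n, hn, hnx⟩ := h.conj_le h1 (h.isPGroup.map _)
  refine ⟨n, hn, mem_normalizer_of_conj_mem fun a ha => ?_⟩
  have := hnx (x * a * x⁻¹) ⟨a, ha, rfl⟩
  have e : n * (x * a * x⁻¹) * n⁻¹ = n * x * a * (n * x)⁻¹ := by group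
  rwa [e] at this

/-- If every element of `L` has a `p`-power power in `N` (normal in `L`), then `L = N S`. -/
theorem SylIn.exists_mul [Finite G] {p : ℕ} [Fact p.Prime] {S L N : Subgroup G} (h : SylIn p S L)
    (hNL : N ≤ L) (hN : L ≤ normalizer (N : Set G)) (hpow : ∀ x ∈ L, ∃ k : ℕ, x ^ p ^ k ∈ N)
    {x : G} (hx : x ∈ L) : ∃ n ∈ N, ∃ s ∈ S, x = n * s := by
  -- work in `L`, with the quotient `L / N`
  have hNn : (N.subgroupOf L).Normal := (normal_subgroupOf_iff_le_normalizer hNL).mpr hN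
  obtain ⟨T, hT⟩ := h.exists_sylow
  have hq : IsPGroup p (L ⧸ N.subgroupOf L) := by
    intro q
    induction q using QuotientGroup.induction_on with | H y =>
    obtain ⟨k, hk⟩ := hpow y y.2
    refine ⟨k, ?_⟩
    rw [← QuotientGroup.mk_pow, QuotientGroup.eq_one_iff, mem_subgroupOf]
    exact hk
  -- the Sylow subgroup maps onto the quotient
  have h1 : ((T : Subgroup L).map (QuotientGroup.mk' (N.subgroupOf L))) = ⊤ := by
    have h2 : ¬ p ∣ ((T : Subgroup L).map (QuotientGroup.mk' (N.subgroupOf L))).index := by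
      intro hdvd
      have h3 : ((T : Subgroup L).map (QuotientGroup.mk' (N.subgroupOf L))).index ∣
          (T : Subgroup L).index :=
        index_map_dvd _ (QuotientGroup.mk'_surjective _)
      exact T.not_dvd_index (hdvd.trans h3)
    rw [← Subgroup.index_eq_one]
    obtain ⟨k, hk⟩ := hq.exists_card_eq
    have h4 := Subgroup.index_dvd_card ((T : Subgroup L).map (QuotientGroup.mk' (N.subgroupOf L)))
    rw [hk, Nat.dvd_prime_pow Fact.out] at h4
    obtain ⟨m, _, hm⟩ := h4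
    rcases Nat.eq_zero_or_pos m with hm0 | hm0
    · rw [hm, hm0, pow_zero]
    · exact absurd (hm ▸ dvd_pow_self p hm0.ne') h2
  have h2 : (QuotientGroup.mk' (N.subgroupOf L)) ⟨x, hx⟩ ∈
      ((T : Subgroup L).map (QuotientGroup.mk' (N.subgroupOf L))) := by rw [h1]; trivial
  obtain ⟨t, ht, hxt⟩ := h2
  have h3 : ((t : L)⁻¹ * ⟨x, hx⟩ : L) ∈ N.subgroupOf L := QuotientGroup.eq.mp hxt
  rw [mem_subgroupOf] at h3
  have htS : (t : G) ∈ S := by rw [← hT]; exact ⟨t, ht, rfl⟩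
  have htL : (t : G) ∈ L := t.2
  refine ⟨x * (t : G)⁻¹, ?_, t, htS, by group⟩
  have h4 := ((Subgroup.mem_normalizer_iff.mp (hN htL)) _).mp h3
  have e : (t : G) * (((t : L)⁻¹ * ⟨x, hx⟩ : L) : G) * (t : G)⁻¹ = x * (t : G)⁻¹ := by
    simp only [Subgroup.coe_mul, Subgroup.coe_inv]; group
  rwa [e] at h4

/-- An element of a `p`-group and of a `p'`-group is trivial. -/
theorem eq_one_of_mem_of_coprime [Finite G] {p : ℕ} [Fact p.Prime] {A K : Subgroup G}
    (hA : IsPGroup p A) (hK : (Nat.card K).Coprime p) {x : G} (hxA : x ∈ A) (hxK : x ∈ K) :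
    x = 1 := by
  obtain ⟨k, hk⟩ := hA ⟨x, hxA⟩
  have h1 : x ^ p ^ k = 1 := by
    have := congrArg (Subtype.val) hk
    simpa using this
  have h2 : x ^ Nat.card K = 1 := by
    have := congrArg (Subtype.val) (pow_card_eq_one' (x := (⟨x, hxK⟩ : K)))
    rwa [Subgroup.coe_pow, Subgroup.coe_one] at this
  have h3 : orderOf x ∣ Nat.gcd (Nat.card K) (p ^ k) :=
    Nat.dvd_gcd (orderOf_dvd_of_pow_eq_one h2) (orderOf_dvd_of_pow_eq_one h1)
  rw [Nat.Coprime.pow_right k hK] at h3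
  exact orderOf_eq_one_iff.mp (Nat.dvd_one.mp h3)

/-- A `p`-group `A` normalizing a `p'`-group `K` is a Sylow subgroup of `A K`. -/
theorem sylIn_sup_of_coprime [Finite G] {p : ℕ} [Fact p.Prime] {A K : Subgroup G}
    (hA : IsPGroup p A) (hK : (Nat.card K).Coprime p)
    (hAK : A ≤ normalizer (K : Set G)) : SylIn p A (A ⊔ K) := by
  refine ⟨le_sup_left, hA, fun R hAR hRX hR => le_antisymm ?_ hAR⟩
  intro r hr
  have h1 : r ∈ ((A ⊔ K : Subgroup G) : Set G) := hRX hr
  rw [Subgroup.coe_mul_of_left_le_normalizer_right _ _ hAK] at h1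
  obtain ⟨a, ha, k, hk, rfl⟩ := h1
  have h2 : k ∈ R := by
    have := mul_mem (inv_mem (hAR ha)) hr
    simpa using this
  have h3 := eq_one_of_mem_of_coprime hR hK h2 hk
  rw [h3]
  simpa using ha

/-- `p`-subgroups of `A K`, `K` a `p'`-group normalized by the `p`-group `A`, are conjugate into
`A` by an element of `K`. -/
theorem exists_conj_of_coprime [Finite G] {p : ℕ} [Fact p.Prime] {A B K : Subgroup G}
    (hA : IsPGroup p A) (hB : IsPGroup p B) (hK : (Nat.card K).Coprime p)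
    (hAK : A ≤ normalizer (K : Set G)) (hBAK : B ≤ A ⊔ K) :
    ∃ k ∈ K, ∀ b ∈ B, k * b * k⁻¹ ∈ A := by
  obtain ⟨x, hx, hxB⟩ := (sylIn_sup_of_coprime hA hK hAK).conj_le hBAK hB
  have h1 : x ∈ ((A ⊔ K : Subgroup G) : Set G) := hx
  rw [Subgroup.coe_mul_of_left_le_normalizer_right _ _ hAK] at h1
  obtain ⟨a, ha, k, hk, rfl⟩ := h1
  refine ⟨k, hk, fun b hb => ?_⟩
  have h2 := mul_mem (mul_mem (inv_mem ha) (hxB b hb)) ha
  have e : a⁻¹ * (a * k * b * (a * k)⁻¹) * a = k * b * k⁻¹ := by group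
  rwa [e] at h2

end Cfsg.Agent.Transfer.FusionBasic
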