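import Mathlib
import Cfsg.Agent.Lib.Cores
import Cfsg.Agent.Transfer.FusionBasic

/-!
# Glauberman's argument for control of strong fusion: the separate cases
-/

set_option autoImplicit false

namespace Cfsg.Agent.Transfer.FusionCases

open Subgroup Cfsg
open Cfsg.Agent.Transfer.FusionBasic

variable {G : Type*} [Group G]

/-- The subgroup `M` controls (strong) fusion in `P`. -/
def Ctrl (P M : Subgroup G) : Prop :=
  ∀ (H : Subgroup G) (g : G), H ≤ P → (∀ h ∈ H, g * h * g⁻¹ ∈ P) → Ind M H g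

theorem ctrl_def {P M : Subgroup G} : Ctrl P M ↔
    ∀ (H : Subgroup G) (g : G), H ≤ P → (∀ h ∈ H, g * h * g⁻¹ ∈ P) → Ind M H g := Iff.rfl

/-! ### Reduction to fully normalized subgroups -/

theorem ctrl_of_fullyNormalized [Finite G] {p : ℕ} [Fact p.Prime] (P : Sylow p G) (M : Subgroup G)
    (hM : normalizer ((P : Subgroup G) : Set G) ≤ M)
    (h : ∀ H : Subgroup G, H < (P : Subgroup G) →
      SylIn p ((P : Subgroup G) ⊓ normalizer (H : Set G)) (normalizer (H : Set G)) →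
      (∀ H' : Subgroup G, H' ≤ (P : Subgroup G) → Nat.card H < Nat.card H' → ∀ g : G,
        (∀ x ∈ H', g * x * g⁻¹ ∈ (P : Subgroup G)) → Ind M H' g) →
      ∀ n ∈ normalizer (H : Set G), Ind M H n) :
    Ctrl (P : Subgroup G) M := by
  have main : ∀ k : ℕ, ∀ H : Subgroup G, H ≤ (P : Subgroup G) →
      Nat.card (P : Subgroup G) - Nat.card H = k → ∀ g : G,
      (∀ x ∈ H, g * x * g⁻¹ ∈ (P : Subgroup G)) → Ind M H g := by
    intro k
    induction k using Nat.strong_induction_on with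
    | _ k ih =>
    intro H hHP hk g hg
    rcases eq_or_lt_of_le hHP with heq | hlt
    · -- `H = P`
      subst heq
      exact ind_of_mem (hM (mem_normalizer_of_conj_mem hg))
    · -- inner induction hypothesis
      have hcHP : Nat.card H < Nat.card (P : Subgroup G) :=
        Cfsg.Agent.PLocal.ConjFunctor.card_lt_card_of_lt hlt
      have IH : ∀ H' : Subgroup G, H' ≤ (P : Subgroup G) → Nat.card H < Nat.card H' → ∀ g : G,
          (∀ x ∈ H', g * x * g⁻¹ ∈ (P : Subgroup G)) → Ind M H' g := by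
        intro H' hH' hc g hg
        have h1 := Subgroup.card_le_of_le hH'
        exact ih (Nat.card (P : Subgroup G) - Nat.card H') (by omega) H' hH' rfl g hg
      have hHp : IsPGroup p H := P.isPGroup'.to_le hHP
      -- a fully normalized conjugate
      obtain ⟨R, hHR, hR⟩ := exists_sylIn_ge hHp (le_normalizer (H := H))
      obtain ⟨y, -, hy⟩ := (sylIn_top P).conj_le (R := R) le_top hR.isPGroup
      obtain ⟨Hs, hHs⟩ : ∃ Hs : Subgroup G, Hs = H.map (MulAut.conj y).toMonoidHom := ⟨_, rfl⟩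
      have hHsP : Hs ≤ (P : Subgroup G) := by
        rw [hHs, map_conj_le_iff]; exact fun a ha => hy a (hHR ha)
      have hcHs : Nat.card Hs = Nat.card H := by rw [hHs, card_map_conj]
      have hRs : SylIn p (R.map (MulAut.conj y).toMonoidHom) (normalizer (Hs : Set G)) := by
        rw [hHs, normalizer_map_conj]; exact hR.map_conj y
      have hT : SylIn p ((P : Subgroup G) ⊓ normalizer (Hs : Set G)) (normalizer (Hs : Set G)) := by
        have h1 := hRs.2.2 ((P : Subgroup G) ⊓ normalizer (Hs : Set G))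
          (le_inf (map_conj_le_iff.mpr hy) hRs.le) inf_le_right (P.isPGroup'.to_le inf_le_left)
        rw [h1]; exact hRs
      have hHslt : Hs < (P : Subgroup G) := by
        refine lt_of_le_of_ne hHsP ?_
        rintro rfl
        omega
      have key : ∀ n ∈ normalizer (Hs : Set G), Ind M Hs n :=
        h Hs hHslt hT (by rw [hcHs]; exact IH)
      -- every map from `Hs` into `P` is induced by `M`
      have claim : ∀ x : G, (∀ a ∈ Hs, x * a * x⁻¹ ∈ (P : Subgroup G)) → Ind M Hs x := by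
        intro x hx
        obtain ⟨H1, hH1⟩ : ∃ H1 : Subgroup G, H1 = Hs.map (MulAut.conj x).toMonoidHom := ⟨_, rfl⟩
        have hH1P : H1 ≤ (P : Subgroup G) := by rw [hH1, map_conj_le_iff]; exact hx
        have hcH1 : Nat.card H1 = Nat.card H := by rw [hH1, card_map_conj, hcHs]
        have hH1lt : H1 < (P : Subgroup G) := by
          refine lt_of_le_of_ne hH1P ?_
          rintro rfl
          omega
        have hlt2 := Cfsg.Agent.PLocal.ConjFunctor.lt_inf_normalizer P.isPGroup' hH1lt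
        have hclt2 := Cfsg.Agent.PLocal.ConjFunctor.card_lt_card_of_lt hlt2
        -- move `N_P(H1)` into `N_P(Hs)`
        have h2 : ((P : Subgroup G) ⊓ normalizer (H1 : Set G)).map (MulAut.conj x⁻¹).toMonoidHom ≤
            normalizer (Hs : Set G) := by
          have h3 : H1.map (MulAut.conj x⁻¹).toMonoidHom = Hs := by
            rw [hH1, map_conj_inv_map_conj]
          rw [← h3, normalizer_map_conj]
          exact map_mono inf_le_right
        obtain ⟨t, ht, htx⟩ := hT.conj_le h2 ((P.isPGroup'.to_le inf_le_left).map _)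
        have h4 : ∀ a ∈ (P : Subgroup G) ⊓ normalizer (H1 : Set G),
            (t * x⁻¹) * a * (t * x⁻¹)⁻¹ ∈ (P : Subgroup G) ⊓ normalizer (Hs : Set G) := by
          intro a ha
          have h5 := htx (x⁻¹ * a * (x⁻¹)⁻¹) ⟨a, ha, rfl⟩
          have e : t * (x⁻¹ * a * (x⁻¹)⁻¹) * t⁻¹ = (t * x⁻¹) * a * (t * x⁻¹)⁻¹ := by group
          rwa [e] at h5
        have h5 : Ind M ((P : Subgroup G) ⊓ normalizer (H1 : Set G)) (t * x⁻¹) :=
          IH _ inf_le_left (by omega) _ (fun a ha => (h4 a ha).1)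
        have h6 : Ind M H1 (t * x⁻¹) := h5.mono le_rfl (le_inf hH1P le_normalizer)
        have h7 : Ind M Hs (t * x⁻¹)⁻¹ := by
          apply h6.inv
          intro a ha
          rw [hH1, mem_map_conj_iff]
          have e : x⁻¹ * ((t * x⁻¹)⁻¹ * a * (t * x⁻¹)) * x = t⁻¹ * a * t := by group
          rw [e]
          have := ((Subgroup.mem_normalizer_iff.mp (inv_mem ht)) a).mp ha
          rwa [inv_inv] at this
        have h8 : Ind M Hs ((t * x⁻¹)⁻¹ * t) := (key t ht).comp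
          (fun a ha => ((Subgroup.mem_normalizer_iff.mp ht) a).mp ha) h7
        have e : (t * x⁻¹)⁻¹ * t = x := by group
        rwa [e] at h8
      -- conclusion
      have c1 : Ind M Hs y⁻¹ := claim y⁻¹ (fun a ha => by
        rw [hHs, mem_map_conj_iff] at ha
        rw [inv_inv]
        exact hHP ha)
      have c2 : Ind M Hs (g * y⁻¹) := claim (g * y⁻¹) (fun a ha => by
        rw [hHs, mem_map_conj_iff] at ha
        have := hg _ ha
        have e : g * y⁻¹ * a * (g * y⁻¹)⁻¹ = g * (y⁻¹ * a * y) * g⁻¹ := by group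
        rwa [e])
      have c3 : Ind M H (y⁻¹)⁻¹ := c1.inv (fun a ha => by
        rw [hHs]
        exact ⟨a, ha, by simp⟩)
      have c4 : Ind M H ((g * y⁻¹) * (y⁻¹)⁻¹) := c3.comp (K := Hs) (fun a ha => by
        rw [hHs]
        exact ⟨a, ha, by simp⟩) c2
      have e : (g * y⁻¹) * (y⁻¹)⁻¹ = g := by group
      rwa [e] at c4
  exact fun H g hH hg => main _ H hH rfl g hg

/-! ### The case `O_p(G) = 1`: chains of local subgroups -/

theorem ctrl_of_local [Finite G] {p : ℕ} [Fact p.Prime] (P : Sylow p G)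
    (W : Subgroup G → Subgroup G)
    (hWle : ∀ R : Subgroup G, W R ≤ R)
    (hWconj : ∀ (R : Subgroup G) (x : G), IsPGroup p R →
      W (R.map (MulAut.conj x).toMonoidHom) = (W R).map (MulAut.conj x).toMonoidHom)
    (hWne : ∀ R : Subgroup G, IsPGroup p R → R ≠ ⊥ → W R ≠ ⊥)
    (hloc : ∀ R : Subgroup G, IsPGroup p R → R ≠ ⊥ → ∀ S, SylIn p S (normalizer (R : Set G)) →
      ∀ H : Subgroup G, H ≤ S → ∀ g ∈ normalizer (R : Set G), (∀ h ∈ H, g * h * g⁻¹ ∈ S) →
        Ind (normalizer (R : Set G) ⊓ normalizer (W S : Set G)) H g) :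
    Ctrl (P : Subgroup G) (normalizer (W P : Set G)) := by
  have hWnorm : ∀ R : Subgroup G, IsPGroup p R →
      normalizer (R : Set G) ≤ normalizer (W R : Set G) := by
    intro R hR x hx
    rw [Subgroup.mem_normalizer_iff_map_conj_eq]
    have h1 := hWconj R x hR
    rw [map_conj_eq_of_mem_normalizer hx] at h1
    exact h1.symm
  apply ctrl_of_fullyNormalized P _ (hWnorm _ P.isPGroup')
  intro H hlt hT IH n hn
  by_cases hH1 : H = ⊥
  · subst hH1
    refine ⟨1, one_mem _, fun x hx => ?_⟩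
    rw [Subgroup.mem_bot.mp hx]; group
  have hHp : IsPGroup p H := P.isPGroup'.to_le hlt.le
  have hnH : ∀ h ∈ H, n * h * n⁻¹ ∈ H := fun h hh => ((Subgroup.mem_normalizer_iff.mp hn) h).mp hh
  obtain ⟨T, hTdef⟩ : ∃ T : Subgroup G, T = (P : Subgroup G) ⊓ normalizer (H : Set G) := ⟨_, rfl⟩
  have hHT : H ≤ T := by rw [hTdef]; exact le_inf hlt.le le_normalizer
  have hTP : T ≤ (P : Subgroup G) := by rw [hTdef]; exact inf_le_left
  have hTp : IsPGroup p T := P.isPGroup'.to_le hTP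
  have hcHT : Nat.card H < Nat.card T := by
    rw [hTdef]
    exact Cfsg.Agent.PLocal.ConjFunctor.card_lt_card_of_lt
      (Cfsg.Agent.PLocal.ConjFunctor.lt_inf_normalizer P.isPGroup' hlt)
  rw [← hTdef] at hT
  -- the family of candidates
  let 𝒮 : Set (Subgroup G) := {T' | T ≤ T' ∧ IsPGroup p T' ∧
    ∃ m ∈ normalizer (W T' : Set G), ∀ h ∈ H, m * h * m⁻¹ = n * h * n⁻¹}
  have hT𝒮 : T ∈ 𝒮 := by
    obtain ⟨m, hm, h⟩ := hloc H hHp hH1 T hT H hHT n hn (fun h hh => hHT (hnH h hh))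
    exact ⟨le_rfl, hTp, m, hm.2, h⟩
  obtain ⟨T', hT'max⟩ := Set.Finite.exists_maximal (Set.toFinite 𝒮) ⟨T, hT𝒮⟩
  obtain ⟨⟨hTT', hT'p, m, hm, hmn⟩, hmax⟩ := hT'max
  have hT'1 : T' ≠ ⊥ := by
    rintro rfl
    exact hH1 (le_bot_iff.mp (hHT.trans hTT'))
  have hW1 : W T' ≠ ⊥ := hWne T' hT'p hT'1
  have hWp : IsPGroup p (W T') := hT'p.to_le (hWle T')
  have hT'N : T' ≤ normalizer (W T' : Set G) :=
    (le_normalizer (H := T')).trans (hWnorm T' hT'p)
  obtain ⟨T'', hT'T'', hT''⟩ := exists_sylIn_ge hT'p hT'N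
  have hHT'' : H ≤ T'' := hHT.trans (hTT'.trans hT'T'')
  have hT''𝒮 : T'' ∈ 𝒮 := by
    obtain ⟨m', hm', h⟩ := hloc (W T') hWp hW1 T'' hT'' H hHT'' m hm
      (fun h hh => by rw [hmn h hh]; exact hHT'' (hnH h hh))
    exact ⟨hTT'.trans hT'T'', hT''.isPGroup, m', hm'.2, fun x hx => (h x hx).trans (hmn x hx)⟩
  have hT'eq : T'' = T' := le_antisymm (hmax hT''𝒮 hT'T'') hT'T''
  rw [hT'eq] at hT''
  -- `T'` is a Sylow subgroup of `G`
  obtain ⟨S, hS⟩ := hT'p.exists_le_sylow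
  have hT'S : T' = (S : Subgroup G) := by
    by_contra hne
    have hlt' : T' < (S : Subgroup G) := lt_of_le_of_ne hS hne
    have h1 := Cfsg.Agent.PLocal.ConjFunctor.lt_inf_normalizer S.isPGroup' hlt'
    have h2 := hT''.2.2 _ h1.le (inf_le_right.trans (hWnorm T' hT'p))
      (S.isPGroup'.to_le inf_le_left)
    exact h1.ne h2.symm
  -- conjugate `P` to `T'`
  obtain ⟨y, hy⟩ := MulAction.exists_smul_eq G P S
  have hPS : T' = (P : Subgroup G).map (MulAut.conj y).toMonoidHom := by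
    rw [hT'S, ← hy]
    exact Cfsg.Agent.PLocal.ConjFunctor.map_conj_smul_sylow P y
  have hTy : ∀ t ∈ T, y⁻¹ * t * (y⁻¹)⁻¹ ∈ (P : Subgroup G) := by
    intro t ht
    have h1 : t ∈ T' := hTT' ht
    rw [hPS, mem_map_conj_iff] at h1
    rwa [inv_inv]
  obtain ⟨m₁, hm₁, hm₁t⟩ := IH T hTP hcHT y⁻¹ hTy
  rw [hPS, hWconj _ _ P.isPGroup', normalizer_map_conj, mem_map_conj_iff] at hm
  refine ⟨m₁⁻¹ * (y⁻¹ * m * y) * m₁, mul_mem (mul_mem (inv_mem hm₁) hm) hm₁, fun x hx => ?_⟩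
  have e1 := hm₁t x (hHT hx)
  have e2 := hmn x hx
  have e3 := hm₁t (n * x * n⁻¹) (hHT (hnH x hx))
  calc m₁⁻¹ * (y⁻¹ * m * y) * m₁ * x * (m₁⁻¹ * (y⁻¹ * m * y) * m₁)⁻¹
      = m₁⁻¹ * (y⁻¹ * m * y) * (m₁ * x * m₁⁻¹) * (y⁻¹ * m * y)⁻¹ * m₁ := by group
    _ = m₁⁻¹ * (y⁻¹ * m * y) * (y⁻¹ * x * (y⁻¹)⁻¹) * (y⁻¹ * m * y)⁻¹ * m₁ := by rw [e1]
    _ = m₁⁻¹ * (y⁻¹ * (m * x * m⁻¹) * (y⁻¹)⁻¹) * m₁ := by group
    _ = m₁⁻¹ * (m₁ * (n * x * n⁻¹) * m₁⁻¹) * m₁ := by rw [e2, e3]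
    _ = n * x * n⁻¹ := by group

/-! ### Normal `p'`-subgroups -/

theorem ctrl_of_quotient_coprime [Finite G] {p : ℕ} [Fact p.Prime] {P : Subgroup G}
    (hP : IsPGroup p P) (K : Subgroup G) [K.Normal] (hK : (Nat.card K).Coprime p)
    (Z : Subgroup G) (hZP : Z ≤ P) (hPZ : P ≤ normalizer (Z : Set G))
    (h : Ctrl (P.map (QuotientGroup.mk' K))
      (normalizer ((Z.map (QuotientGroup.mk' K) : Subgroup (G ⧸ K)) : Set (G ⧸ K)))) :
    Ctrl P (normalizer (Z : Set G)) := by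
  intro H g hHP hg
  have hgK : K.Normal := inferInstance
  obtain ⟨mb, hmb, hmbh⟩ := h (H.map (QuotientGroup.mk' K)) (QuotientGroup.mk' K g)
    (map_mono hHP) (by
      rintro _ ⟨x, hx, rfl⟩
      exact ⟨g * x * g⁻¹, hg x hx, by simp⟩)
  obtain ⟨m, rfl⟩ := QuotientGroup.mk'_surjective K mb
  -- move `m` into the normalizer of `Z`
  have h1 : Z.map (MulAut.conj m).toMonoidHom ≤ Z ⊔ K := by
    rw [map_conj_le_iff]
    intro z hz
    have h2 := ((Subgroup.mem_normalizer_iff.mp hmb) (QuotientGroup.mk' K z)).mp ⟨z, hz, rfl⟩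
    obtain ⟨z', hz', hzz⟩ := h2
    have h3 : z'⁻¹ * (m * z * m⁻¹) ∈ K := by
      apply QuotientGroup.eq.mp
      have : (QuotientGroup.mk' K) z' = (QuotientGroup.mk' K) (m * z * m⁻¹) := by
        rw [hzz]; simp
      exact this
    have h4 := mul_mem (Subgroup.mem_sup_left hz' : z' ∈ Z ⊔ K)
      (Subgroup.mem_sup_right h3 : z'⁻¹ * (m * z * m⁻¹) ∈ Z ⊔ K)
    rwa [mul_inv_cancel_left] at h4
  obtain ⟨k, hk, hkm⟩ := exists_conj_of_coprime (hP.to_le hZP)
    ((hP.to_le hZP).map (MulAut.conj m).toMonoidHom) hK (le_normalizer_of_normal) h1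
  have hm1 : k * m ∈ normalizer (Z : Set G) := by
    apply mem_normalizer_of_conj_mem
    intro z hz
    have := hkm _ ⟨z, hz, rfl⟩
    have e : k * ((MulAut.conj m).toMonoidHom z) * k⁻¹ = k * m * z * (k * m)⁻¹ := by
      simp [MulAut.conj_apply]; group
    rwa [e] at this
  obtain ⟨m₁, hm₁def⟩ : ∃ m₁, m₁ = k * m := ⟨_, rfl⟩
  rw [← hm₁def] at hm1
  have hkK : (QuotientGroup.mk' K) k = 1 := (QuotientGroup.eq_one_iff k).mpr hk
  have hm₁h : ∀ x ∈ H, (g * x * g⁻¹)⁻¹ * (m₁ * x * m₁⁻¹) ∈ K := by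
    intro x hx
    rw [← QuotientGroup.eq_one_iff, ← QuotientGroup.mk'_apply]
    have h5 := hmbh ((QuotientGroup.mk' K) x) ⟨x, hx, rfl⟩
    rw [hm₁def]
    rw [map_mul, map_inv, inv_mul_eq_one]
    simp only [map_mul, map_inv, hkK, one_mul] at h5 ⊢
    exact h5.symm
  -- the subgroup `g H g⁻¹` and the `p'`-group `K ∩ N(Z)`
  obtain ⟨A, hA⟩ : ∃ A : Subgroup G, A = H.map (MulAut.conj g).toMonoidHom := ⟨_, rfl⟩
  have hAP : A ≤ P := by rw [hA, map_conj_le_iff]; exact hg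
  have hK1 : (Nat.card ↥(K ⊓ normalizer (Z : Set G))).Coprime p :=
    Nat.Coprime.coprime_dvd_left (Subgroup.card_dvd_of_le inf_le_left) hK
  have hAK1 : A ≤ normalizer ((K ⊓ normalizer (Z : Set G) : Subgroup G) : Set G) := by
    refine le_trans ?_ inf_normalizer_le_normalizer_inf
    exact le_inf le_normalizer_of_normal ((hAP.trans hPZ).trans le_normalizer)
  have hB : H.map (MulAut.conj m₁).toMonoidHom ≤ A ⊔ (K ⊓ normalizer (Z : Set G)) := by
    rw [map_conj_le_iff]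
    intro x hx
    have hgx : g * x * g⁻¹ ∈ A := by rw [hA]; exact ⟨x, hx, rfl⟩
    have h6 : (g * x * g⁻¹)⁻¹ * (m₁ * x * m₁⁻¹) ∈ K ⊓ normalizer (Z : Set G) :=
      Subgroup.mem_inf.mpr ⟨hm₁h x hx, mul_mem (inv_mem (hPZ (hg x hx)))
        (mul_mem (mul_mem hm1 (hPZ (hHP hx))) (inv_mem hm1))⟩
    have h7 := mul_mem
      (Subgroup.mem_sup_left hgx : g * x * g⁻¹ ∈ A ⊔ (K ⊓ normalizer (Z : Set G)))
      (Subgroup.mem_sup_right h6 :
        (g * x * g⁻¹)⁻¹ * (m₁ * x * m₁⁻¹) ∈ A ⊔ (K ⊓ normalizer (Z : Set G)))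
    rwa [mul_inv_cancel_left] at h7
  obtain ⟨k₁, hk₁, hk₁m⟩ := exists_conj_of_coprime (hP.to_le hAP)
    ((hP.to_le hHP).map (MulAut.conj m₁).toMonoidHom) hK1 hAK1 hB
  refine ⟨k₁ * m₁, mul_mem hk₁.2 hm1, fun x hx => ?_⟩
  have h8 : k₁ * m₁ * x * (k₁ * m₁)⁻¹ ∈ A := by
    have := hk₁m _ ⟨x, hx, rfl⟩
    have e : k₁ * ((MulAut.conj m₁).toMonoidHom x) * k₁⁻¹ = k₁ * m₁ * x * (k₁ * m₁)⁻¹ := by
      simp [MulAut.conj_apply]; group
    rwa [e] at this
  have h9 : g * x * g⁻¹ ∈ A := by rw [hA]; exact ⟨x, hx, rfl⟩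
  have h10 : (g * x * g⁻¹)⁻¹ * (k₁ * m₁ * x * (k₁ * m₁)⁻¹) ∈ K := by
    have h11 := hm₁h x hx
    have hk₁K : k₁ ∈ K := hk₁.1
    rw [← QuotientGroup.eq_one_iff, ← QuotientGroup.mk'_apply] at h11 ⊢
    have hk₁1 : (QuotientGroup.mk' K) k₁ = 1 := (QuotientGroup.eq_one_iff k₁).mpr hk₁K
    simp only [map_mul, map_inv, hk₁1, one_mul] at h11 ⊢
    exact h11
  have h11 := eq_one_of_mem_of_coprime (hP.to_le hAP) hK (mul_mem (inv_mem h9) h8) h10
  exact (inv_mul_eq_one.mp h11).symm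

/-! ### Central `p`-subgroups of index prime to `p` -/

open scoped IsMulCommutative in
theorem mul_pow_index_of_central {C : Type*} [Group C] [Finite C] (Z : Subgroup C)
    (hZ : Z ≤ center C) (x y : C) : (x * y) ^ Z.index = x ^ Z.index * y ^ Z.index := by
  have hcomm : IsMulCommutative Z :=
    ⟨⟨fun a b => Subtype.ext ((Subgroup.mem_center_iff.mp (hZ b.2)) a)⟩⟩
  have key : ∀ (g : C) (k : ℕ) (g₀ : C), g₀⁻¹ * g ^ k * g₀ ∈ Z → g₀⁻¹ * g ^ k * g₀ = g ^ k := by
    intro g k g₀ h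
    have h1 := (Subgroup.mem_center_iff.mp (hZ h)) g₀
    calc g₀⁻¹ * g ^ k * g₀ = g₀ * (g₀⁻¹ * g ^ k * g₀) * g₀⁻¹ := by rw [h1]; group
      _ = g ^ k := by group
  have h := fun g : C => MonoidHom.transfer_eq_pow (MonoidHom.id Z) g (key g)
  have h1 := (MonoidHom.transfer (MonoidHom.id Z)).map_mul x y
  rw [h, h, h] at h1
  exact congrArg Subtype.val h1

/-- If `G` has no nontrivial normal `p'`-subgroup, `Q` is a normal `p`-subgroup and
`C_P(Q) ≤ Q` for a Sylow `p`-subgroup `P`, then `C_G(Q) ≤ Q`. -/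
theorem centralizer_le_of_sylow_centralizer_le [Finite G] {p : ℕ} [Fact p.Prime] (P : Sylow p G)
    (Q : Subgroup G) [Q.Normal]
    (hO : ∀ K : Subgroup G, K.Normal → (Nat.card K).Coprime p → K = ⊥)
    (hPQ : (P : Subgroup G) ⊓ centralizer (Q : Set G) ≤ Q) :
    centralizer (Q : Set G) ≤ Q := by
  obtain ⟨C, hC⟩ : ∃ C : Subgroup G, C = centralizer (Q : Set G) := ⟨_, rfl⟩
  have hCn : C.Normal := by rw [hC]; infer_instance
  rw [← hC] at hPQ ⊢
  have hS : SylIn p ((P : Subgroup G) ⊓ C) C :=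
    (sylIn_top P).inf le_top (by rw [normalizer_eq_top])
  obtain ⟨T, hT⟩ := hS.exists_sylow
  -- `T` is central in `C`
  have hTc : (T : Subgroup C) ≤ center C := by
    intro t ht
    have h1 : (t : G) ∈ (P : Subgroup G) ⊓ C := by rw [← hT]; exact ⟨t, ht, rfl⟩
    rw [Subgroup.mem_center_iff]
    intro c
    have h2 : (c : G) ∈ centralizer (Q : Set G) := by rw [← hC]; exact c.2
    exact Subtype.ext ((Subgroup.mem_centralizer_iff.mp h2) _ (hPQ h1)).symm
  obtain ⟨n, hn⟩ : ∃ n, n = (T : Subgroup C).index := ⟨_, rfl⟩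
  have hmul : ∀ x y : C, (x * y) ^ n = x ^ n * y ^ n := by
    rw [hn]; exact mul_pow_index_of_central (T : Subgroup C) hTc
  have hncop : n.Coprime p := by
    rw [hn]
    exact ((Nat.Prime.coprime_iff_not_dvd Fact.out).mpr T.not_dvd_index).symm
  -- the kernel of the power map
  let K : Subgroup G :=
    { carrier := {x | x ∈ C ∧ x ^ n = 1}
      one_mem' := ⟨one_mem _, one_pow _⟩
      mul_mem' := by
        rintro a b ⟨ha, ha1⟩ ⟨hb, hb1⟩
        refine ⟨mul_mem ha hb, ?_⟩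
        have := congrArg Subtype.val (hmul ⟨a, ha⟩ ⟨b, hb⟩)
        simp only [Subgroup.coe_pow, Subgroup.coe_mul] at this
        rw [this, ha1, hb1, one_mul]
      inv_mem' := by
        rintro a ⟨ha, ha1⟩
        exact ⟨inv_mem ha, by rw [inv_pow, ha1, inv_one]⟩ }
  have hKmem : ∀ x, x ∈ K ↔ x ∈ C ∧ x ^ n = 1 := fun x => Iff.rfl
  have hKn : K.Normal := by
    refine ⟨fun x hx g => ?_⟩
    rw [hKmem] at hx ⊢
    refine ⟨hCn.conj_mem x hx.1 g, ?_⟩
    rw [conj_pow, hx.2, mul_one, mul_inv_cancel]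
  have hKc : (Nat.card K).Coprime p := by
    refine ((Nat.Prime.coprime_iff_not_dvd Fact.out).mpr ?_).symm
    intro hdvd
    obtain ⟨x, hx⟩ := exists_prime_orderOf_dvd_card' p hdvd
    have h1 : (x : G) ^ n = 1 := ((hKmem x).mp x.2).2
    have h2 : orderOf (x : G) = p := by rw [Subgroup.orderOf_coe]; exact hx
    have h3 : p ∣ n := by rw [← h2]; exact orderOf_dvd_of_pow_eq_one h1
    have h4 : p ∣ 1 := by
      have := Nat.dvd_gcd h3 (dvd_refl p)
      rwa [hncop] at this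
    exact (Fact.out : p.Prime).one_lt.ne' (Nat.dvd_one.mp h4)
  have hK1 := hO K hKn hKc
  -- `C` is a `p`-group
  have hCp : IsPGroup p C := by
    have hcomm : IsPGroup p (T : Subgroup C) := T.isPGroup'
    intro x
    have h1 : x ^ n ∈ (T : Subgroup C) := by
      rw [hn]
      have hTn : (T : Subgroup C).Normal := ⟨fun t ht c => by
        have := (Subgroup.mem_center_iff.mp (hTc ht)) c
        rw [this, mul_inv_cancel_right]; exact ht⟩
      exact Subgroup.pow_index_mem _ x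
    obtain ⟨k, hk⟩ := hcomm ⟨x ^ n, h1⟩
    refine ⟨k, ?_⟩
    have h2 : (x ^ n) ^ p ^ k = 1 := by
      have := congrArg Subtype.val hk
      simpa using this
    have h3 : ((x ^ p ^ k : C) : G) ∈ K := by
      rw [hKmem]
      refine ⟨(x ^ p ^ k : C).2, ?_⟩
      have h4 : (x ^ p ^ k) ^ n = 1 := by rw [← pow_mul, mul_comm, pow_mul, h2]
      have := congrArg Subtype.val h4
      simpa using this
    rw [hK1, Subgroup.mem_bot] at h3
    exact Subtype.ext h3
  have h1 := hS.2.2 C inf_le_right le_rfl hCp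
  rw [h1]
  exact hPQ

end Cfsg.Agent.Transfer.FusionCases
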