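import Mathlib
import Cfsg.Agent.Lib.Cores
import Cfsg.Agent.Transfer.FusionNonCentric

/-!
# Glauberman's theorem: section conjugacy functors controlling strong fusion

`controls_fusion`: let `W` be a functorial choice of subgroups of `p`-groups which is normal in every
member `G` of a class closed under subgroups and quotients with `C_G(O_p(G)) ≤ O_p(G)`. Then
`N_G(W(P))` controls strong fusion in the Sylow subgroup `P` of every member of the class.
-/

set_option autoImplicit false

namespace Cfsg.Agent.Transfer.FusionFunctor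

open Subgroup Cfsg
open Cfsg.Agent.Transfer.FusionBasic
open Cfsg.Agent.Transfer.FusionCases
open Cfsg.Agent.Transfer.FusionNonCentric

universe u

/-- A functorial choice `W P ≤ P` of a nontrivial subgroup of every nontrivial `p`-subgroup `P`. -/
structure IsSectionFunctor (p : ℕ) (W : ∀ (G : Type u) [Group G], Subgroup G → Subgroup G) :
    Prop where
  /-- `W P ≤ P` -/
  le : ∀ (G : Type u) [Group G] (P : Subgroup G), W G P ≤ P
  /-- homomorphisms injective on `P` map `W P` to `W` of the image. -/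
  map : ∀ (G H : Type u) [Group G] [Group H] [Finite G] [Finite H] (f : G →* H)
    (P : Subgroup G), IsPGroup p P → (∀ x ∈ P, f x = 1 → x = 1) →
      W H (P.map f) = (W G P).map f
  /-- `W P` is nontrivial if `P` is. -/
  ne_bot : ∀ (G : Type u) [Group G] [Finite G] (P : Subgroup G), IsPGroup p P → P ≠ ⊥ →
    W G P ≠ ⊥

variable {p : ℕ} {W : ∀ (G : Type u) [Group G], Subgroup G → Subgroup G}

theorem IsSectionFunctor.conj (hW : IsSectionFunctor p W) {G : Type u} [Group G] [Finite G]
    (R : Subgroup G) (x : G) (hR : IsPGroup p R) :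
    W G (R.map (MulAut.conj x).toMonoidHom) = (W G R).map (MulAut.conj x).toMonoidHom :=
  hW.map G G _ R hR (fun y _ hy => (MulAut.conj x).injective (by simpa using hy))

theorem IsSectionFunctor.normalizer_le (hW : IsSectionFunctor p W) {G : Type u} [Group G]
    [Finite G] (R : Subgroup G) (hR : IsPGroup p R) :
    normalizer (R : Set G) ≤ normalizer (W G R : Set G) := by
  intro x hx
  rw [Subgroup.mem_normalizer_iff_map_conj_eq]
  have h1 := hW.conj R x hR
  rw [map_conj_eq_of_mem_normalizer hx] at h1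
  exact h1.symm

theorem ind_of_subgroup (hW : IsSectionFunctor p W) {G : Type u} [Group G] [Finite G]
    {L S : Subgroup G} (hS : SylIn p S L)
    (hL : ∀ T : Sylow p L, Ctrl (T : Subgroup L) (normalizer (W L (T : Subgroup L) : Set L)))
    {H : Subgroup G} (hHS : H ≤ S) {g : G} (hgL : g ∈ L) (hg : ∀ h ∈ H, g * h * g⁻¹ ∈ S) :
    Ind (L ⊓ normalizer (W G S : Set G)) H g := by
  obtain ⟨T, hT⟩ := hS.exists_sylow
  have hmem : ∀ x : L, (x : G) ∈ S ↔ x ∈ (T : Subgroup L) := by
    intro x
    rw [← hT]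
    constructor
    · rintro ⟨y, hy, hxy⟩
      have : y = x := Subtype.ext hxy
      rwa [← this]
    · intro hx
      exact ⟨x, hx, rfl⟩
  obtain ⟨m, hm, hmh⟩ := hL T (H.subgroupOf L) ⟨g, hgL⟩
    (fun x hx => (hmem x).mp (hHS (mem_subgroupOf.mp hx)))
    (fun x hx => (hmem _).mp (hg _ (mem_subgroupOf.mp hx)))
  have hWS : W G S = (W L (T : Subgroup L)).map L.subtype := by
    rw [← hT]
    exact hW.map L G L.subtype (T : Subgroup L) T.isPGroup' (fun x _ hx => Subtype.ext hx)
  refine ⟨m, Subgroup.mem_inf.mpr ⟨m.2, ?_⟩, fun h hh => ?_⟩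
  · rw [hWS]
    exact Subgroup.le_normalizer_map L.subtype ⟨m, hm, rfl⟩
  · have hhL : h ∈ L := hS.le (hHS hh)
    have := congrArg Subtype.val (hmh ⟨h, hhL⟩ (mem_subgroupOf.mpr hh))
    exact this

/-- **Glauberman's theorem** on the control of strong fusion. -/
theorem ctrl_of_card [Fact p.Prime] (hW : IsSectionFunctor p W)
    (𝒢 : ∀ (G : Type u) [Group G], Prop)
    (hsub : ∀ (G : Type u) [Group G] [Finite G] (L : Subgroup G), 𝒢 G → 𝒢 L)
    (hquot : ∀ (G : Type u) [Group G] [Finite G] (N : Subgroup G) [N.Normal], 𝒢 G → 𝒢 (G ⧸ N))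
    (hloc : ∀ (G : Type u) [Group G] [Finite G], 𝒢 G →
      centralizer (pCore p G : Set G) ≤ pCore p G → ∀ P : Sylow p G, (W G P).Normal) (n : ℕ) :
    ∀ (G : Type u) [Group G] [Finite G], Nat.card G = n → 𝒢 G → ∀ P : Sylow p G,
      Ctrl (P : Subgroup G) (normalizer (W G P : Set G)) := by
  induction n using Nat.strong_induction_on with
  | _ n ih =>
  intro G _ _ hn hG P
  -- proper subgroups
  have hprop : ∀ L : Subgroup G, L ≠ ⊤ → ∀ T : Sylow p L,
      Ctrl (T : Subgroup L) (normalizer (W L (T : Subgroup L) : Set L)) := by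
    intro L hL T
    refine ih (Nat.card L) ?_ L rfl (hsub G L hG) T
    rw [← hn]
    exact lt_of_le_of_ne (Subgroup.card_le_card_group L)
      (fun h => hL ((Subgroup.card_eq_iff_eq_top L).mp h))
  -- quotients
  have hquo : ∀ N : Subgroup G, ∀ hN : N.Normal, N ≠ ⊥ → ∀ T : Sylow p (G ⧸ N),
      Ctrl (T : Subgroup (G ⧸ N)) (normalizer (W (G ⧸ N) (T : Subgroup (G ⧸ N)) : Set (G ⧸ N))) := by
    intro N hN hN1 T
    refine ih (Nat.card (G ⧸ N)) ?_ (G ⧸ N) rfl (hquot G N hG) T
    rw [← hn, Subgroup.card_eq_card_quotient_mul_card_subgroup N]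
    have h1 : 1 < Nat.card N := by
      rw [Subgroup.one_lt_card_iff_ne_bot]; exact hN1
    have h2 : 0 < Nat.card (G ⧸ N) := Nat.card_pos
    nlinarith
  have hPp : IsPGroup p (P : Subgroup G) := P.isPGroup'
  have hPW : (P : Subgroup G) ≤ normalizer (W G P : Set G) :=
    le_normalizer.trans (hW.normalizer_le _ hPp)
  by_cases hO : ∀ K : Subgroup G, K.Normal → (Nat.card K).Coprime p → K = ⊥
  swap
  · -- a nontrivial normal `p'`-subgroup
    push Not at hO
    obtain ⟨K, hKn, hKc, hK1⟩ := hO
    have hmap : W (G ⧸ K) ((P : Subgroup G).map (QuotientGroup.mk' K)) =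
        (W G P).map (QuotientGroup.mk' K) := by
      apply hW.map _ _ _ _ hPp
      intro x hx hx1
      have hxK : x ∈ K := (QuotientGroup.eq_one_iff x).mp hx1
      exact eq_one_of_mem_of_coprime hPp hKc hx hxK
    have h1 := hquo K hKn hK1 (P.mapSurjective (QuotientGroup.mk'_surjective K))
    rw [Sylow.coe_mapSurjective, hmap] at h1
    exact ctrl_of_quotient_coprime hPp K hKc (W G P) (hW.le G P) hPW h1
  · by_cases hQ1 : pCore p G = ⊥
    · -- `O_p(G) = 1`
      apply ctrl_of_local P (W G) (hW.le G) (fun R x hR => hW.conj R x hR) (hW.ne_bot G)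
      intro R hR hR1 S hS H hHS g hg hgS
      refine ind_of_subgroup hW hS (hprop _ ?_) hHS hg hgS
      intro htop
      have hRn : R.Normal := normalizer_eq_top_iff.mp htop
      have := Cfsg.Agent.Lib.Cores.le_pCore hRn hR
      rw [hQ1, le_bot_iff] at this
      exact hR1 this
    · by_cases hPC : (P : Subgroup G) ⊓ centralizer (pCore p G : Set G) ≤ pCore p G
      · -- characteristic `p`
        have hQn : (pCore p G).Normal := Cfsg.Agent.Lib.Cores.pCore_normal p
        have h1 := centralizer_le_of_sylow_centralizer_le P (pCore p G) hO hPC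
        have h2 : (W G P).Normal := hloc G hG h1 P
        intro H g _ _
        exact ind_of_mem (by rw [normalizer_eq_top (H := W G P)]; trivial)
      · -- the remaining case
        have hQn : (pCore p G).Normal := Cfsg.Agent.Lib.Cores.pCore_normal p
        have hQp : IsPGroup p (pCore p G) := Cfsg.Agent.Lib.Cores.pCore_isPGroup p
        have hPL : ∀ L : Subgroup G, (P : Subgroup G) ≤ L → SylIn p (P : Subgroup G) L :=
          fun L hL => ⟨hL, hPp, fun R hR _ hRp => P.is_maximal' hRp hR⟩
        apply ctrl_of_not_centric P _ (hW.normalizer_le _ hPp) hPC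
        · intro L hPL' hL H hHP g hg hgP
          exact (ind_of_subgroup hW (hPL L hPL') (hprop L hL) hHP hg hgP).mono inf_le_right le_rfl
        · -- the quotient by `O_p(G)`
          obtain ⟨Q, hQ⟩ : ∃ Q : Subgroup G, Q = pCore p G := ⟨_, rfl⟩
          rw [← hQ] at hQn hQp hPC hQ1 ⊢
          obtain ⟨Pb, hPb⟩ : ∃ Pb : Sylow p (G ⧸ Q),
              Pb = P.mapSurjective (QuotientGroup.mk'_surjective Q) := ⟨_, rfl⟩
          have hPbc : (Pb : Subgroup (G ⧸ Q)) = (P : Subgroup G).map (QuotientGroup.mk' Q) := by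
            rw [hPb, Sylow.coe_mapSurjective]
          have h1 := hquo Q hQn hQ1 Pb
          have hWb : (Pb : Subgroup (G ⧸ Q)) ≤
              normalizer (W (G ⧸ Q) (Pb : Subgroup (G ⧸ Q)) : Set (G ⧸ Q)) :=
            le_normalizer.trans (hW.normalizer_le _ Pb.isPGroup')
          refine ⟨(normalizer (W (G ⧸ Q) (Pb : Subgroup (G ⧸ Q)) : Set (G ⧸ Q))).comap
            (QuotientGroup.mk' Q), ?_, ?_, ?_⟩
          · rw [← map_le_iff_le_comap, ← hPbc]
            exact hWb
          · intro htop
            have h2 : normalizer (W (G ⧸ Q) (Pb : Subgroup (G ⧸ Q)) : Set (G ⧸ Q)) = ⊤ := by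
              rw [eq_top_iff]
              intro x _
              obtain ⟨y, rfl⟩ := QuotientGroup.mk'_surjective Q x
              have : y ∈ (normalizer (W (G ⧸ Q) (Pb : Subgroup (G ⧸ Q)) : Set (G ⧸ Q))).comap
                (QuotientGroup.mk' Q) := by rw [htop]; trivial
              exact this
            have h3 : (W (G ⧸ Q) (Pb : Subgroup (G ⧸ Q))).Normal := normalizer_eq_top_iff.mp h2
            have h4 : W (G ⧸ Q) (Pb : Subgroup (G ⧸ Q)) ≤ pCore p (G ⧸ Q) :=
              Cfsg.Agent.Lib.Cores.le_pCore h3 (Pb.isPGroup'.to_le (hW.le _ _))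
            have h5 : pCore p (G ⧸ Q) = ⊥ := by
              subst hQ
              exact Cfsg.Agent.Lib.Cores.pCore_quotient_pCore p
            rw [h5, le_bot_iff] at h4
            have h6 : (Pb : Subgroup (G ⧸ Q)) = ⊥ := by
              by_contra hne
              exact hW.ne_bot _ _ Pb.isPGroup' hne h4
            rw [hPbc, Subgroup.map_eq_bot_iff, QuotientGroup.ker_mk'] at h6
            exact hPC (inf_le_left.trans h6)
          · intro H hHP g hg
            obtain ⟨mb, hmb, hmbh⟩ := h1 (H.map (QuotientGroup.mk' Q)) (QuotientGroup.mk' Q g)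
              (by rw [hPbc]; exact map_mono hHP) (by
                rintro _ ⟨x, hx, rfl⟩
                rw [hPbc]
                exact ⟨g * x * g⁻¹, hg x hx, by simp⟩)
            obtain ⟨m, rfl⟩ := QuotientGroup.mk'_surjective Q mb
            refine ⟨m, hmb, fun h hh => ?_⟩
            rw [← QuotientGroup.eq_one_iff, ← QuotientGroup.mk'_apply]
            have h5 := hmbh ((QuotientGroup.mk' Q) h) ⟨h, hh, rfl⟩
            rw [map_mul, map_inv, inv_mul_eq_one]
            simp only [map_mul, map_inv] at h5 ⊢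
            exact h5.symm

theorem controls_fusion [Fact p.Prime] (hW : IsSectionFunctor p W)
    (𝒢 : ∀ (G : Type u) [Group G], Prop)
    (hsub : ∀ (G : Type u) [Group G] [Finite G] (L : Subgroup G), 𝒢 G → 𝒢 L)
    (hquot : ∀ (G : Type u) [Group G] [Finite G] (N : Subgroup G) [N.Normal], 𝒢 G → 𝒢 (G ⧸ N))
    (hloc : ∀ (G : Type u) [Group G] [Finite G], 𝒢 G →
      centralizer (pCore p G : Set G) ≤ pCore p G → ∀ P : Sylow p G, (W G P).Normal)
    (G : Type u) [Group G] [Finite G] (hG : 𝒢 G) (P : Sylow p G) (H : Subgroup G)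
    (hH : H ≤ (P : Subgroup G)) (g : G) (hg : ∀ h ∈ H, g * h * g⁻¹ ∈ (P : Subgroup G)) :
    ∃ m ∈ normalizer (W G P : Set G), ∀ h ∈ H, m * h * m⁻¹ = g * h * g⁻¹ :=
  ctrl_of_card hW 𝒢 hsub hquot hloc _ G rfl hG P H g hH hg

end Cfsg.Agent.Transfer.FusionFunctor
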