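import Mathlib
import Cfsg.Prelude.Def_Transfer
import Cfsg.Agent.Transfer.Residual

/-!
# Tate's theorem, general form

`hom_to_pGroup_extends`: if `H ≤ G` has (finite) index prime to `p` and every homomorphism from
`H` to the cyclic group of order `p` extends to `G`, then every homomorphism from `H` to a finite
`p`-group extends to `G`.  For finite `G` it follows that `H ∩ O^p(G) = O^p(H)`.
-/

set_option autoImplicit false

namespace Cfsg.Agent.Transfer.Tate

open Cfsg Cfsg.Agent.Transfer.Residual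

universe u v w

/-- Transfer of a homomorphism, evaluated on an element which is central in the big group. -/
theorem transfer_central {E : Type u} [Group E] {A : Type v} [CommGroup A] (H : Subgroup E)
    [H.FiniteIndex] (φ : H →* A) (z : H) (hz : ∀ g : E, g * z = z * g) :
    MonoidHom.transfer φ (z : E) = φ z ^ H.index := by
  have key : ∀ (k : ℕ) (g₀ : E), g₀⁻¹ * (z : E) ^ k * g₀ ∈ H →
      g₀⁻¹ * (z : E) ^ k * g₀ = (z : E) ^ k := by
    intro k g₀ _
    have hc : Commute g₀ (z : E) := hz g₀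
    have hc' : Commute g₀ ((z : E) ^ k) := hc.pow_right k
    rw [mul_assoc, ← hc'.eq, ← mul_assoc, inv_mul_cancel, one_mul]
  rw [MonoidHom.transfer_eq_pow φ (z : E) key, ← map_pow]
  rfl

/-- Transfer of a homomorphism `φ : P →* A` which is constant on `G`-fusion classes of `P`. -/
theorem transfer_fusion {G : Type u} [Group G] {A : Type v} [CommGroup A] (P : Subgroup G)
    [P.FiniteIndex] (φ : P →* A)
    (hφ : ∀ (x y : P) (g : G), g * x * g⁻¹ = y → φ x = φ y) (x : P) :
    MonoidHom.transfer φ (x : G) = φ x ^ P.index := by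
  have : Fintype (Quotient (MulAction.orbitRel (Subgroup.zpowers (x : G)) (G ⧸ P))) :=
    Fintype.ofFinite _
  rw [Subgroup.index_eq_sum_minimalPeriod P (x : G), ← Finset.prod_pow_eq_pow_sum,
    MonoidHom.transfer_eq_prod_quotient_orbitRel_zpowers_quot]
  apply Finset.prod_congr rfl
  intro q _
  rw [← map_pow]
  symm
  apply hφ _ _ (q.out.out⁻¹ : G)
  simp


/-- Subgroups of the centre are normal. -/
theorem normal_of_le_center {Q : Type v} [Group Q] {Z : Subgroup Q}
    (hZ : Z ≤ Subgroup.center Q) : Z.Normal := by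
  refine ⟨fun z hz g => ?_⟩
  have h := Subgroup.mem_center_iff.mp (hZ hz) g
  rw [h, mul_assoc, mul_inv_cancel, mul_one]
  exact hz

/-- The inductive step of Tate's theorem: lifting through a central extension by a group of
order `p`. -/
theorem extend_step {G : Type u} [Group G] {p : ℕ} [hp : Fact p.Prime] (H : Subgroup G)
    [H.FiniteIndex] (hH : ¬ p ∣ H.index)
    (hext : ∀ f : H →* Multiplicative (ZMod p),
      ∃ F : G →* Multiplicative (ZMod p), ∀ h : H, F h = f h)
    {Q : Type v} [Group Q] (Z : Subgroup Q) (hZ : Z ≤ Subgroup.center Q) (hZp : Nat.card Z = p)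
    [Z.Normal] (π : H →* Q) (θ₁ : G →* Q ⧸ Z) (hθ₁ : ∀ h : H, θ₁ h = (π h : Q ⧸ Z)) :
    ∃ F : G →* Q, ∀ h : H, F h = π h := by
  classical
  have hcen : ∀ z : Z, ∀ x : Q, x * z = z * x := fun z x => Subgroup.mem_center_iff.mp (hZ z.2) x
  have hA : Nat.card (Multiplicative (ZMod p)) = p := by simp
  let ε : Z ≃* Multiplicative (ZMod p) := mulEquivOfPrimeCardEq hZp hA
  -- an inverse of the index modulo `p`
  obtain ⟨m, hm⟩ : ∃ m : ℕ, ∀ a : Multiplicative (ZMod p), (a ^ H.index) ^ m = a := by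
    have hcop : Nat.Coprime H.index p := ((Nat.Prime.coprime_iff_not_dvd hp.out).mpr hH).symm
    obtain ⟨m, -, hm⟩ := Nat.exists_mul_mod_eq_one_of_coprime hcop hp.out.one_lt
    refine ⟨m, fun a => ?_⟩
    rw [← pow_mul]
    have h1 : a ^ p = 1 := by
      have := pow_card_eq_one' (x := a)
      rwa [hA] at this
    rw [← Nat.div_add_mod (H.index * m) p, hm, pow_add, pow_mul, h1, one_pow, one_mul, pow_one]
  -- the pullback
  let E : Subgroup (G × Q) :=
    (θ₁.comp (MonoidHom.fst G Q)).eqLocus ((QuotientGroup.mk' Z).comp (MonoidHom.snd G Q))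
  have memE : ∀ (g : G) (x : Q), (g, x) ∈ E ↔ θ₁ g = (x : Q ⧸ Z) := fun g x => Iff.rfl
  let pr : E →* G := (MonoidHom.fst G Q).comp E.subtype
  have hpr : ∀ e : E, pr e = (e : G × Q).1 := fun e => rfl
  have prsurj : Function.Surjective pr := by
    intro g
    obtain ⟨x, hx⟩ := QuotientGroup.mk'_surjective Z (θ₁ g)
    exact ⟨⟨(g, x), (memE g x).mpr hx.symm⟩, rfl⟩
  let K : Subgroup E := H.comap pr
  have hKindex : K.index = H.index := Subgroup.index_comap_of_surjective H prsurj
  have hKfin : K.FiniteIndex := ⟨by rw [hKindex]; exact Subgroup.FiniteIndex.index_ne_zero⟩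
  have memZ : ∀ e : K, (π ⟨pr e, e.2⟩)⁻¹ * ((e : E) : G × Q).2 ∈ Z := by
    intro e
    have h1 : θ₁ ((e : E) : G × Q).1 = ((((e : E) : G × Q).2 : Q) : Q ⧸ Z) := (e : E).2
    have h2 := hθ₁ ⟨pr e, e.2⟩
    exact QuotientGroup.eq.mp (h2.symm.trans h1)
  let φ : K →* Multiplicative (ZMod p) :=
    { toFun := fun e => ε ⟨(π ⟨pr e, e.2⟩)⁻¹ * ((e : E) : G × Q).2, memZ e⟩
      map_one' := by
        rw [← map_one ε]
        congr 1
        apply Subtype.ext
        have h1 : (⟨pr ((1 : K) : E), (1 : K).2⟩ : H) = 1 := rfl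
        change (π ⟨pr ((1 : K) : E), (1 : K).2⟩)⁻¹ * (1 : Q) = 1
        rw [h1, map_one, inv_one, mul_one]
      map_mul' := by
        intro a b
        rw [← map_mul]
        congr 1
        apply Subtype.ext
        have h1 : (⟨pr ((a * b : K) : E), (a * b).2⟩ : H) = ⟨pr a, a.2⟩ * ⟨pr b, b.2⟩ := rfl
        have h2 := hcen ⟨_, memZ a⟩ ((π ⟨pr b, b.2⟩)⁻¹)
        change (π ⟨pr ((a * b : K) : E), (a * b).2⟩)⁻¹ *
              (((a : E) : G × Q).2 * ((b : E) : G × Q).2) =
            ((π ⟨pr a, a.2⟩)⁻¹ * ((a : E) : G × Q).2) * ((π ⟨pr b, b.2⟩)⁻¹ * ((b : E) : G × Q).2)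
        rw [h1, map_mul, mul_inv_rev]
        calc (π ⟨pr b, b.2⟩)⁻¹ * (π ⟨pr a, a.2⟩)⁻¹ *
              (((a : E) : G × Q).2 * ((b : E) : G × Q).2)
            = ((π ⟨pr b, b.2⟩)⁻¹ * ((π ⟨pr a, a.2⟩)⁻¹ * ((a : E) : G × Q).2)) *
              ((b : E) : G × Q).2 := by group
          _ = (((π ⟨pr a, a.2⟩)⁻¹ * ((a : E) : G × Q).2) * (π ⟨pr b, b.2⟩)⁻¹) *
              ((b : E) : G × Q).2 := by rw [h2]
          _ = _ := by group }
  have hφ : ∀ e : K, φ e = ε ⟨(π ⟨pr e, e.2⟩)⁻¹ * ((e : E) : G × Q).2, memZ e⟩ := fun _ => rfl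
  let τ : E →* Multiplicative (ZMod p) := MonoidHom.transfer φ
  let c : E →* Z := ε.symm.toMonoidHom.comp ((powMonoidHom m).comp τ)
  have hc : ∀ e, c e = ε.symm (τ e ^ m) := fun _ => rfl
  let θ' : E →* Q :=
    { toFun := fun e => (e : G × Q).2 * ((c e : Z) : Q)⁻¹
      map_one' := by simp
      map_mul' := by
        intro a b
        have h2 := hcen (c a)⁻¹ ((b : G × Q).2)
        simp only [Subgroup.coe_inv] at h2
        have h3 : ((c b : Z) : Q)⁻¹ * ((c a : Z) : Q)⁻¹ = ((c a : Z) : Q)⁻¹ * ((c b : Z) : Q)⁻¹ := by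
          have := hcen (c a)⁻¹ ((c b : Z) : Q)⁻¹
          simpa only [Subgroup.coe_inv] using this
        simp only [map_mul, Subgroup.coe_mul, Prod.snd_mul, mul_inv_rev]
        calc (a : G × Q).2 * (b : G × Q).2 * (((c b : Z) : Q)⁻¹ * ((c a : Z) : Q)⁻¹)
            = (a : G × Q).2 * ((b : G × Q).2 * ((c a : Z) : Q)⁻¹) * ((c b : Z) : Q)⁻¹ := by
              rw [h3]; group
          _ = (a : G × Q).2 * (((c a : Z) : Q)⁻¹ * (b : G × Q).2) * ((c b : Z) : Q)⁻¹ := by
              rw [h2]
          _ = _ := by group }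
  have hθ' : ∀ e : E, θ' e = (e : G × Q).2 * ((c e : Z) : Q)⁻¹ := fun _ => rfl
  have hker : pr.ker ≤ θ'.ker := by
    intro e he
    have he1 : (e : G × Q).1 = 1 := he
    have heK : e ∈ K := by
      change pr e ∈ H
      rw [hpr, he1]
      exact H.one_mem
    have hez : (e : G × Q).2 ∈ Z := by
      have h1 : θ₁ (e : G × Q).1 = (((e : G × Q).2 : Q) : Q ⧸ Z) := e.2
      rw [he1, map_one] at h1
      exact (QuotientGroup.eq_one_iff _).mp h1.symm
    have hcentral : ∀ g : E, g * ((⟨e, heK⟩ : K) : E) = ((⟨e, heK⟩ : K) : E) * g := by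
      intro g
      apply Subtype.ext
      apply Prod.ext
      · simp [he1]
      · exact hcen ⟨_, hez⟩ _
    have ht : τ e = φ ⟨e, heK⟩ ^ K.index := transfer_central K φ ⟨e, heK⟩ hcentral
    have hφe : φ ⟨e, heK⟩ = ε ⟨_, hez⟩ := by
      rw [hφ]
      congr 1
      apply Subtype.ext
      have : (⟨pr ((⟨e, heK⟩ : K) : E), (⟨e, heK⟩ : K).2⟩ : H) = 1 := Subtype.ext he1
      simp [this]
    have hce : c e = ⟨_, hez⟩ := by
      rw [hc, ht, hφe, hKindex, hm]
      simp
    change θ' e = 1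
    rw [hθ', hce]
    simp
  let θ : G →* Q := pr.liftOfRightInverse (Function.surjInv prsurj)
    (Function.rightInverse_surjInv prsurj) ⟨θ', hker⟩
  have hθ : ∀ e : E, θ (pr e) = θ' e := fun e =>
    pr.liftOfRightInverse_comp_apply _ (Function.rightInverse_surjInv prsurj) ⟨θ', hker⟩ e
  -- restrict to `H`
  let j : H →* E :=
    { toFun := fun h => ⟨((h : G), π h), (memE _ _).mpr (hθ₁ h)⟩
      map_one' := by
        apply Subtype.ext
        simp
      map_mul' := by
        intro a b
        apply Subtype.ext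
        simp }
  have hj : ∀ h : H, pr (j h) = h := fun _ => rfl
  obtain ⟨F₀, hF₀⟩ := hext (ε.toMonoidHom.comp (c.comp j))
  have hF₀' : ∀ h : H, ε.symm (F₀ h) = c (j h) := by
    intro h
    rw [hF₀]
    simp
  refine ⟨{ toFun := fun g => θ g * ((ε.symm (F₀ g) : Z) : Q)
            map_one' := by simp
            map_mul' := ?_ }, ?_⟩
  · intro a b
    have h2 := hcen (ε.symm (F₀ a)) (θ b)
    simp only [map_mul, Subgroup.coe_mul]
    calc θ a * θ b * (((ε.symm (F₀ a) : Z) : Q) * ((ε.symm (F₀ b) : Z) : Q))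
        = θ a * (θ b * ((ε.symm (F₀ a) : Z) : Q)) * ((ε.symm (F₀ b) : Z) : Q) := by group
      _ = θ a * (((ε.symm (F₀ a) : Z) : Q) * θ b) * ((ε.symm (F₀ b) : Z) : Q) := by rw [h2]
      _ = _ := by group
  · intro h
    change θ h * ((ε.symm (F₀ h) : Z) : Q) = π h
    rw [hF₀' h]
    have := hθ (j h)
    rw [hj] at this
    rw [this, hθ']
    change π h * ((c (j h) : Z) : Q)⁻¹ * ((c (j h) : Z) : Q) = π h
    group

/-- A nontrivial finite `p`-group has a central subgroup of order `p`. -/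
theorem exists_central_card_eq {Q : Type v} [Group Q] [Finite Q] [Nontrivial Q] {p : ℕ}
    [hp : Fact p.Prime] (hQ : IsPGroup p Q) :
    ∃ Z : Subgroup Q, Z ≤ Subgroup.center Q ∧ Nat.card Z = p := by
  have hnt : Nontrivial (Subgroup.center Q) := hQ.center_nontrivial
  have hc : IsPGroup p (Subgroup.center Q) := hQ.to_subgroup _
  have hdvd : p ∣ Nat.card (Subgroup.center Q) := by
    obtain ⟨n, hn0, hn⟩ := hc.nontrivial_iff_card.mp hnt
    rw [hn]
    exact dvd_pow_self p hn0.ne'
  obtain ⟨z, hz⟩ := exists_prime_orderOf_dvd_card' p hdvd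
  refine ⟨Subgroup.zpowers (z : Q), ?_, ?_⟩
  · rw [Subgroup.zpowers_le]
    exact z.2
  · rw [Nat.card_zpowers, Subgroup.orderOf_coe, hz]

/-- **Tate's theorem** (general form).  If `H` has index prime to `p` in `G` and every
homomorphism from `H` to the group of order `p` extends to `G`, then every homomorphism from `H`
to a finite `p`-group extends to `G`. -/
theorem hom_to_pGroup_extends {G : Type u} [Group G] {p : ℕ} [hp : Fact p.Prime] (H : Subgroup G)
    [H.FiniteIndex] (hH : ¬ p ∣ H.index)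
    (hext : ∀ f : H →* Multiplicative (ZMod p),
      ∃ F : G →* Multiplicative (ZMod p), ∀ h : H, F h = f h)
    {Q : Type v} [Group Q] [Finite Q] (hQ : IsPGroup p Q) (f : H →* Q) :
    ∃ F : G →* Q, ∀ h : H, F h = f h := by
  induction hn : Nat.card Q using Nat.strong_induction_on generalizing Q with
  | _ n ih =>
    rcases subsingleton_or_nontrivial Q with hs | hs
    · exact ⟨1, fun h => Subsingleton.elim _ _⟩
    · obtain ⟨Z, hZ, hZp⟩ := exists_central_card_eq hQ
      have hZn : Z.Normal := normal_of_le_center hZ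
      have hlt : Nat.card (Q ⧸ Z) < n := by
        have h1 := Z.card_eq_card_quotient_mul_card_subgroup
        rw [hZp, hn] at h1
        have h2 : 0 < Nat.card (Q ⧸ Z) := Nat.card_pos
        have h3 := hp.out.one_lt
        nlinarith
      obtain ⟨θ₁, hθ₁⟩ := ih _ hlt (hQ.to_quotient Z) ((QuotientGroup.mk' Z).comp f) rfl
      exact extend_step H hH hext Z hZ hZp f θ₁ hθ₁

/-- Tate's theorem in terms of the residual `O^p`. -/
theorem tate_residual {G : Type u} [Group G] [Finite G] {p : ℕ} [hp : Fact p.Prime]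
    (H : Subgroup G) (hH : ¬ p ∣ H.index)
    (hext : ∀ f : H →* Multiplicative (ZMod p),
      ∃ F : G →* Multiplicative (ZMod p), ∀ h : H, F h = f h) :
    H ⊓ pResidual p G = (pResidual p H).map H.subtype := by
  refine le_antisymm ?_ (pResidual_subgroup_le_inf p H)
  have hn : (pResidual p H).Normal := pResidual_normal p
  obtain ⟨F, hF⟩ := hom_to_pGroup_extends H hH hext
    (isPGroup_quotient_pResidual (G := H) (p := p)) (QuotientGroup.mk' (pResidual p H))
  rintro x ⟨hxH, hxR⟩
  have h1 : F x = 1 := pResidual_le_ker (isPGroup_quotient_pResidual (G := H) (p := p)) F hxR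
  refine ⟨⟨x, hxH⟩, ?_, rfl⟩
  have h2 := hF ⟨x, hxH⟩
  change F x = _ at h2
  rw [h1] at h2
  exact (QuotientGroup.eq_one_iff _).mp h2.symm

/-- If `P` has index prime to `p` and a homomorphism from `P` to a finite abelian `p`-group is
constant on `G`-fusion classes, then it extends to `G`. -/
theorem hom_extends_of_fusion {G : Type u} [Group G] {p : ℕ} [hp : Fact p.Prime]
    (P : Subgroup G) [P.FiniteIndex] (hP : ¬ p ∣ P.index) {A : Type v} [CommGroup A]
    (hA : IsPGroup p A) (φ : P →* A)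
    (hφ : ∀ (x y : P) (g : G), g * x * g⁻¹ = y → φ x = φ y) :
    ∃ F : G →* A, ∀ x : P, F x = φ x := by
  have hcop : ¬ p ∣ P.index := hP
  let ψ := hA.powEquiv' hcop
  let F : G →* A :=
    { toFun := fun g => ψ.symm (MonoidHom.transfer φ g)
      map_one' := by
        rw [Equiv.symm_apply_eq, map_one]
        exact (one_pow _).symm
      map_mul' := by
        intro a b
        rw [Equiv.symm_apply_eq, map_mul]
        change _ = ((ψ.symm (MonoidHom.transfer φ a)) * (ψ.symm (MonoidHom.transfer φ b))) ^ P.index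
        rw [mul_pow]
        congr 1
        · exact (ψ.apply_symm_apply _).symm
        · exact (ψ.apply_symm_apply _).symm }
  refine ⟨F, fun x => ?_⟩
  change ψ.symm (MonoidHom.transfer φ (x : G)) = φ x
  rw [Equiv.symm_apply_eq, transfer_fusion P φ hφ x]
  rfl

/-- If `V` contains the Sylow `p`-subgroup `P` and controls the fusion of elements of `P` then
homomorphisms from `V` to abelian `p`-groups extend to `G`. -/
theorem hom_to_comm_pGroup_extends_of_fusion {G : Type u} [Group G] [Finite G] {p : ℕ}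
    [hp : Fact p.Prime] (P : Sylow p G) (V : Subgroup G) (hPV : (P : Subgroup G) ≤ V)
    (hfus : ∀ x ∈ (P : Subgroup G), ∀ g : G, g * x * g⁻¹ ∈ (P : Subgroup G) →
      ∃ v ∈ V, v * x * v⁻¹ = g * x * g⁻¹)
    {A : Type v} [CommGroup A] (hA : IsPGroup p A) (f : V →* A) :
    ∃ F : G →* A, ∀ x : V, F x = f x := by
  obtain ⟨F, hF⟩ := hom_extends_of_fusion (P : Subgroup G) P.not_dvd_index hA
    (f.comp (Subgroup.inclusion hPV)) (by
      intro x y g hxy
      obtain ⟨v, hv, hvx⟩ := hfus x x.2 g (hxy ▸ y.2)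
      have : Subgroup.inclusion hPV y = ⟨v, hv⟩ * Subgroup.inclusion hPV x * ⟨v, hv⟩⁻¹ := by
        apply Subtype.ext
        change (y : G) = v * x * v⁻¹
        rw [hvx, hxy]
      change f (Subgroup.inclusion hPV x) = f (Subgroup.inclusion hPV y)
      rw [this, map_mul, map_mul, map_inv, mul_comm (f ⟨v, hv⟩), mul_assoc, mul_inv_cancel,
        mul_one])
  refine ⟨F, ?_⟩
  have hidx : ¬ p ∣ ((P : Subgroup G).subgroupOf V).index := by
    intro h
    exact P.not_dvd_index (h.trans (Subgroup.relIndex_dvd_index_of_le hPV))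
  have := hom_eq_of_eq_on (H := (P : Subgroup G).subgroupOf V) hidx hA
    (f := F.comp V.subtype) (f' := f) (by
      intro x hx
      have := hF ⟨x, hx⟩
      exact this)
  intro x
  exact DFunLike.congr_fun this x

end Cfsg.Agent.Transfer.Tate
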