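import Mathlib

/-!
# Recognition of SL(2,3)

A group of order 24 generated by `i, j, t` with `i^4 = 1`, `j^2 = i^2`, `j i j⁻¹ = i⁻¹`,
`t^3 = 1`, `t i t⁻¹ = j`, `t j t⁻¹ = i j` is isomorphic to `SL(2,3)`.
-/

set_option autoImplicit false

namespace Cfsg.Agent.Transfer.SL23Recog

open Subgroup

section words
variable {M : Type*} [Group M] (i j t : M)

/-- The relations defining `Q₈`. -/
structure QRel (i j : M) : Prop where
  hi : i ^ 4 = 1
  hj : j ^ 2 = i ^ 2
  hji : j * i * j⁻¹ = i⁻¹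

/-- The relations defining `SL(2,3)` except for the order of `t`. -/
structure SLRel (i j t : M) : Prop extends QRel i j where
  hti : t * i * t⁻¹ = j
  htj : t * j * t⁻¹ = i * j

variable {i j t}

theorem QRel.inv_eq (h : QRel i j) : i⁻¹ = i ^ 3 := by
  rw [inv_eq_iff_mul_eq_one, ← pow_succ', h.hi]

/-- `j i = i³ j` -/
theorem QRel.ji (h : QRel i j) : j * i = i ^ 3 * j := by
  rw [← h.inv_eq, ← h.hji]; group

theorem QRel.jpow (h : QRel i j) (a : ℕ) : j * i ^ a = i ^ (3 * a) * j := by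
  induction a with
  | zero => simp
  | succ a ih =>
    rw [pow_succ, ← mul_assoc, ih, mul_assoc, h.ji, ← mul_assoc, ← pow_add]
    ring_nf

/-- the word `i^a j^b` -/
def qword (i j : M) (a b : ℕ) : M := i ^ a * j ^ b

theorem QRel.closure_eq (h : QRel i j) {x : M} (hx : x ∈ closure ({i, j} : Set M)) :
    ∃ a b : ℕ, a < 4 ∧ b < 2 ∧ x = i ^ a * j ^ b := by
  have key : ∀ x ∈ closure ({i, j} : Set M), ∃ a b : ℕ, x = i ^ a * j ^ b := by
    intro x hx
    induction hx using closure_induction_left with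
    | one => exact ⟨0, 0, by simp⟩
    | mul_left y hy z hz ih =>
      obtain ⟨a, b, rfl⟩ := ih
      rcases hy with rfl | hy
      · exact ⟨a + 1, b, by rw [pow_succ', mul_assoc]⟩
      · rw [Set.mem_singleton_iff] at hy
        subst hy
        exact ⟨3 * a, b + 1, by rw [← mul_assoc, h.jpow, mul_assoc, ← pow_succ']⟩
    | inv_mul_cancel y hy z hz ih =>
      obtain ⟨a, b, rfl⟩ := ih
      rcases hy with rfl | hy
      · exact ⟨a + 3, b, by rw [h.inv_eq, ← mul_assoc, ← pow_add, add_comm]⟩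
      · rw [Set.mem_singleton_iff] at hy
        subst hy
        have h4 : y ^ 4 = 1 := by
          rw [show (4 : ℕ) = 2 * 2 from rfl, pow_mul, h.hj, ← pow_mul]; exact h.hi
        have h5 : y⁻¹ = i ^ 2 * y := by
          rw [← h.hj, inv_eq_iff_mul_eq_one, ← pow_succ, ← pow_succ', h4]
        exact ⟨2 + 3 * a, b + 1, by
          rw [h5, mul_assoc, ← mul_assoc y, h.jpow, pow_add, pow_succ' y b]; group⟩
  obtain ⟨a, b, rfl⟩ := key x hx
  refine ⟨(a + 2 * (b / 2)) % 4, b % 2, Nat.mod_lt _ (by norm_num), Nat.mod_lt _ (by norm_num), ?_⟩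
  have e1 : j ^ b = i ^ (2 * (b / 2)) * j ^ (b % 2) := by
    conv_lhs => rw [← Nat.div_add_mod b 2]
    rw [pow_add, pow_mul, h.hj, ← pow_mul]
  rw [e1, ← mul_assoc, ← pow_add]
  congr 1
  rw [pow_eq_pow_mod _ h.hi]

theorem SLRel.closure_eq (h : SLRel i j t) (ht : t ^ 3 = 1) {x : M}
    (hx : x ∈ closure ({i, j, t} : Set M)) :
    ∃ a b c : ℕ, a < 4 ∧ b < 2 ∧ c < 3 ∧ x = i ^ a * j ^ b * t ^ c := by
  have hi' : i ∈ closure ({i, j} : Set M) := subset_closure (by simp)
  have hj' : j ∈ closure ({i, j} : Set M) := subset_closure (by simp)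
  have hconj : ∀ q ∈ closure ({i, j} : Set M), t * q * t⁻¹ ∈ closure ({i, j} : Set M) := by
    intro q hq
    obtain ⟨a, b, -, -, rfl⟩ := h.toQRel.closure_eq hq
    have : t * (i ^ a * j ^ b) * t⁻¹ = (t * i * t⁻¹) ^ a * (t * j * t⁻¹) ^ b := by
      rw [conj_pow, conj_pow]; group
    rw [this, h.hti, h.htj]
    exact mul_mem (pow_mem hj' _) (pow_mem (mul_mem hi' hj') _)
  have key : ∀ x ∈ closure ({i, j, t} : Set M), ∃ q ∈ closure ({i, j} : Set M), ∃ c : ℕ,
      x = q * t ^ c := by
    intro x hx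
    induction hx using closure_induction_left with
    | one => exact ⟨1, one_mem _, 0, by simp⟩
    | mul_left y hy z hz ih =>
      obtain ⟨q, hq, c, rfl⟩ := ih
      rcases hy with rfl | rfl | hy
      · exact ⟨y * q, mul_mem hi' hq, c, by rw [mul_assoc]⟩
      · exact ⟨y * q, mul_mem hj' hq, c, by rw [mul_assoc]⟩
      · rw [Set.mem_singleton_iff] at hy
        subst hy
        exact ⟨y * q * y⁻¹, hconj q hq, c + 1, by rw [pow_succ']; group⟩
    | inv_mul_cancel y hy z hz ih =>
      obtain ⟨q, hq, c, rfl⟩ := ih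
      rcases hy with rfl | rfl | hy
      · exact ⟨y⁻¹ * q, mul_mem (inv_mem hi') hq, c, by rw [mul_assoc]⟩
      · exact ⟨y⁻¹ * q, mul_mem (inv_mem hj') hq, c, by rw [mul_assoc]⟩
      · rw [Set.mem_singleton_iff] at hy
        subst hy
        have h5 : y⁻¹ = y * y := by
          rw [inv_eq_iff_mul_eq_one, ← ht, pow_succ', pow_two]
        refine ⟨y * (y * q * y⁻¹) * y⁻¹, hconj _ (hconj q hq), c + 2, ?_⟩
        calc y⁻¹ * (q * y ^ c) = (y * y) * (q * y ^ c) := by rw [h5]
          _ = y * (y * q * y⁻¹) * y⁻¹ * y ^ (c + 2) := by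
            rw [add_comm c 2, pow_add, pow_two]; group
  obtain ⟨q, hq, c, rfl⟩ := key x hx
  obtain ⟨a, b, ha, hb, rfl⟩ := h.toQRel.closure_eq hq
  exact ⟨a, b, c % 3, ha, hb, Nat.mod_lt _ (by norm_num), by rw [← pow_eq_pow_mod _ ht]⟩

theorem QRel.card_le (h : QRel i j) :
    Finite (closure ({i, j} : Set M)) ∧ Nat.card (closure ({i, j} : Set M)) ≤ 8 := by
  have hi' : i ∈ closure ({i, j} : Set M) := subset_closure (by simp)
  have hj' : j ∈ closure ({i, j} : Set M) := subset_closure (by simp)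
  let f : Fin 4 × Fin 2 → closure ({i, j} : Set M) := fun w =>
    ⟨i ^ (w.1 : ℕ) * j ^ (w.2 : ℕ), mul_mem (pow_mem hi' _) (pow_mem hj' _)⟩
  have hf : Function.Surjective f := by
    rintro ⟨x, hx⟩
    obtain ⟨a, b, ha, hb, rfl⟩ := h.closure_eq hx
    exact ⟨(⟨a, ha⟩, ⟨b, hb⟩), rfl⟩
  refine ⟨Finite.of_surjective f hf, ?_⟩
  have := Nat.card_le_card_of_surjective f hf
  simpa using this

theorem SLRel.card_le (h : SLRel i j t) (ht : t ^ 3 = 1) :
    Finite (closure ({i, j, t} : Set M)) ∧ Nat.card (closure ({i, j, t} : Set M)) ≤ 24 := by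
  have hi' : i ∈ closure ({i, j, t} : Set M) := subset_closure (by simp)
  have hj' : j ∈ closure ({i, j, t} : Set M) := subset_closure (by simp)
  have ht' : t ∈ closure ({i, j, t} : Set M) := subset_closure (by simp)
  let f : Fin 4 × Fin 2 × Fin 3 → closure ({i, j, t} : Set M) := fun w =>
    ⟨i ^ (w.1 : ℕ) * j ^ (w.2.1 : ℕ) * t ^ (w.2.2 : ℕ),
      mul_mem (mul_mem (pow_mem hi' _) (pow_mem hj' _)) (pow_mem ht' _)⟩
  have hf : Function.Surjective f := by
    rintro ⟨x, hx⟩
    obtain ⟨a, b, c, ha, hb, hc, rfl⟩ := h.closure_eq ht hx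
    exact ⟨(⟨a, ha⟩, ⟨b, hb⟩, ⟨c, hc⟩), rfl⟩
  refine ⟨Finite.of_surjective f hf, ?_⟩
  have := Nat.card_le_card_of_surjective f hf
  simpa using this

end words

/-- Two groups of order 24 generated by triples satisfying the relations are isomorphic. -/
theorem nonempty_mulEquiv {M M' : Type*} [Group M] [Group M'] {i j t : M} {i' j' t' : M'}
    (h : SLRel i j t) (ht : t ^ 3 = 1) (hgen : closure ({i, j, t} : Set M) = ⊤)
    (hcard : Nat.card M = 24)
    (h' : SLRel i' j' t') (ht' : t' ^ 3 = 1) (hgen' : closure ({i', j', t'} : Set M') = ⊤)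
    (hcard' : Nat.card M' = 24) : Nonempty (M ≃* M') := by
  let R : Subgroup (M × M') := closure ({(i, i'), (j, j'), (t, t')} : Set (M × M'))
  have hR : SLRel (i, i') (j, j') (t, t') :=
    { hi := by ext <;> simp [h.hi, h'.hi]
      hj := by ext <;> simp [h.hj, h'.hj]
      hji := by ext <;> simp [h.hji, h'.hji]
      hti := by ext <;> simp [h.hti, h'.hti]
      htj := by ext <;> simp [h.htj, h'.htj] }
  obtain ⟨hfin, hcardR⟩ := hR.card_le (by ext <;> simp [ht, ht'])
  have hfin' : Finite R := hfin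
  have hcardR' : Nat.card R ≤ 24 := hcardR
  haveI : Finite M := Nat.finite_of_card_ne_zero (by rw [hcard]; norm_num)
  haveI : Finite M' := Nat.finite_of_card_ne_zero (by rw [hcard']; norm_num)
  let f : R →* M := (MonoidHom.fst M M').comp R.subtype
  let f' : R →* M' := (MonoidHom.snd M M').comp R.subtype
  have hf : Function.Surjective f := by
    rw [← MonoidHom.range_eq_top, eq_top_iff, ← hgen, closure_le]
    rintro x (rfl | rfl | hx)
    · exact ⟨⟨(x, i'), subset_closure (by simp)⟩, rfl⟩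
    · exact ⟨⟨(x, j'), subset_closure (by simp)⟩, rfl⟩
    · rw [Set.mem_singleton_iff] at hx
      subst hx
      exact ⟨⟨(x, t'), subset_closure (by simp)⟩, rfl⟩
  have hf' : Function.Surjective f' := by
    rw [← MonoidHom.range_eq_top, eq_top_iff, ← hgen', closure_le]
    rintro x (rfl | rfl | hx)
    · exact ⟨⟨(i, x), subset_closure (by simp)⟩, rfl⟩
    · exact ⟨⟨(j, x), subset_closure (by simp)⟩, rfl⟩
    · rw [Set.mem_singleton_iff] at hx
      subst hx
      exact ⟨⟨(t, x), subset_closure (by simp)⟩, rfl⟩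
  have h24 : Nat.card R = 24 := by
    have := Nat.card_le_card_of_surjective f hf
    rw [hcard] at this
    exact le_antisymm hcardR' this
  have hb : Function.Bijective f := by
    rw [Nat.bijective_iff_surjective_and_card]
    exact ⟨hf, by rw [h24, hcard]⟩
  have hb' : Function.Bijective f' := by
    rw [Nat.bijective_iff_surjective_and_card]
    exact ⟨hf', by rw [h24, hcard']⟩
  exact ⟨(MulEquiv.ofBijective f hb).symm.trans (MulEquiv.ofBijective f' hb')⟩

section matrices

local notation "SL23" => Matrix.SpecialLinearGroup (Fin 2) (ZMod 3)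

/-- the element `i` of `SL(2,3)` -/
def mi : SL23 := ⟨!![0, -1; 1, 0], by decide⟩
/-- the element `j` of `SL(2,3)` -/
def mj : SL23 := ⟨!![1, 1; 1, 2], by decide⟩
/-- the element `t` of `SL(2,3)` -/
def mt : SL23 := ⟨!![1, 1; 0, 1], by decide⟩

theorem slrel_mi : SLRel mi mj mt where
  hi := by decide +kernel
  hj := by decide +kernel
  hji := by decide +kernel
  hti := by decide +kernel
  htj := by decide +kernel

theorem mt_pow : mt ^ 3 = 1 := by decide +kernel

theorem card_sl23 : Nat.card SL23 = 24 := by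
  rw [Nat.card_eq_fintype_card]
  decide +kernel

theorem closure_mi : Subgroup.closure ({mi, mj, mt} : Set SL23) = ⊤ := by
  rw [eq_top_iff]
  intro x _
  have key : ∀ x : SL23, ∃ a : Fin 4, ∃ b : Fin 2, ∃ c : Fin 3,
      x = mi ^ (a : ℕ) * mj ^ (b : ℕ) * mt ^ (c : ℕ) := by decide +kernel
  obtain ⟨a, b, c, hx⟩ := key x
  rw [hx]
  have hi' : mi ∈ Subgroup.closure ({mi, mj, mt} : Set SL23) := subset_closure (by simp)
  have hj' : mj ∈ Subgroup.closure ({mi, mj, mt} : Set SL23) := subset_closure (by simp)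
  have ht' : mt ∈ Subgroup.closure ({mi, mj, mt} : Set SL23) := subset_closure (by simp)
  exact mul_mem (mul_mem (pow_mem hi' _) (pow_mem hj' _)) (pow_mem ht' _)

/-- Recognition of `SL(2,3)`. -/
theorem sl23_of_relations {M : Type*} [Group M] {i j t : M} (h : SLRel i j t) (ht : t ^ 3 = 1)
    (hgen : Subgroup.closure ({i, j, t} : Set M) = ⊤) (hcard : Nat.card M = 24) :
    Nonempty (M ≃* SL23) :=
  nonempty_mulEquiv h ht hgen hcard slrel_mi mt_pow closure_mi card_sl23

end matrices

end Cfsg.Agent.Transfer.SL23Recog
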