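import Cfsg.Agent.Transfer.SL23Section

/-!
# Generalized quaternion groups inside a group
-/

set_option autoImplicit false

namespace Cfsg.Agent.Transfer.QuatSylow

open Subgroup Cfsg.Agent.Transfer.SL23Recog Cfsg.Agent.Transfer.SL23Section

theorem isQuat_map {M G : Type*} [Group M] [Group G] (f : M →* G) (hf : Function.Injective f)
    {S : Subgroup M} {c z : M} (h : IsQuat S c z) : IsQuat (S.map f) (f c) (f z) := by
  have hz : ∀ y : M, f y ∈ zpowers (f c) ↔ y ∈ zpowers c := by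
    intro y
    constructor
    · intro hy
      obtain ⟨k, hk⟩ := mem_zpowers_iff.mp hy
      rw [← map_zpow] at hk
      exact mem_zpowers_iff.mpr ⟨k, hf hk⟩
    · intro hy
      obtain ⟨k, rfl⟩ := mem_zpowers_iff.mp hy
      rw [map_zpow]
      exact zpow_mem (mem_zpowers _) k
  have hz' : ∀ u ∈ zpowers (f c), ∃ v ∈ zpowers c, u = f v := by
    intro u hu
    obtain ⟨k, rfl⟩ := mem_zpowers_iff.mp hu
    exact ⟨c ^ k, zpow_mem (mem_zpowers c) k, (map_zpow f c k).symm⟩
  refine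
    { c_mem := mem_map_of_mem f h.c_mem
      sq := ?_, conj := ?_, invol := ?_, z_sq := ?_, z_ne := ?_, z_mem := ?_, quot := ?_,
      two := ?_ }
  · rintro _ ⟨y, hy, rfl⟩ h1
    rw [hz] at h1
    rw [← map_pow, h.sq y hy h1]
  · rintro _ ⟨y, hy, rfl⟩ h1 u hu
    rw [hz] at h1
    obtain ⟨v, hv, rfl⟩ := hz' u hu
    rw [← map_inv, ← map_mul, ← map_mul, h.conj y hy h1 v hv, map_inv]
  · intro u hu h2
    obtain ⟨v, hv, rfl⟩ := hz' u hu
    rw [← map_pow] at h2
    have : v ^ 2 = 1 := hf (by rw [h2, map_one])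
    rcases h.invol v hv this with h3 | h3
    · left; rw [h3, map_one]
    · right; rw [h3]
  · rw [← map_pow, h.z_sq, map_one]
  · intro h1
    exact h.z_ne (hf (by rw [h1, map_one]))
  · rw [hz]; exact h.z_mem
  · rintro _ ⟨x, hx, rfl⟩ _ ⟨y, hy, rfl⟩ h1 h2
    rw [hz] at h1 h2
    rw [← map_inv, ← map_mul, hz]
    exact h.quot x hx y hy h1 h2
  · exact h.two.map f

open QuaternionGroup in
theorem mem_zpowers_a {m : ℕ} [NeZero m] (x : QuaternionGroup m) :
    x ∈ zpowers (a 1 : QuaternionGroup m) ↔ ∃ k, x = a k := by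
  constructor
  · intro hx
    have := mem_powers_iff_mem_zpowers.mpr hx
    obtain ⟨k, rfl⟩ := this
    exact ⟨k, a_one_pow k⟩
  · rintro ⟨k, rfl⟩
    rw [← ZMod.natCast_zmod_val k, ← a_one_pow]
    exact pow_mem (mem_zpowers _) _

open QuaternionGroup in
theorem isQuat_top (n : ℕ) :
    IsQuat (⊤ : Subgroup (QuaternionGroup (2 ^ n))) (a 1) (a ((2 ^ n : ℕ) : ZMod (2 * 2 ^ n))) := by
  haveI : NeZero (2 ^ n) := ⟨by positivity⟩
  have hnot : ∀ x : QuaternionGroup (2 ^ n), x ∉ zpowers (a 1) → ∃ k, x = xa k := by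
    intro x hx
    rcases x with k | k
    · exact absurd ((mem_zpowers_a _).mpr ⟨k, rfl⟩) hx
    · exact ⟨k, rfl⟩
  have h2 : (((2 ^ n : ℕ) : ZMod (2 * 2 ^ n)) + ((2 ^ n : ℕ) : ZMod (2 * 2 ^ n))) = 0 := by
    rw [← Nat.cast_add, ← two_mul, ZMod.natCast_self]
  refine
    { c_mem := mem_top _
      sq := ?_, conj := ?_, invol := ?_, z_sq := ?_, z_ne := ?_, z_mem := ?_, quot := ?_,
      two := ?_ }
  · intro x _ hx
    obtain ⟨k, rfl⟩ := hnot x hx
    exact xa_sq k
  · intro x _ hx u hu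
    obtain ⟨k, rfl⟩ := hnot x hx
    obtain ⟨l, rfl⟩ := (mem_zpowers_a _).mp hu
    rw [mul_inv_eq_iff_eq_mul]
    have : (a l : QuaternionGroup (2 ^ n))⁻¹ = a (-l) := rfl
    rw [this, a_mul_xa, xa_mul_a, sub_neg_eq_add]
  · intro u hu h1
    obtain ⟨l, rfl⟩ := (mem_zpowers_a _).mp hu
    rw [pow_two, a_mul_a, ← a_zero] at h1
    injection h1 with h1
    have h3 : ((l.val + l.val : ℕ) : ZMod (2 * 2 ^ n)) = 0 := by
      rw [Nat.cast_add, ZMod.natCast_zmod_val, h1]
    rw [ZMod.natCast_eq_zero_iff] at h3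
    have h4 : 2 ^ n ∣ l.val := by
      rw [← two_mul] at h3
      exact Nat.dvd_of_mul_dvd_mul_left (by norm_num) h3
    obtain ⟨q, hq⟩ := h4
    have h5 : l.val < 2 * 2 ^ n := ZMod.val_lt l
    have h6 : q < 2 := by
      by_contra hcon
      have : 2 ≤ q := by omega
      have : 2 ^ n * 2 ≤ 2 ^ n * q := Nat.mul_le_mul_left _ this
      omega
    interval_cases q
    · left
      have : l = 0 := by
        rw [← ZMod.val_eq_zero]; simpa using hq
      rw [this, a_zero]
    · right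
      congr 1
      rw [← ZMod.natCast_zmod_val l, hq, mul_one]
  · rw [pow_two, a_mul_a, h2, a_zero]
  · intro h1
    rw [← a_zero] at h1
    injection h1 with h1
    rw [ZMod.natCast_eq_zero_iff] at h1
    have := Nat.le_of_dvd (by positivity) h1
    have : 0 < 2 ^ n := by positivity
    omega
  · rw [mem_zpowers_a]; exact ⟨_, rfl⟩
  · intro x _ y _ hx hy
    obtain ⟨k, rfl⟩ := hnot x hx
    obtain ⟨l, rfl⟩ := hnot y hy
    rw [mem_zpowers_a]
    exact ⟨_, rfl⟩
  · refine IsPGroup.to_subgroup ?_ ⊤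
    rw [IsPGroup.iff_card]
    exact ⟨n + 2, by
      rw [Nat.card_eq_fintype_card, QuaternionGroup.card, pow_add]; ring⟩

/-- A subgroup isomorphic to a generalized quaternion 2-group. -/
theorem exists_isQuat {G : Type*} [Group G] (T : Subgroup G) (n : ℕ)
    (hT : Nonempty (T ≃* QuaternionGroup (2 ^ n))) : ∃ c z : G, IsQuat T c z := by
  obtain ⟨e⟩ := hT
  let f : QuaternionGroup (2 ^ n) →* G := T.subtype.comp e.symm.toMonoidHom
  have hf : Function.Injective f := by
    intro x y hxy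
    exact e.symm.injective (Subtype.ext hxy)
  have h := isQuat_map f hf (isQuat_top n)
  have htop : (⊤ : Subgroup (QuaternionGroup (2 ^ n))).map f = T := by
    ext x
    constructor
    · rintro ⟨y, -, rfl⟩
      exact (e.symm y).2
    · intro hx
      exact ⟨e ⟨x, hx⟩, mem_top _, by
        change ((e.symm (e ⟨x, hx⟩) : T) : G) = x
        rw [e.symm_apply_apply]⟩
  rw [htop] at h
  exact ⟨_, _, h⟩

end Cfsg.Agent.Transfer.QuatSylow
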