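import Mathlib

/-! Transfer evaluated at central elements; maximal subgroups of finite p-groups. -/

set_option autoImplicit false

namespace Cfsg.Agent.Transfer.CentralTransfer

open Subgroup

/-- The transfer of a central element `z` is `ϕ (z ^ index)`. -/
theorem transfer_of_mem_center {G : Type*} [Group G] {H : Subgroup G} [H.FiniteIndex]
    {A : Type*} [CommGroup A] (ϕ : H →* A) {z : G} (hz : z ∈ center G)
    (hzi : z ^ H.index ∈ H) :
    MonoidHom.transfer ϕ z = ϕ ⟨z ^ H.index, hzi⟩ := by
  have key : ∀ (k : ℕ) (g₀ : G), g₀⁻¹ * z ^ k * g₀ ∈ H → g₀⁻¹ * z ^ k * g₀ = z ^ k := by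
    intro k g₀ _
    have h1 : z ^ k ∈ center G := (center G).pow_mem hz k
    have h2 := (mem_center_iff.mp h1) g₀
    rw [mul_assoc, ← h2, inv_mul_cancel_left]
  exact MonoidHom.transfer_eq_pow ϕ z key

/-- The transfer of a central element of `H` is `ϕ z ^ index`. -/
theorem transfer_of_mem_center' {G : Type*} [Group G] {H : Subgroup G} [H.FiniteIndex]
    {A : Type*} [CommGroup A] (ϕ : H →* A) (z : H) (hz : (z : G) ∈ center G) :
    MonoidHom.transfer ϕ (z : G) = ϕ z ^ H.index := by
  rw [transfer_of_mem_center ϕ hz (H.pow_mem z.2 _), ← map_pow]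
  rfl

/-- In a perfect group (or for elements of the commutator subgroup) homomorphisms to commutative
groups vanish. -/
theorem map_eq_one_of_commutator_eq_top {G A : Type*} [Group G] [CommGroup A]
    (hG : commutator G = ⊤) (f : G →* A) (g : G) : f g = 1 := by
  have h : commutator G ≤ f.ker := Abelianization.commutator_subset_ker f
  have hg : g ∈ commutator G := by rw [hG]; exact mem_top g
  exact h hg

/-- If `G` is perfect and `H` is a subgroup of finite index, then for a central element `z ∈ H`
and a homomorphism `ϕ` from `H` to a commutative group, `ϕ z ^ index = 1`. -/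
theorem map_pow_index_eq_one_of_perfect {G : Type*} [Group G] (hG : commutator G = ⊤)
    {H : Subgroup G} [H.FiniteIndex] {A : Type*} [CommGroup A] (ϕ : H →* A) (z : H)
    (hz : (z : G) ∈ center G) : ϕ z ^ H.index = 1 := by
  rw [← transfer_of_mem_center' ϕ z hz]
  exact map_eq_one_of_commutator_eq_top hG _ _

/-- A maximal subgroup of a finite p-group is normal. -/
theorem normal_of_isCoatom {p : ℕ} [Fact p.Prime] {P : Type*} [Group P] [Finite P]
    (hP : IsPGroup p P) {M : Subgroup P} (hM : IsCoatom M) : M.Normal := by
  haveI := hP.isNilpotent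
  exact NormalizerCondition.normal_of_coatom M Group.normalizerCondition_of_isNilpotent hM

/-- The quotient of a finite p-group by a maximal subgroup is commutative. -/
theorem center_quotient_eq_top_of_isCoatom {p : ℕ} [Fact p.Prime] {P : Type*} [Group P] [Finite P]
    (hP : IsPGroup p P) {M : Subgroup P} (hM : IsCoatom M) [M.Normal] :
    center (P ⧸ M) = ⊤ := by
  haveI : Nontrivial (P ⧸ M) := by
    rw [QuotientGroup.nontrivial_iff]
    exact hM.1
  have hbot := (hP.to_quotient M).bot_lt_center
  have hle : M ≤ (center (P ⧸ M)).comap (QuotientGroup.mk' M) := by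
    intro x hx
    rw [mem_comap]
    have : QuotientGroup.mk' M x = 1 := by
      rw [QuotientGroup.mk'_apply]
      exact (QuotientGroup.eq_one_iff x).mpr hx
    rw [this]
    exact one_mem _
  have hsurj := QuotientGroup.mk'_surjective M
  rcases hle.eq_or_lt with h | h
  · exfalso
    apply hbot.ne'
    rw [← map_comap_eq_self_of_surjective hsurj (center (P ⧸ M)), ← h]
    exact QuotientGroup.map_mk'_self M
  · have h2 := hM.2 _ h
    rw [← map_comap_eq_self_of_surjective hsurj (center (P ⧸ M)), h2]
    exact map_top_of_surjective _ hsurj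

end Cfsg.Agent.Transfer.CentralTransfer
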