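import Mathlib
import Cfsg.Prelude.Def_Transfer
import Cfsg.Agent.Transfer.CentralComm
import Cfsg.Agent.Transfer.Extraspecial

/-!
# Extraspecial 2-groups: at most two isomorphism types for each order
-/

set_option autoImplicit false

namespace Cfsg.Agent.Transfer.ExtraspecialTwo

open Subgroup
open scoped commutatorElement
open Cfsg.Agent.Transfer.CentralComm Cfsg.Agent.Transfer.Extraspecial

/-- A group of class at most two with centre of order two. -/
structure CentralTwo (E : Type*) [Group E] : Prop where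
  comm_mem : ∀ a b : E, ⁅a, b⁆ ∈ center E
  card_center : Nat.card (center E) = 2

section Basic

variable {E : Type*} [Group E] (h : CentralTwo E)

include h

theorem CentralTwo.eq_of_ne_one {a b : E} (ha : a ∈ center E) (hb : b ∈ center E) (ha1 : a ≠ 1)
    (hb1 : b ≠ 1) : a = b := by
  obtain ⟨z, -, huniv⟩ := (Nat.card_eq_two_iff' (1 : center E)).mp h.card_center
  have h1 := huniv ⟨a, ha⟩ (fun h0 => ha1 (congrArg Subtype.val h0))
  have h2 := huniv ⟨b, hb⟩ (fun h0 => hb1 (congrArg Subtype.val h0))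
  exact congrArg Subtype.val (h1.trans h2.symm)

theorem CentralTwo.sq_eq_one {a : E} (ha : a ∈ center E) : a ^ 2 = 1 := by
  have h1 : (⟨a, ha⟩ : center E) ^ Nat.card (center E) = 1 := pow_card_eq_one'
  rw [h.card_center] at h1
  simpa using congrArg Subtype.val h1

theorem CentralTwo.sq_mem (x : E) : x ^ 2 ∈ center E := by
  rw [mem_center_iff]
  intro g
  rw [← commutatorElement_eq_one_iff_mul_comm, comm_pow_right h.comm_mem,
    h.sq_eq_one (h.comm_mem _ _)]

theorem CentralTwo.card_commutator {x y : E} (hxy : ⁅x, y⁆ ≠ 1) :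
    Nat.card (commutator E) = 2 := by
  have h1 : commutator E ≤ center E := by
    rw [commutator_def, commutator_le]
    intro a _ b _
    exact h.comm_mem a b
  have h2 : Nat.card (commutator E) ∣ 2 := h.card_center ▸ card_dvd_of_le h1
  rcases (Nat.dvd_prime Nat.prime_two).mp h2 with h3 | h3
  · exfalso
    have h4 : commutator E = ⊥ := card_eq_one.mp h3
    have h5 := Cfsg.Agent.Transfer.Extraspecial.comm_mem x y
    rw [h4, mem_bot] at h5
    exact hxy h5
  · exact h3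

theorem CentralTwo.mul_sq {x y : E} : (x * y) ^ 2 = x ^ 2 * y ^ 2 * ⁅y, x⁆ := by
  have := mul_pow_choose h.comm_mem x y 2
  simpa using this

/-- The centralizer of a non-commuting pair is again of the same kind, of order `|E|/4`. -/
theorem CentralTwo.centralizer {x y : E} (hxy : ⁅x, y⁆ ≠ 1) :
    CentralTwo (centralizer {x, y}) := by
  have : Fact (Nat.Prime 2) := ⟨Nat.prime_two⟩
  have hcen := center_centralizer_pair h.comm_mem (h.card_commutator hxy) hxy
  have hle : center E ≤ Subgroup.centralizer {x, y} := center_le_centralizer _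
  constructor
  · intro a b
    rw [hcen, mem_subgroupOf]
    exact h.comm_mem a b
  · rw [hcen, Nat.card_congr (subgroupOfEquivOfLe hle).toEquiv, h.card_center]

theorem CentralTwo.card_eq {x y : E} (hxy : ⁅x, y⁆ ≠ 1) :
    Nat.card E = 4 * Nat.card (Subgroup.centralizer {x, y}) := by
  have : Fact (Nat.Prime 2) := ⟨Nat.prime_two⟩
  have hidx := index_centralizer_pair h.comm_mem (h.card_commutator hxy) hxy
  rw [← (Subgroup.centralizer {x, y}).card_mul_index, hidx]
  ring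

end Basic

section Iso

/-- Powers `x^0, x^1` indexed by a boolean. -/
def bpow {E : Type*} [Group E] (x : E) (i : Bool) : E := if i = true then x else 1

/-- The carry cocycle: `x^2` if both bits are set. -/
def carry {E : Type*} [Group E] (x : E) (i k : Bool) : E := if (i && k) = true then x else 1

theorem bpow_mul_bpow {E : Type*} [Group E] (x : E) (i k : Bool) :
    bpow x i * bpow x k = bpow x (xor i k) * carry (x ^ 2) i k := by
  cases i <;> cases k <;> simp [bpow, carry, sq]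

theorem carry_mem {E : Type*} [Group E] {H : Subgroup E} {x : E} (hx : x ∈ H) (i k : Bool) :
    carry x i k ∈ H := by
  cases i <;> cases k <;> simp [carry, hx, H.one_mem]

variable {E : Type*} [Group E]

theorem bpow_mul_swap (h : CentralTwo E) (x y : E) (j k : Bool) :
    bpow y j * bpow x k = bpow x k * bpow y j * carry ⁅y, x⁆ j k := by
  cases j <;> cases k <;> simp [bpow, carry]
  exact mul_eq_mul_mul_comm h.comm_mem x y

/-- Coordinates `x^i y^j c`. -/
def coord (x y : E) (t : Bool × Bool × Subgroup.centralizer ({x, y} : Set E)) : E :=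
  bpow x t.1 * bpow y t.2.1 * (t.2.2 : E)

theorem coord_injective (h : CentralTwo E) {x y : E} (hxy : ⁅x, y⁆ ≠ 1) :
    Function.Injective (coord x y) := by
  have hyx : ⁅y, x⁆ ≠ 1 := by
    rw [← commutatorElement_inv]
    exact inv_ne_one.mpr hxy
  have hc := h.comm_mem
  have key : ∀ (i j : Bool) (c : Subgroup.centralizer ({x, y} : Set E)),
      ⁅coord x y (i, j, c), x⁆ = bpow ⁅y, x⁆ j ∧ ⁅coord x y (i, j, c), y⁆ = bpow ⁅x, y⁆ i := by
    intro i j c
    have hcx : ⁅(c : E), x⁆ = 1 :=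
      commutatorElement_eq_one_iff_mul_comm.mpr (mem_centralizer_iff.mp c.2 x (by simp)).symm
    have hcy : ⁅(c : E), y⁆ = 1 :=
      commutatorElement_eq_one_iff_mul_comm.mpr (mem_centralizer_iff.mp c.2 y (by simp)).symm
    constructor
    · simp only [coord]
      rw [comm_mul_left hc, comm_mul_left hc, hcx]
      cases i <;> cases j <;> simp [bpow]
    · simp only [coord]
      rw [comm_mul_left hc, comm_mul_left hc, hcy]
      cases i <;> cases j <;> simp [bpow]
  have binj : ∀ (z : E), z ≠ 1 → ∀ i k : Bool, bpow z i = bpow z k → i = k := by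
    intro z hz i k
    cases i <;> cases k <;> simp [bpow, hz, Ne.symm hz]
  rintro ⟨i, j, c⟩ ⟨k, l, d⟩ heq
  have h1 := (key i j c).1
  have h2 := (key i j c).2
  rw [heq, (key k l d).1] at h1
  rw [heq, (key k l d).2] at h2
  have hjl := binj _ hyx _ _ h1
  have hik := binj _ hxy _ _ h2
  subst hjl
  subst hik
  simp only [coord] at heq
  have h3 : c = d := Subtype.ext (mul_left_cancel heq)
  rw [h3]

theorem coord_bijective [Finite E] (h : CentralTwo E) {x y : E} (hxy : ⁅x, y⁆ ≠ 1) :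
    Function.Bijective (coord x y) := by
  rw [Nat.bijective_iff_injective_and_card]
  refine ⟨coord_injective h hxy, ?_⟩
  rw [Nat.card_prod, Nat.card_prod, h.card_eq hxy]
  simp
  ring

theorem coord_mul (h : CentralTwo E) (x y : E) (i j k l : Bool)
    (c d : Subgroup.centralizer ({x, y} : Set E)) :
    coord x y (i, j, c) * coord x y (k, l, d) =
      coord x y (xor i k, xor j l,
        (⟨carry (x ^ 2) i k, center_le_centralizer _ (carry_mem (h.sq_mem x) i k)⟩ *
          ⟨carry (y ^ 2) j l, center_le_centralizer _ (carry_mem (h.sq_mem y) j l)⟩ *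
          ⟨carry ⁅y, x⁆ j k, center_le_centralizer _ (carry_mem (h.comm_mem y x) j k)⟩) *
          (c * d)) := by
  have hx2 : ∀ g : E, g * carry (x ^ 2) i k = carry (x ^ 2) i k * g :=
    fun g => center_comm (carry_mem (h.sq_mem x) i k) g
  have hy2 : ∀ g : E, g * carry (y ^ 2) j l = carry (y ^ 2) j l * g :=
    fun g => center_comm (carry_mem (h.sq_mem y) j l) g
  have hz : ∀ g : E, g * carry ⁅y, x⁆ j k = carry ⁅y, x⁆ j k * g :=
    fun g => center_comm (carry_mem (h.comm_mem y x) j k) g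
  have hcx : ∀ k : Bool, (c : E) * bpow x k = bpow x k * (c : E) := by
    intro k
    have hcx' : (c : E) * x = x * (c : E) := (mem_centralizer_iff.mp c.2 x (by simp)).symm
    cases k <;> simp [bpow, hcx']
  have hcy : ∀ k : Bool, (c : E) * bpow y k = bpow y k * (c : E) := by
    intro k
    have hcx' : (c : E) * y = y * (c : E) := (mem_centralizer_iff.mp c.2 y (by simp)).symm
    cases k <;> simp [bpow, hcx']
  simp only [coord, coe_mul]
  calc bpow x i * bpow y j * (c : E) * (bpow x k * bpow y l * (d : E))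
      = bpow x i * bpow y j * ((c : E) * bpow x k) * bpow y l * (d : E) := by
        simp only [mul_assoc]
    _ = bpow x i * (bpow y j * bpow x k) * ((c : E) * bpow y l) * (d : E) := by
        rw [hcx]; simp only [mul_assoc]
    _ = bpow x i * (bpow x k * bpow y j * carry ⁅y, x⁆ j k) * (bpow y l * (c : E)) * (d : E) := by
        rw [hcy, bpow_mul_swap h]
    _ = (bpow x i * bpow x k) * (bpow y j * bpow y l) * (carry ⁅y, x⁆ j k * ((c : E) * (d : E))) := by
        have := hz (bpow y l)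
        simp only [mul_assoc]
        rw [← mul_assoc (carry ⁅y, x⁆ j k) (bpow y l), ← this, mul_assoc]
    _ = (bpow x (xor i k) * carry (x ^ 2) i k) * (bpow y (xor j l) * carry (y ^ 2) j l) *
          (carry ⁅y, x⁆ j k * ((c : E) * (d : E))) := by
        rw [bpow_mul_bpow x, bpow_mul_bpow y]
    _ = _ := by
        have := hx2 (bpow y (xor j l))
        simp only [mul_assoc]
        rw [← mul_assoc (carry (x ^ 2) i k) (bpow y (xor j l)), ← this, mul_assoc]

/-- Two groups of class at most two with centre of order two are isomorphic if they have non-commuting pairs with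
matching squares and isomorphic centralizers. -/
theorem iso_of_pairs {E₁ E₂ : Type*} [Group E₁] [Group E₂] [Finite E₁] [Finite E₂]
    (h₁ : CentralTwo E₁) (h₂ : CentralTwo E₂) {x₁ y₁ : E₁} {x₂ y₂ : E₂} (hxy₁ : ⁅x₁, y₁⁆ ≠ 1)
    (hxy₂ : ⁅x₂, y₂⁆ ≠ 1) (hx : x₁ ^ 2 = 1 ↔ x₂ ^ 2 = 1) (hy : y₁ ^ 2 = 1 ↔ y₂ ^ 2 = 1)
    (ψ : Subgroup.centralizer ({x₁, y₁} : Set E₁) ≃* Subgroup.centralizer ({x₂, y₂} : Set E₂)) :
    Nonempty (E₁ ≃* E₂) := by
  have : Fact (Nat.Prime 2) := ⟨Nat.prime_two⟩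
  have hle₁ : center E₁ ≤ Subgroup.centralizer {x₁, y₁} := center_le_centralizer _
  have hcen₁ := center_centralizer_pair h₁.comm_mem (h₁.card_commutator hxy₁) hxy₁
  have hcen₂ := center_centralizer_pair h₂.comm_mem (h₂.card_commutator hxy₂) hxy₂
  -- `ψ` maps central elements of `E₁` to central elements of `E₂`
  have hψc : ∀ (a : E₁) (ha : a ∈ center E₁), ((ψ ⟨a, hle₁ ha⟩ : _) : E₂) ∈ center E₂ := by
    intro a ha
    have h1 : (⟨a, hle₁ ha⟩ : Subgroup.centralizer ({x₁, y₁} : Set E₁)) ∈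
        center (Subgroup.centralizer ({x₁, y₁} : Set E₁)) := by
      rw [hcen₁, mem_subgroupOf]
      exact ha
    have h2 : ψ ⟨a, hle₁ ha⟩ ∈ center (Subgroup.centralizer ({x₂, y₂} : Set E₂)) := by
      rw [mem_center_iff] at h1 ⊢
      intro g
      obtain ⟨g', rfl⟩ := ψ.surjective g
      rw [← map_mul, ← map_mul, h1]
    rw [hcen₂, mem_subgroupOf] at h2
    exact h2
  -- and matches nontrivial elements
  have hψ : ∀ (a : E₁) (ha : a ∈ center E₁) (b : E₂), b ∈ center E₂ → (a = 1 ↔ b = 1) →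
      ((ψ ⟨a, hle₁ ha⟩ : _) : E₂) = b := by
    intro a ha b hb hab
    by_cases ha1 : a = 1
    · subst ha1
      rw [hab.mp rfl]
      have : (⟨1, hle₁ ha⟩ : Subgroup.centralizer ({x₁, y₁} : Set E₁)) = 1 := rfl
      rw [this, map_one]
      rfl
    · have hb1 : b ≠ 1 := fun hb1 => ha1 (hab.mpr hb1)
      refine h₂.eq_of_ne_one (hψc a ha) hb ?_ hb1
      intro h0
      have h3 : ψ ⟨a, hle₁ ha⟩ = 1 := Subtype.ext h0
      rw [map_eq_one_iff ψ ψ.injective] at h3
      exact ha1 (congrArg Subtype.val h3)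
  have hψcarry : ∀ (a : E₁) (ha : a ∈ center E₁) (b : E₂) (hb : b ∈ center E₂), (a = 1 ↔ b = 1) →
      ∀ i k : Bool, ψ ⟨carry a i k, hle₁ (carry_mem ha i k)⟩ =
        ⟨carry b i k, center_le_centralizer _ (carry_mem hb i k)⟩ := by
    intro a ha b hb hab i k
    apply Subtype.ext
    refine hψ _ (carry_mem ha i k) _ (carry_mem hb i k) ?_
    cases i <;> cases k <;> simp [carry, hab]
  have hyx₁ : ⁅y₁, x₁⁆ ≠ 1 := by
    rw [← commutatorElement_inv]
    exact inv_ne_one.mpr hxy₁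
  have hyx₂ : ⁅y₂, x₂⁆ ≠ 1 := by
    rw [← commutatorElement_inv]
    exact inv_ne_one.mpr hxy₂
  let e₁ := Equiv.ofBijective _ (coord_bijective h₁ hxy₁)
  let e₂ := Equiv.ofBijective _ (coord_bijective h₂ hxy₂)
  let m : (Bool × Bool × Subgroup.centralizer ({x₁, y₁} : Set E₁)) ≃
      (Bool × Bool × Subgroup.centralizer ({x₂, y₂} : Set E₂)) :=
    (Equiv.refl Bool).prodCongr ((Equiv.refl Bool).prodCongr ψ.toEquiv)
  let φ : E₁ ≃ E₂ := e₁.symm.trans (m.trans e₂)
  have hφ : ∀ (i j : Bool) (c : Subgroup.centralizer ({x₁, y₁} : Set E₁)),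
      φ (coord x₁ y₁ (i, j, c)) = coord x₂ y₂ (i, j, ψ c) := by
    intro i j c
    have h1 : e₁.symm (coord x₁ y₁ (i, j, c)) = (i, j, c) := by
      rw [Equiv.symm_apply_eq]
      rfl
    show e₂ (m (e₁.symm (coord x₁ y₁ (i, j, c)))) = _
    rw [h1]
    rfl
  refine ⟨MulEquiv.mk φ ?_⟩
  intro a b
  obtain ⟨⟨i, j, c⟩, rfl⟩ := (coord_bijective h₁ hxy₁).2 a
  obtain ⟨⟨k, l, d⟩, rfl⟩ := (coord_bijective h₁ hxy₁).2 b
  show φ (coord x₁ y₁ (i, j, c) * coord x₁ y₁ (k, l, d)) =
    φ (coord x₁ y₁ (i, j, c)) * φ (coord x₁ y₁ (k, l, d))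
  rw [coord_mul h₁, hφ, hφ, hφ, coord_mul h₂]
  rw [map_mul, map_mul, map_mul, map_mul]
  rw [hψcarry _ (h₁.sq_mem x₁) _ (h₂.sq_mem x₂) hx, hψcarry _ (h₁.sq_mem y₁) _ (h₂.sq_mem y₂) hy,
    hψcarry _ (h₁.comm_mem y₁ x₁) _ (h₂.comm_mem y₂ x₂) (by simp [hyx₁, hyx₂])]

end Iso

section Dichotomy

variable {E : Type*} [Group E]

/-- Either there is a non-commuting pair of elements of square 1, or there is a non-commuting pair of elements
with square the central involution. -/
theorem dichotomy (h : CentralTwo E) {x y : E} (hxy : ⁅x, y⁆ ≠ 1) :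
    (∃ a b : E, ⁅a, b⁆ ≠ 1 ∧ a ^ 2 = 1 ∧ b ^ 2 = 1) ∨ (x ^ 2 ≠ 1 ∧ y ^ 2 ≠ 1) := by
  have hyx : ⁅y, x⁆ ≠ 1 := by
    rw [← commutatorElement_inv]
    exact inv_ne_one.mpr hxy
  by_cases hx : x ^ 2 = 1
  · left
    by_cases hy : y ^ 2 = 1
    · exact ⟨x, y, hxy, hx, hy⟩
    · refine ⟨x, x * y, ?_, hx, ?_⟩
      · rw [comm_mul_right h.comm_mem, commutatorElement_self, one_mul]
        exact hxy
      · rw [h.mul_sq, hx, one_mul, h.eq_of_ne_one (h.sq_mem y) (h.comm_mem y x) hy hyx, ← sq]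
        exact h.sq_eq_one (h.comm_mem y x)
  · by_cases hy : y ^ 2 = 1
    · left
      refine ⟨x * y, y, ?_, ?_, hy⟩
      · rw [comm_mul_left h.comm_mem, commutatorElement_self, mul_one]
        exact hxy
      · rw [h.mul_sq, hy, mul_one, h.eq_of_ne_one (h.sq_mem x) (h.comm_mem y x) hx hyx, ← sq]
        exact h.sq_eq_one (h.comm_mem y x)
    · right
      exact ⟨hx, hy⟩

/-- If the centralizer of some non-commuting pair is not commutative then there is a non-commuting pair of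
elements of square 1. -/
theorem exists_involution_pair (h : CentralTwo E) {x y : E} (hxy : ⁅x, y⁆ ≠ 1)
    {u v : Subgroup.centralizer ({x, y} : Set E)} (huv : ⁅u, v⁆ ≠ 1) :
    ∃ a b : E, ⁅a, b⁆ ≠ 1 ∧ a ^ 2 = 1 ∧ b ^ 2 = 1 := by
  rcases dichotomy h hxy with h1 | ⟨hx, hy⟩
  · exact h1
  · -- some element `w` of the centralizer has square `≠ 1`
    have hw : ∃ w : Subgroup.centralizer ({x, y} : Set E), w ^ 2 ≠ 1 := by
      by_contra hcon
      push Not at hcon
      apply huv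
      have h1 := hcon (u * v)
      have h2 := hcon u
      have h3 := hcon v
      rw [commutatorElement_eq_one_iff_mul_comm]
      rw [sq] at h1 h2 h3
      have hu : u⁻¹ = u := inv_eq_of_mul_eq_one_left h2
      have hv : v⁻¹ = v := inv_eq_of_mul_eq_one_left h3
      have huv' : (u * v)⁻¹ = u * v := inv_eq_of_mul_eq_one_left h1
      rw [mul_inv_rev, hu, hv] at huv'
      exact huv'.symm
    obtain ⟨w, hw⟩ := hw
    have hw2 : (w : E) ^ 2 ≠ 1 := fun h0 => hw (Subtype.ext h0)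
    have hwx : ⁅(w : E), x⁆ = 1 :=
      commutatorElement_eq_one_iff_mul_comm.mpr (mem_centralizer_iff.mp w.2 x (by simp)).symm
    have hwy : ⁅(w : E), y⁆ = 1 :=
      commutatorElement_eq_one_iff_mul_comm.mpr (mem_centralizer_iff.mp w.2 y (by simp)).symm
    have hxw : ⁅x, (w : E)⁆ = 1 :=
      commutatorElement_eq_one_iff_mul_comm.mpr (mem_centralizer_iff.mp w.2 x (by simp))
    refine ⟨x * w, y * w, ?_, ?_, ?_⟩
    · rw [comm_mul_left h.comm_mem, comm_mul_right h.comm_mem, comm_mul_right h.comm_mem, hwy, hxw,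
        commutatorElement_self, mul_one, mul_one, mul_one]
      exact hxy
    · rw [h.mul_sq, hwx, mul_one, h.eq_of_ne_one (h.sq_mem x) (h.sq_mem (w : E)) hx hw2, ← sq]
      exact h.sq_eq_one (h.sq_mem _)
    · rw [h.mul_sq, hwy, mul_one, h.eq_of_ne_one (h.sq_mem y) (h.sq_mem (w : E)) hy hw2, ← sq]
      exact h.sq_eq_one (h.sq_mem _)

/-- A group with centre of order two and order larger than two is not commutative. -/
theorem exists_comm_ne_one_of_card (h : CentralTwo E) (hcard : Nat.card E ≠ 2) :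
    ∃ x y : E, ⁅x, y⁆ ≠ 1 := by
  by_contra hcon
  push Not at hcon
  apply hcard
  have h1 : center E = ⊤ := by
    rw [eq_top_iff]
    intro x _
    rw [mem_center_iff]
    intro g
    exact commutatorElement_eq_one_iff_mul_comm.mp (hcon g x)
  have h2 := h.card_center
  rw [h1, card_top] at h2
  exact h2

end Dichotomy

/-- Groups of order two are isomorphic. -/
theorem iso_of_card_two {E₁ E₂ : Type*} [Group E₁] [Group E₂] (h₁ : Nat.card E₁ = 2)
    (h₂ : Nat.card E₂ = 2) : Nonempty (E₁ ≃* E₂) := by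
  have : Fact (Nat.Prime 2) := ⟨Nat.prime_two⟩
  exact ⟨mulEquivOfPrimeCardEq h₁ h₂⟩

/-- The property of having a non-commuting pair of elements of square 1. -/
def HasInvPair (E : Type*) [Group E] : Prop := ∃ a b : E, ⁅a, b⁆ ≠ 1 ∧ a ^ 2 = 1 ∧ b ^ 2 = 1

theorem card_centralizer {E : Type*} [Group E] (h : CentralTwo E) {n : ℕ}
    (hc : Nat.card E = 2 ^ (2 * (n + 1) + 1)) {x y : E} (hxy : ⁅x, y⁆ ≠ 1) :
    Nat.card (Subgroup.centralizer ({x, y} : Set E)) = 2 ^ (2 * n + 1) := by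
  have h1 := h.card_eq hxy
  have hpow : 2 ^ (2 * (n + 1) + 1) = 4 * 2 ^ (2 * n + 1) := by ring
  rw [hc, hpow] at h1
  exact (Nat.eq_of_mul_eq_mul_left (by norm_num) h1).symm

theorem exists_comm_ne_one_of_pow {E : Type*} [Group E] (h : CentralTwo E) {n : ℕ}
    (hc : Nat.card E = 2 ^ (2 * (n + 1) + 1)) : ∃ x y : E, ⁅x, y⁆ ≠ 1 := by
  apply exists_comm_ne_one_of_card h
  rw [hc]
  have : 2 ^ (2 * (n + 1) + 1) = 8 * 2 ^ (2 * n) := by ring
  have h2 : 1 ≤ 2 ^ (2 * n) := Nat.one_le_two_pow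
  omega

/-- In order at least 32 there always is a non-commuting pair of elements of square 1. -/
theorem hasInvPair_of_card {E : Type*} [Group E] (h : CentralTwo E) {n : ℕ}
    (hc : Nat.card E = 2 ^ (2 * (n + 1 + 1) + 1)) : HasInvPair E := by
  obtain ⟨x, y, hxy⟩ := exists_comm_ne_one_of_pow h hc
  obtain ⟨u, v, huv⟩ := exists_comm_ne_one_of_pow (h.centralizer hxy) (card_centralizer h hc hxy)
  exact exists_involution_pair h hxy huv

/-- Two such groups of order 8 are isomorphic if they agree on having non-commuting elements of square 1. -/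
theorem iso_of_card_eight {E₁ E₂ : Type*} [Group E₁] [Group E₂] [Finite E₁] [Finite E₂]
    (h₁ : CentralTwo E₁) (h₂ : CentralTwo E₂) (hc₁ : Nat.card E₁ = 2 ^ (2 * (0 + 1) + 1))
    (hc₂ : Nat.card E₂ = 2 ^ (2 * (0 + 1) + 1)) (hD : HasInvPair E₁ ↔ HasInvPair E₂) :
    Nonempty (E₁ ≃* E₂) := by
  by_cases hD₁ : HasInvPair E₁
  · obtain ⟨x₁, y₁, hxy₁, hx₁, hy₁⟩ := hD₁
    obtain ⟨x₂, y₂, hxy₂, hx₂, hy₂⟩ := hD.mp ⟨x₁, y₁, hxy₁, hx₁, hy₁⟩
    obtain ⟨ψ⟩ := iso_of_card_two (card_centralizer h₁ hc₁ hxy₁) (card_centralizer h₂ hc₂ hxy₂)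
    exact iso_of_pairs h₁ h₂ hxy₁ hxy₂ (by simp [hx₁, hx₂]) (by simp [hy₁, hy₂]) ψ
  · have hD₂ : ¬ HasInvPair E₂ := fun h => hD₁ (hD.mpr h)
    obtain ⟨x₁, y₁, hxy₁⟩ := exists_comm_ne_one_of_pow h₁ hc₁
    obtain ⟨x₂, y₂, hxy₂⟩ := exists_comm_ne_one_of_pow h₂ hc₂
    obtain ⟨ψ⟩ := iso_of_card_two (card_centralizer h₁ hc₁ hxy₁) (card_centralizer h₂ hc₂ hxy₂)
    rcases dichotomy h₁ hxy₁ with h3 | ⟨hx₁, hy₁⟩
    · exact absurd h3 hD₁
    rcases dichotomy h₂ hxy₂ with h3 | ⟨hx₂, hy₂⟩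
    · exact absurd h3 hD₂
    exact iso_of_pairs h₁ h₂ hxy₁ hxy₂ (by simp [hx₁, hx₂]) (by simp [hy₁, hy₂]) ψ

/-- Among three groups of class at most two with centre of order two and the same order `2^(2n+1)`, two are
isomorphic. -/
theorem two_of_three (n : ℕ) : ∀ {E₁ E₂ E₃ : Type*} [Group E₁] [Group E₂] [Group E₃] [Finite E₁]
    [Finite E₂] [Finite E₃], CentralTwo E₁ → CentralTwo E₂ → CentralTwo E₃ →
    Nat.card E₁ = 2 ^ (2 * n + 1) → Nat.card E₂ = 2 ^ (2 * n + 1) → Nat.card E₃ = 2 ^ (2 * n + 1) →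
    Nonempty (E₁ ≃* E₂) ∨ Nonempty (E₂ ≃* E₃) ∨ Nonempty (E₁ ≃* E₃) := by
  induction n with
  | zero =>
    intro E₁ E₂ E₃ _ _ _ _ _ _ _ _ _ hc₁ hc₂ _
    exact Or.inl (iso_of_card_two hc₁ hc₂)
  | succ n ih =>
    intro E₁ E₂ E₃ _ _ _ _ _ _ h₁ h₂ h₃ hc₁ hc₂ hc₃
    cases n with
    | zero =>
      by_cases h12 : HasInvPair E₁ ↔ HasInvPair E₂
      · exact Or.inl (iso_of_card_eight h₁ h₂ hc₁ hc₂ h12)
      by_cases h23 : HasInvPair E₂ ↔ HasInvPair E₃
      · exact Or.inr (Or.inl (iso_of_card_eight h₂ h₃ hc₂ hc₃ h23))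
      have h13 : HasInvPair E₁ ↔ HasInvPair E₃ := by tauto
      exact Or.inr (Or.inr (iso_of_card_eight h₁ h₃ hc₁ hc₃ h13))
    | succ m =>
      obtain ⟨x₁, y₁, hxy₁, hx₁, hy₁⟩ := hasInvPair_of_card h₁ hc₁
      obtain ⟨x₂, y₂, hxy₂, hx₂, hy₂⟩ := hasInvPair_of_card h₂ hc₂
      obtain ⟨x₃, y₃, hxy₃, hx₃, hy₃⟩ := hasInvPair_of_card h₃ hc₃
      rcases ih (h₁.centralizer hxy₁) (h₂.centralizer hxy₂) (h₃.centralizer hxy₃)
        (card_centralizer h₁ hc₁ hxy₁) (card_centralizer h₂ hc₂ hxy₂)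
        (card_centralizer h₃ hc₃ hxy₃) with ⟨⟨ψ⟩⟩ | ⟨⟨ψ⟩⟩ | ⟨⟨ψ⟩⟩
      · exact Or.inl (iso_of_pairs h₁ h₂ hxy₁ hxy₂ (by simp [hx₁, hx₂]) (by simp [hy₁, hy₂]) ψ)
      · exact Or.inr (Or.inl
          (iso_of_pairs h₂ h₃ hxy₂ hxy₃ (by simp [hx₂, hx₃]) (by simp [hy₂, hy₃]) ψ))
      · exact Or.inr (Or.inr
          (iso_of_pairs h₁ h₃ hxy₁ hxy₃ (by simp [hx₁, hx₃]) (by simp [hy₁, hy₃]) ψ))

/-- An extraspecial 2-group has class at most two and centre of order two. -/
theorem centralTwo_of_isExtraspecial {E : Type*} [Group E] (h : Cfsg.IsExtraspecial 2 E) :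
    CentralTwo E :=
  ⟨comm_mem_center h, Cfsg.Agent.Transfer.Extraspecial.card_center h⟩

end Cfsg.Agent.Transfer.ExtraspecialTwo
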