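import Mathlib

/-!
# Elementary `p`-stability

Let `E` be a ring in which the prime `p ≠ 2` is zero, `ρ : G →* E`, and `a : G` with
`(ρ a - 1) ^ 2 = 0` ("`a` acts quadratically").  If `a` normalizes a `q`-subgroup `Q` on which `ρ` is
faithful, `q ≠ p`, and one of `q ≠ 2`, `p ≠ 3`, `Q` abelian holds, then `a` centralizes `Q`.

The proof uses no representation theory: with `n = ρ a - 1`, `m = ρ b - 1` for a conjugate `b`, the
element `n m + m n` commutes with `a` and `b` and is expressed in two ways through `p'`-elements.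
-/

set_option autoImplicit false

namespace Cfsg.Agent.Transfer.QuadStable

section ring

variable {E : Type*} [Ring E]

theorem pow_of_sq {u : E} (h2 : (u - 1) ^ 2 = 0) (m : ℕ) : u ^ m = 1 + m * (u - 1) := by
  induction m with
  | zero => simp
  | succ m ih =>
    have h3 : (u - 1) * u = u - 1 := by
      have h4 : (u - 1) * u = (u - 1) ^ 2 + (u - 1) := by noncomm_ring
      rw [h4, h2, zero_add]
    rw [pow_succ, ih, add_mul, one_mul, mul_assoc, h3]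
    push_cast
    noncomm_ring

theorem cancel {p k : ℕ} (hE : (p : E) = 0) (hk : k.Coprime p) {e : E} (h : (k : E) * e = 0) :
    e = 0 := by
  obtain ⟨u, v, huv⟩ := (Nat.isCoprime_iff_coprime (m := k) (n := p)).2 hk
  have h1 : (u : E) * k + v * p = 1 := by exact_mod_cast congrArg (Int.cast : ℤ → E) huv
  rw [hE, mul_zero, add_zero] at h1
  calc e = ((u : E) * k) * e := by rw [h1, one_mul]
    _ = u * (k * e) := by rw [mul_assoc]
    _ = 0 := by rw [h, mul_zero]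

theorem eq_one_of_sq {p : ℕ} (hE : (p : E) = 0) {u : E} {m : ℕ} (hm : m.Coprime p)
    (hu : u ^ m = 1) (h2 : (u - 1) ^ 2 = 0) : u = 1 := by
  have h := pow_of_sq h2 m
  rw [hu] at h
  have h3 : (m : E) * (u - 1) = 0 := (add_eq_left.1 h.symm)
  exact sub_eq_zero.1 (cancel hE hm h3)

theorem eq_zero_of_sq_of_pow {s : E} {N : ℕ} (hN : 2 ≤ N) (h2 : s ^ 2 = 0) (h : s ^ N = s) :
    s = 0 := by
  obtain ⟨k, rfl⟩ := Nat.exists_eq_add_of_le hN
  rw [← h, pow_add, h2, zero_mul]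

end ring

section group

variable {G : Type*} [Group G]

/-- The key identity: `a b^j = c (a^(j+1))^g` with `b = a^x` and `c` commuting with `a`, `x`, `g`. -/
theorem key_identity {E : Type*} [Ring E] (ρ : G →* E) (a : G) (ha : (ρ a - 1) ^ 2 = 0) (x c g : G)
    (j : ℕ) (hca : Commute c a) (hcg : Commute c g)
    (h : a * (x * a * x⁻¹) ^ j = c * (g * a ^ (j + 1) * g⁻¹)) :
    2 + (j : E) * (2 - ρ (a⁻¹ * (x * a * x⁻¹)) - ρ (a⁻¹ * (x * a * x⁻¹))⁻¹) - ρ c - ρ c⁻¹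
      = (ρ c - ρ c⁻¹) * (((j + 1 : ℕ) : E) * (ρ g * (ρ a - 1) * ρ g⁻¹)) ∧
    ((ρ c - ρ c⁻¹) * (((j + 1 : ℕ) : E) * (ρ g * (ρ a - 1) * ρ g⁻¹))) ^ 2 = 0 := by
  have hnn : (ρ a - 1) * (ρ a - 1) = 0 := by rw [← sq, ha]
  have hainv : ρ a⁻¹ = 1 - (ρ a - 1) := by
    have h1 : ρ a⁻¹ * ρ a = 1 := by rw [← map_mul, inv_mul_cancel, map_one]
    have h2 : ρ a * (1 - (ρ a - 1)) = 1 := by
      have : ρ a * (1 - (ρ a - 1)) = 1 - (ρ a - 1) * (ρ a - 1) := by noncomm_ring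
      rw [this, hnn, sub_zero]
    calc ρ a⁻¹ = ρ a⁻¹ * (ρ a * (1 - (ρ a - 1))) := by rw [h2, mul_one]
      _ = (ρ a⁻¹ * ρ a) * (1 - (ρ a - 1)) := by rw [mul_assoc]
      _ = 1 - (ρ a - 1) := by rw [h1, one_mul]
  -- conjugates
  have hconj : ∀ y : G, ρ (y * a * y⁻¹) = 1 + ρ y * (ρ a - 1) * ρ y⁻¹ := by
    intro y
    have h1 : ρ y * ρ y⁻¹ = 1 := by rw [← map_mul, mul_inv_cancel, map_one]
    have h2 : ρ y * (ρ a - 1) * ρ y⁻¹ = ρ y * ρ a * ρ y⁻¹ - ρ y * ρ y⁻¹ := by noncomm_ring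
    rw [map_mul, map_mul, h2, h1]
    abel
  have hconjinv : ∀ y : G, ρ (y * a * y⁻¹)⁻¹ = 1 - ρ y * (ρ a - 1) * ρ y⁻¹ := by
    intro y
    have h1 : ρ y * ρ y⁻¹ = 1 := by rw [← map_mul, mul_inv_cancel, map_one]
    have h2 : (y * a * y⁻¹)⁻¹ = y * a⁻¹ * y⁻¹ := by group
    rw [h2, map_mul, map_mul, hainv]
    have h3 : ρ y * (1 - (ρ a - 1)) * ρ y⁻¹ = ρ y * ρ y⁻¹ - ρ y * (ρ a - 1) * ρ y⁻¹ := by
      noncomm_ring
    rw [h3, h1]
  have hsq : ∀ y : G, (ρ y * (ρ a - 1) * ρ y⁻¹) * (ρ y * (ρ a - 1) * ρ y⁻¹) = 0 := by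
    intro y
    have h1 : ρ y⁻¹ * ρ y = 1 := by rw [← map_mul, inv_mul_cancel, map_one]
    calc (ρ y * (ρ a - 1) * ρ y⁻¹) * (ρ y * (ρ a - 1) * ρ y⁻¹)
        = ρ y * (ρ a - 1) * (ρ y⁻¹ * ρ y) * (ρ a - 1) * ρ y⁻¹ := by noncomm_ring
      _ = ρ y * ((ρ a - 1) * (ρ a - 1)) * ρ y⁻¹ := by rw [h1]; noncomm_ring
      _ = 0 := by rw [hnn]; simp
  have hpow : ∀ (y : G) (k : ℕ), ρ ((y * a * y⁻¹) ^ k) = 1 + k * (ρ y * (ρ a - 1) * ρ y⁻¹) := by
    intro y k
    have h1 : (ρ (y * a * y⁻¹) - 1) ^ 2 = 0 := by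
      rw [hconj, add_sub_cancel_left, sq, hsq]
    rw [map_pow, pow_of_sq h1, hconj, add_sub_cancel_left]
  have hpowinv : ∀ (y : G) (k : ℕ),
      ρ ((y * a * y⁻¹) ^ k)⁻¹ = 1 - k * (ρ y * (ρ a - 1) * ρ y⁻¹) := by
    intro y k
    have h1 : (ρ (y * a * y⁻¹)⁻¹ - 1) ^ 2 = 0 := by
      rw [hconjinv, sub_sub_cancel_left, neg_sq, sq, hsq]
    rw [← inv_pow, map_pow, pow_of_sq h1, hconjinv, sub_sub_cancel_left, mul_neg]
    abel
  set n := ρ a - 1 with hn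
  set m := ρ x * n * ρ x⁻¹ with hm
  set s := ρ g * n * ρ g⁻¹ with hs
  have hρa : ρ a = 1 + n := by rw [hn]; abel
  -- y
  have hy : ρ (a⁻¹ * (x * a * x⁻¹)) + ρ (a⁻¹ * (x * a * x⁻¹))⁻¹ = 2 - (n * m + m * n) := by
    have e1 : ρ (a⁻¹ * (x * a * x⁻¹)) = (1 - n) * (1 + m) := by rw [map_mul, hainv, hconj]
    have e2 : ρ (a⁻¹ * (x * a * x⁻¹))⁻¹ = (1 - m) * (1 + n) := by
      rw [mul_inv_rev, inv_inv, map_mul, hconjinv, hρa]
    rw [e1, e2, ← one_add_one_eq_two]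
    generalize m = m'
    generalize n = n'
    noncomm_ring
  have hl : ρ (a * (x * a * x⁻¹) ^ j) + ρ (a * (x * a * x⁻¹) ^ j)⁻¹
      = 2 + j * (n * m + m * n) := by
    have e1 : ρ (a * (x * a * x⁻¹) ^ j) = (1 + n) * (1 + (j : E) * m) := by
      rw [map_mul, hρa, hpow]
    have e2 : ρ (a * (x * a * x⁻¹) ^ j)⁻¹ = (1 - (j : E) * m) * (1 - n) := by
      rw [mul_inv_rev, map_mul, hpowinv, hainv]
    have hj : n * ((j : E) * m) = (j : E) * (n * m) := by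
      generalize m = m'
      rw [← mul_assoc, ← mul_assoc, (Nat.cast_commute j n).eq]
    have h1 : (1 + n) * (1 + (j : E) * m) + (1 - (j : E) * m) * (1 - n)
      = 2 + n * ((j : E) * m) + (j : E) * (m * n) := by
      generalize m = m'
      generalize n = n'
      rw [← one_add_one_eq_two]
      noncomm_ring
    rw [e1, e2, h1, hj, mul_add, add_assoc]
  have hga : g * a ^ (j + 1) * g⁻¹ = (g * a * g⁻¹) ^ (j + 1) := by rw [conj_pow]
  set t := (((j + 1 : ℕ) : E) * s) with ht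
  have hcs : Commute (ρ c) s := by
    rw [hs]
    refine Commute.mul_right (Commute.mul_right ?_ ?_) ?_
    · exact (hcg.map ρ)
    · rw [hn]
      exact (hca.map ρ).sub_right (Commute.one_right _)
    · exact (hcg.inv_right.map ρ)
  have hcs' : Commute (ρ c⁻¹) s := by
    rw [hs]
    refine Commute.mul_right (Commute.mul_right ?_ ?_) ?_
    · exact (hcg.inv_left.map ρ)
    · rw [hn]
      exact (hca.inv_left.map ρ).sub_right (Commute.one_right _)
    · exact (hcg.inv_inv.map ρ)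
  have hct : Commute (ρ c) t := Commute.mul_right (Nat.commute_cast _ _) hcs
  have hct' : Commute (ρ c⁻¹) t := Commute.mul_right (Nat.commute_cast _ _) hcs'
  have hr : ρ (c * (g * a ^ (j + 1) * g⁻¹)) + ρ (c * (g * a ^ (j + 1) * g⁻¹))⁻¹
      = ρ c + ρ c⁻¹ + (ρ c - ρ c⁻¹) * t := by
    have e1 : ρ (c * (g * a * g⁻¹) ^ (j + 1)) = ρ c * (1 + t) := by
      rw [map_mul, hpow]
    have e2 : ρ (c * (g * a * g⁻¹) ^ (j + 1))⁻¹ = (1 - t) * ρ c⁻¹ := by
      rw [mul_inv_rev, map_mul, hpowinv]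
    have h1 : (1 - t) * ρ c⁻¹ = ρ c⁻¹ * (1 - t) :=
      ((Commute.one_right _).sub_right hct').eq.symm
    rw [hga, e1, e2, h1]
    generalize t = t'
    noncomm_ring
  refine ⟨?_, ?_⟩
  · have h1 : ρ c + ρ c⁻¹ + (ρ c - ρ c⁻¹) * t = 2 + j * (n * m + m * n) := by
      rw [← hr, ← h, hl]
    have h2 : 2 - ρ (a⁻¹ * (x * a * x⁻¹)) - ρ (a⁻¹ * (x * a * x⁻¹))⁻¹ = n * m + m * n := by
      rw [sub_sub, hy]; abel
    rw [h2, ← h1]
    abel
  · have h1 : Commute (ρ c - ρ c⁻¹) t := hct.sub_left hct'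
    have h2 : t ^ 2 = 0 := by
      rw [ht, (Nat.cast_commute (j + 1) s).mul_pow, sq s, hs, hsq, mul_zero]
    rw [h1.mul_pow, h2, mul_zero]

theorem pow_conj_mem {a : G} {Q : Subgroup G} (haQ : ∀ x ∈ Q, a * x * a⁻¹ ∈ Q) (i : ℕ) :
    ∀ x ∈ Q, a ^ i * x * (a ^ i)⁻¹ ∈ Q := by
  induction i with
  | zero => intro x hx; simpa using hx
  | succ i ih =>
    intro x hx
    have h1 := haQ _ (ih x hx)
    have h2 : a ^ (i + 1) * x * (a ^ (i + 1))⁻¹ = a * (a ^ i * x * (a ^ i)⁻¹) * a⁻¹ := by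
      rw [pow_succ']; group
    rwa [h2]

theorem pow_conj_eq {a u x : G} (h : a * x * a⁻¹ = u * x) (hau : Commute a u) (i : ℕ) :
    a ^ i * x * (a ^ i)⁻¹ = u ^ i * x := by
  induction i with
  | zero => simp
  | succ i ih =>
    have h2 : a ^ (i + 1) * x * (a ^ (i + 1))⁻¹ = a * (a ^ i * x * (a ^ i)⁻¹) * a⁻¹ := by
      rw [pow_succ']; group
    have h3 : a * (u ^ i * x) * a⁻¹ = (a * u ^ i) * a⁻¹ * (a * x * a⁻¹) := by group
    rw [h2, ih, h3, (hau.pow_right i).eq, h, pow_succ]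
    group

theorem eq_one_of_conj_eq [Finite G] {p : ℕ} {a u x : G} {Q : Subgroup G}
    (hcop : (Nat.card Q).Coprime p) (hu : u ∈ Q) (h : a * x * a⁻¹ = u * x) (hau : Commute a u)
    (hpx : Commute (a ^ p) x) : u = 1 := by
  have h1 := pow_conj_eq h hau p
  rw [hpx.eq, mul_inv_cancel_right] at h1
  have h2 : u ^ p = 1 := (mul_eq_right.1 h1.symm)
  have h3 : orderOf u ∣ p := orderOf_dvd_of_pow_eq_one h2
  have h4 : orderOf u ∣ Nat.card Q := by
    have := orderOf_dvd_natCard (⟨u, hu⟩ : Q)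
    rwa [Subgroup.orderOf_mk] at this
  have h5 : orderOf u ∣ 1 := by
    rw [← Nat.Coprime.gcd_eq_one hcop]
    exact Nat.dvd_gcd h4 h3
  exact orderOf_eq_one_iff.1 (Nat.dvd_one.1 h5)

theorem commute_of_pow_pow {a x : G} {i p : ℕ} (hi : i.Coprime p) (h1 : Commute (a ^ i) x)
    (h2 : Commute (a ^ p) x) : Commute a x := by
  obtain ⟨u, v, huv⟩ := (Nat.isCoprime_iff_coprime (m := i) (n := p)).2 hi
  have h3 : a = (a ^ i) ^ u * (a ^ p) ^ v := by
    rw [← zpow_natCast, ← zpow_natCast, ← zpow_mul, ← zpow_mul, ← zpow_add]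
    have : (i : ℤ) * u + p * v = 1 := by rw [← huv]; ring
    rw [this, zpow_one]
  rw [h3]
  exact (h1.zpow_left u).mul_left (h2.zpow_left v)

/-- Every element of the coset `Q a^i` is of the form `c (a^i)^g`, with `c ∈ C_Q(a)`. -/
theorem exists_coset_rep [Finite G] {p : ℕ} (a : G) (Q : Subgroup G)
    (haQ : ∀ x ∈ Q, a * x * a⁻¹ ∈ Q) (hcop : (Nat.card Q).Coprime p)
    (hap : ∀ x ∈ Q, Commute (a ^ p) x) (hC : ∀ c ∈ Q, Commute a c → ∀ x ∈ Q, Commute c x)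
    (i : ℕ) (hi : i.Coprime p) (y : G) (hy : y ∈ Q) :
    ∃ c ∈ Q, Commute a c ∧ ∃ g ∈ Q, y * a ^ i = c * (g * a ^ i * g⁻¹) := by
  classical
  let C : Subgroup Q := (Subgroup.centralizer {a}).subgroupOf Q
  have hmemC : ∀ c : Q, c ∈ C ↔ Commute a (c : G) := by
    intro c
    rw [Subgroup.mem_subgroupOf, Subgroup.mem_centralizer_singleton_iff]
    exact ⟨fun h => h.symm, fun h => h.symm⟩
  have hf : ∀ g : Q, (g : G) * (a ^ i * (g : G)⁻¹ * (a ^ i)⁻¹) ∈ Q := fun g =>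
    Q.mul_mem g.2 (pow_conj_mem haQ i _ (Q.inv_mem g.2))
  let f : Q → Q := fun g => ⟨(g : G) * (a ^ i * (g : G)⁻¹ * (a ^ i)⁻¹), hf g⟩
  let F : (Q ⧸ C) → (Q ⧸ C) := fun t => QuotientGroup.mk (f t.out)
  have hinj : Function.Injective F := by
    intro t s hts
    have h1 : (f t.out)⁻¹ * f s.out ∈ C := QuotientGroup.eq.1 hts
    obtain ⟨c, hc⟩ : ∃ c : Q, c = (f t.out)⁻¹ * f s.out := ⟨_, rfl⟩
    rw [← hc] at h1
    have hca := (hmemC c).1 h1
    have hcx := hC c c.2 hca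
    have h2 : f s.out = f t.out * c := by rw [hc]; group
    set g : Q := t.out with hg
    set k : Q := s.out with hk
    have h3 : (k : G) * (a ^ i * (k : G)⁻¹ * (a ^ i)⁻¹)
        = (g : G) * (a ^ i * (g : G)⁻¹ * (a ^ i)⁻¹) * c := congrArg Subtype.val h2
    have hcg : Commute (c : G) (a ^ i * (g : G) * (a ^ i)⁻¹) :=
      hcx _ (pow_conj_mem haQ i _ g.2)
    have h4 : a ^ i * ((k : G)⁻¹ * g) * (a ^ i)⁻¹ = c * ((k : G)⁻¹ * g) := by
      have h5 : a ^ i * (k : G)⁻¹ * (a ^ i)⁻¹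
          = (k : G)⁻¹ * ((g : G) * (a ^ i * (g : G)⁻¹ * (a ^ i)⁻¹) * c) := by
        rw [← h3]; group
      have h6 : Commute (c : G) ((k : G)⁻¹ * g) := hcx _ (Q.mul_mem (Q.inv_mem k.2) g.2)
      calc a ^ i * ((k : G)⁻¹ * g) * (a ^ i)⁻¹
          = (a ^ i * (k : G)⁻¹ * (a ^ i)⁻¹) * (a ^ i * g * (a ^ i)⁻¹) := by group
        _ = (k : G)⁻¹ * ((g : G) * (a ^ i * (g : G)⁻¹ * (a ^ i)⁻¹) *
              (c * (a ^ i * g * (a ^ i)⁻¹))) := by rw [h5]; group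
        _ = (k : G)⁻¹ * g * c := by rw [hcg.eq]; group
        _ = c * ((k : G)⁻¹ * g) := h6.eq.symm
    have hxQ : (k : G)⁻¹ * g ∈ Q := Q.mul_mem (Q.inv_mem k.2) g.2
    have hc1 : (c : G) = 1 := by
      refine eq_one_of_conj_eq (a := a ^ i) hcop c.2 h4 (hca.pow_left i) ?_
      rw [← pow_mul, mul_comm, pow_mul]
      exact (hap _ hxQ).pow_left i
    rw [hc1, one_mul] at h4
    have h7 : Commute (a ^ i) ((k : G)⁻¹ * g) := mul_inv_eq_iff_eq_mul.1 h4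
    have h8 : Commute a ((k : G)⁻¹ * g) := commute_of_pow_pow hi h7 (hap _ hxQ)
    have h9 : (QuotientGroup.mk k : Q ⧸ C) = QuotientGroup.mk g :=
      QuotientGroup.eq.2 ((hmemC _).2 h8)
    rw [hg, hk, QuotientGroup.out_eq', QuotientGroup.out_eq'] at h9
    exact h9.symm
  have hsurj : Function.Surjective F := Finite.injective_iff_surjective.1 hinj
  obtain ⟨t, ht⟩ := hsurj (QuotientGroup.mk (⟨y, hy⟩ : Q))
  have h1 : (f t.out)⁻¹ * (⟨y, hy⟩ : Q) ∈ C := QuotientGroup.eq.1 ht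
  obtain ⟨c, hc⟩ : ∃ c : Q, c = (f t.out)⁻¹ * (⟨y, hy⟩ : Q) := ⟨_, rfl⟩
  rw [← hc] at h1
  have hca := (hmemC c).1 h1
  have hcx := hC c c.2 hca
  refine ⟨c, c.2, hca, t.out, (t.out).2, ?_⟩
  have h2 : (⟨y, hy⟩ : Q) = f t.out * c := by rw [hc]; group
  have h3 : y = (t.out : G) * (a ^ i * (t.out : G)⁻¹ * (a ^ i)⁻¹) * c := congrArg Subtype.val h2
  have h4 : Commute (c : G) ((t.out : G) * (a ^ i * (t.out : G)⁻¹ * (a ^ i)⁻¹)) :=
    hcx _ (hf t.out)
  rw [h3, ← h4.eq]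
  group

/-- A power `p^k` that acts as the identity exponent on a finite `p'`-group. -/
theorem exists_pow_eq_self [Finite G] {p : ℕ} [Fact p.Prime] (Q : Subgroup G)
    (hcop : (Nat.card Q).Coprime p) :
    ∃ k : ℕ, 2 ≤ p ^ k ∧ ∀ u ∈ Q, u ^ (p ^ k) = u := by
  refine ⟨Nat.totient (Nat.card Q), ?_, ?_⟩
  · have h1 : Nat.totient (Nat.card Q) ≠ 0 := (Nat.totient_pos.2 Nat.card_pos).ne'
    calc 2 ≤ p := (Fact.out : p.Prime).two_le
      _ = p ^ 1 := (pow_one p).symm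
      _ ≤ p ^ Nat.totient (Nat.card Q) :=
        Nat.pow_le_pow_right (Fact.out : p.Prime).pos (Nat.one_le_iff_ne_zero.2 h1)
  · intro u hu
    have h1 : p ^ Nat.totient (Nat.card Q) ≡ 1 [MOD Nat.card Q] :=
      Nat.ModEq.pow_totient hcop.symm
    have h2 : orderOf u ∣ Nat.card Q := by
      have := orderOf_dvd_natCard (⟨u, hu⟩ : Q)
      rwa [Subgroup.orderOf_mk] at this
    have h3 : u ^ (p ^ Nat.totient (Nat.card Q)) = u ^ 1 :=
      pow_eq_pow_iff_modEq.2 (h1.of_dvd h2)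
    rw [h3, pow_one]

theorem natCast_pow_char_pow {E : Type*} [Ring E] {p : ℕ} [Fact p.Prime] [CharP E p] (k j : ℕ) :
    (j : E) ^ (p ^ k) = j := by
  induction j with
  | zero => simp [(Fact.out : p.Prime).ne_zero]
  | succ j ih =>
    rw [Nat.cast_succ, add_pow_char_pow_of_commute (p := p) (n := k) (Commute.one_right _), ih,
      one_pow]

/-- A combination of commuting `p'`-elements that squares to zero is zero. -/
theorem combination_eq_zero [Finite G] {E : Type*} [Ring E] {p : ℕ} [Fact p.Prime]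
    (hE : (p : E) = 0) (ρ : G →* E) (Q : Subgroup G) (hcop : (Nat.card Q).Coprime p) (y c : G)
    (hy : y ∈ Q) (hc : c ∈ Q) (hyc : Commute y c) (j : ℕ)
    (h : (2 + (j : E) * (2 - ρ y - ρ y⁻¹) - ρ c - ρ c⁻¹) ^ 2 = 0) :
    2 + (j : E) * (2 - ρ y - ρ y⁻¹) - ρ c - ρ c⁻¹ = 0 := by
  rcases subsingleton_or_nontrivial E with hs | hn
  · exact Subsingleton.elim _ _
  have : CharP E p := (CharP.charP_iff_prime_eq_zero Fact.out).2 hE
  obtain ⟨k, hk2, hk⟩ := exists_pow_eq_self Q hcop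
  refine eq_zero_of_sq_of_pow hk2 h ?_
  have e1 : ρ y ^ (p ^ k) = ρ y := by rw [← map_pow, hk y hy]
  have e2 : ρ y⁻¹ ^ (p ^ k) = ρ y⁻¹ := by rw [← map_pow, hk _ (Q.inv_mem hy)]
  have e3 : ρ c ^ (p ^ k) = ρ c := by rw [← map_pow, hk c hc]
  have e4 : ρ c⁻¹ ^ (p ^ k) = ρ c⁻¹ := by rw [← map_pow, hk _ (Q.inv_mem hc)]
  have e5 : (2 : E) ^ (p ^ k) = 2 := by exact_mod_cast natCast_pow_char_pow (E := E) (p := p) k 2
  have c1 : Commute (ρ y) (ρ y⁻¹) := (Commute.inv_right (Commute.refl y)).map ρ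
  have c2 : Commute (ρ y) (ρ c) := hyc.map ρ
  have c3 : Commute (ρ y) (ρ c⁻¹) := hyc.inv_right.map ρ
  have c4 : Commute (ρ y⁻¹) (ρ c) := hyc.inv_left.map ρ
  have c5 : Commute (ρ y⁻¹) (ρ c⁻¹) := hyc.inv_inv.map ρ
  have c6 : Commute (ρ c) (ρ c⁻¹) := (Commute.inv_right (Commute.refl c)).map ρ
  have two : ∀ e : E, Commute (2 : E) e := fun e => by exact_mod_cast Nat.cast_commute 2 e
  have hj : ∀ e : E, Commute (j : E) e := fun e => Nat.cast_commute j e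
  have d1 : Commute (2 - ρ y) (ρ y⁻¹) := (two _).sub_left c1
  have d2 : Commute (2 + (j : E) * (2 - ρ y - ρ y⁻¹)) (ρ c) :=
    (two _).add_left ((hj _).mul_left (((two _).sub_left c2).sub_left c4))
  have d3 : Commute (2 + (j : E) * (2 - ρ y - ρ y⁻¹) - ρ c) (ρ c⁻¹) :=
    ((two _).add_left ((hj _).mul_left (((two _).sub_left c3).sub_left c5))).sub_left c6
  rw [sub_pow_char_pow_of_commute (p := p) (n := k) d3,
    sub_pow_char_pow_of_commute (p := p) (n := k) d2,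
    add_pow_char_pow_of_commute (p := p) (n := k) (two _), (hj _).mul_pow,
    sub_pow_char_pow_of_commute (p := p) (n := k) d1,
    sub_pow_char_pow_of_commute (p := p) (n := k) (two _),
    e1, e2, e3, e4, e5, natCast_pow_char_pow]

section minimal

variable [Finite G] {p : ℕ} [Fact p.Prime] {E : Type*} [Ring E] (hE : (p : E) = 0) (ρ : G →* E)
  (a : G) (ha : (ρ a - 1) ^ 2 = 0) (Q : Subgroup G) (hcop : (Nat.card Q).Coprime p)
  (hinj : ∀ x ∈ Q, ρ x = 1 → x = 1) (haQ : ∀ x ∈ Q, a * x * a⁻¹ ∈ Q)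

include hE ha hinj haQ

omit [Finite G] [Fact p.Prime] in
/-- `a^p` centralizes `Q`. -/
theorem commute_pow : ∀ x ∈ Q, Commute (a ^ p) x := by
  intro x hx
  have h1 : ρ (a ^ p) = 1 := by rw [map_pow, pow_of_sq ha, hE, zero_mul, add_zero]
  have h2 : a ^ p * x * (a ^ p)⁻¹ * x⁻¹ ∈ Q :=
    Q.mul_mem (pow_conj_mem haQ p x hx) (Q.inv_mem hx)
  have h4 : ρ (a ^ p)⁻¹ = 1 := by
    have : ρ (a ^ p)⁻¹ * ρ (a ^ p) = 1 := by rw [← map_mul, inv_mul_cancel, map_one]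
    rwa [h1, mul_one] at this
  have h3 : ρ (a ^ p * x * (a ^ p)⁻¹ * x⁻¹) = 1 := by
    rw [map_mul, map_mul, map_mul, h1, h4, one_mul, mul_one, ← map_mul, mul_inv_cancel, map_one]
  have h5 := hinj _ h2 h3
  rw [mul_inv_eq_one, mul_inv_eq_iff_eq_mul] at h5
  exact h5

include hcop

/-- The last step of the argument. -/
theorem commute_of_central (hp : p ≠ 2)
    (hM2 : ∀ R : Subgroup G, R ≤ Q → (∀ x ∈ R, a * x * a⁻¹ ∈ R) →
      (∀ x ∈ Q, a * x * a⁻¹ * x⁻¹ ∈ R) → R = Q)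
    (hC : ∀ c ∈ Q, Commute a c → ∀ x ∈ Q, Commute c x)
    (h1 : (∀ c ∈ Q, Commute a c → c ^ 2 = 1 → c = 1) ∨ p ≠ 3) :
    ∀ x ∈ Q, Commute a x := by
  intro x hx
  have hap := commute_pow hE ρ a ha Q hinj haQ
  -- the commutator y
  set y := a⁻¹ * (x * a * x⁻¹) with hy
  have hainv : ∀ x ∈ Q, a⁻¹ * x * a ∈ Q := by
    intro u hu
    have h2 := pow_conj_mem haQ (p - 1) u hu
    have h3 : a ^ p = a ^ (p - 1) * a := by
      rw [← pow_succ, Nat.sub_add_cancel (Fact.out : p.Prime).one_le]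
    have h4 : a ^ (p - 1) = a ^ p * a⁻¹ := by rw [h3]; group
    have h5 : a ^ (p - 1) * u * (a ^ (p - 1))⁻¹ = a ^ p * (a⁻¹ * u * a) * (a ^ p)⁻¹ := by
      rw [h4]; group
    have h6 : a ^ p * (a⁻¹ * u * a) * (a ^ p)⁻¹ = a⁻¹ * (a ^ p * u * (a ^ p)⁻¹) * a := by
      have h7 : a ^ p * a⁻¹ = a⁻¹ * a ^ p := ((Commute.refl a).pow_left p).inv_right.eq
      have h8 : a * (a ^ p)⁻¹ = (a ^ p)⁻¹ * a := ((Commute.refl a).pow_right p).inv_right.eq
      calc a ^ p * (a⁻¹ * u * a) * (a ^ p)⁻¹ = (a ^ p * a⁻¹) * u * (a * (a ^ p)⁻¹) := by group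
        _ = a⁻¹ * (a ^ p * u * (a ^ p)⁻¹) * a := by rw [h7, h8]; group
    rw [h5, h6, (hap u hu).eq, mul_inv_cancel_right] at h2
    exact h2
  have hyQ : y ∈ Q := by
    rw [hy]
    have : a⁻¹ * (x * a * x⁻¹) = (a⁻¹ * x * a) * x⁻¹ := by group
    rw [this]
    exact Q.mul_mem (hainv x hx) (Q.inv_mem hx)
  -- main construction for j
  have main : ∀ j : ℕ, (j + 1).Coprime p → ∃ c ∈ Q, Commute a c ∧ c ^ 2 = 1 ∧
      2 + (j : E) * (2 - ρ y - ρ y⁻¹) - ρ c - ρ c⁻¹ = 0 := by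
    intro j hj
    have hyQ' : (a * x * a⁻¹) * (a ^ (j + 1) * x⁻¹ * (a ^ (j + 1))⁻¹) ∈ Q :=
      Q.mul_mem (haQ x hx) (pow_conj_mem haQ _ _ (Q.inv_mem hx))
    obtain ⟨c, hcQ, hac, g, hgQ, hcg⟩ :=
      exists_coset_rep a Q haQ hcop hap hC (j + 1) hj _ hyQ'
    have hcomm : a * (x * a * x⁻¹) ^ j = c * (g * a ^ (j + 1) * g⁻¹) := by
      rw [← hcg, conj_pow, pow_succ']
      group
    have hcgc : Commute c g := hC c hcQ hac g hgQ
    obtain ⟨k1, k2⟩ := key_identity ρ a ha x c g j hac.symm hcgc hcomm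
    rw [← k1] at k2
    have k3 := combination_eq_zero hE ρ Q hcop y c hyQ hcQ (hC c hcQ hac y hyQ).symm j k2
    refine ⟨c, hcQ, hac, ?_, k3⟩
    -- c ^ 2 = 1
    rw [k3] at k1
    set n := ρ a - 1 with hn
    have k4 : (ρ c - ρ c⁻¹) * (ρ g * n * ρ g⁻¹) = 0 := by
      have : ((j + 1 : ℕ) : E) * ((ρ c - ρ c⁻¹) * (ρ g * n * ρ g⁻¹)) = 0 := by
        rw [k1, ← mul_assoc, ← mul_assoc, (Nat.cast_commute (j + 1) (ρ c - ρ c⁻¹)).eq]
        simp only [mul_assoc]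
      exact cancel hE hj this
    have k5 : (ρ (c ^ 2) - 1) * (ρ g * n * ρ g⁻¹) = 0 := by
      have e1 : ρ (c ^ 2) - 1 = ρ c * (ρ c - ρ c⁻¹) := by
        rw [mul_sub, ← map_mul, ← map_mul, mul_inv_cancel, map_one, sq]
      rw [e1, mul_assoc, k4, mul_zero]
    have hc2g : Commute (ρ (c ^ 2)) (ρ g) := (hcgc.pow_left 2).map ρ
    have k6 : (ρ (c ^ 2) - 1) * n = 0 := by
      have e2 : ρ g⁻¹ * ρ g = 1 := by rw [← map_mul, inv_mul_cancel, map_one]
      have e3 : (ρ (c ^ 2) - 1) * ρ g = ρ g * (ρ (c ^ 2) - 1) :=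
        (hc2g.sub_left (Commute.one_left _)).eq
      calc (ρ (c ^ 2) - 1) * n = (ρ g⁻¹ * ρ g) * ((ρ (c ^ 2) - 1) * n) * (ρ g⁻¹ * ρ g) := by
            rw [e2, one_mul, mul_one]
        _ = ρ g⁻¹ * ((ρ g * (ρ (c ^ 2) - 1)) * n * ρ g⁻¹) * ρ g := by simp only [mul_assoc]
        _ = ρ g⁻¹ * ((ρ (c ^ 2) - 1) * (ρ g * n * ρ g⁻¹)) * ρ g := by
            rw [← e3]; simp only [mul_assoc]
        _ = 0 := by rw [k5, mul_zero, zero_mul]
    -- the subgroup of elements u with (ρ (c^2) - 1) * ρ u = ρ (c^2) - 1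
    let U : Subgroup G :=
      { carrier := {u | (ρ (c ^ 2) - 1) * ρ u = ρ (c ^ 2) - 1}
        one_mem' := by simp
        mul_mem' := by
          intro u v hu hv
          change (ρ (c ^ 2) - 1) * ρ u = ρ (c ^ 2) - 1 at hu
          change (ρ (c ^ 2) - 1) * ρ v = ρ (c ^ 2) - 1 at hv
          change (ρ (c ^ 2) - 1) * ρ (u * v) = ρ (c ^ 2) - 1
          rw [map_mul, ← mul_assoc, hu, hv]
        inv_mem' := by
          intro u hu
          change (ρ (c ^ 2) - 1) * ρ u = ρ (c ^ 2) - 1 at hu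
          change (ρ (c ^ 2) - 1) * ρ u⁻¹ = ρ (c ^ 2) - 1
          calc (ρ (c ^ 2) - 1) * ρ u⁻¹ = (ρ (c ^ 2) - 1) * ρ u * ρ u⁻¹ := by rw [hu]
            _ = (ρ (c ^ 2) - 1) := by
              rw [mul_assoc, ← map_mul, mul_inv_cancel, map_one, mul_one] }
    have hUmem : ∀ u, u ∈ U ↔ (ρ (c ^ 2) - 1) * ρ u = ρ (c ^ 2) - 1 := fun u => Iff.rfl
    have haU : a ∈ U := by
      rw [hUmem]
      have : ρ a = 1 + n := by rw [hn]; abel
      rw [this, mul_add, mul_one, k6, add_zero]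
    have hUconj : ∀ v ∈ Q, ∀ u ∈ U, v * u * v⁻¹ ∈ U := by
      intro v hv u hu
      rw [hUmem] at hu ⊢
      have e1 : Commute (ρ (c ^ 2)) (ρ v) := ((hC c hcQ hac v hv).pow_left 2).map ρ
      have e3 : (ρ (c ^ 2) - 1) * ρ v = ρ v * (ρ (c ^ 2) - 1) :=
        (e1.sub_left (Commute.one_left _)).eq
      rw [map_mul, map_mul, ← mul_assoc, ← mul_assoc, e3, mul_assoc (ρ v), hu, ← e3, mul_assoc,
        ← map_mul, mul_inv_cancel, map_one, mul_one]
    have hQU : U ⊓ Q = Q := by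
      refine hM2 (U ⊓ Q) inf_le_right ?_ ?_
      · rintro u ⟨hu1, hu2⟩
        exact ⟨U.mul_mem (U.mul_mem haU hu1) (U.inv_mem haU), haQ u hu2⟩
      · intro v hv
        refine ⟨?_, Q.mul_mem (haQ v hv) (Q.inv_mem hv)⟩
        have : a * v * a⁻¹ * v⁻¹ = a * (v * a⁻¹ * v⁻¹) := by group
        rw [this]
        exact U.mul_mem haU (hUconj v hv _ (U.inv_mem haU))
    have hc2 : c ^ 2 ∈ U := by
      have : c ^ 2 ∈ U ⊓ Q := by rw [hQU]; exact Q.pow_mem hcQ 2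
      exact this.1
    rw [hUmem] at hc2
    have hsq : (ρ (c ^ 2) - 1) ^ 2 = 0 := by
      rw [sq, mul_sub, mul_one, hc2, sub_self]
    refine hinj _ (Q.pow_mem hcQ 2) ?_
    refine eq_one_of_sq (m := Nat.card Q) hE hcop ?_ hsq
    rw [← map_pow]
    have : (c ^ 2) ^ Nat.card Q = 1 := by
      have := pow_card_eq_one' (x := (⟨c ^ 2, Q.pow_mem hcQ 2⟩ : Q))
      exact congrArg Subtype.val this
    rw [this, map_one]
  -- finish: it is enough that 2 = ρ y + ρ y⁻¹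
  have two_ne : (2 : ℕ).Coprime p := by
    rw [Nat.coprime_primes Nat.prime_two Fact.out]
    exact hp.symm
  suffices hfin : 2 - ρ y - ρ y⁻¹ = 0 by
    have h3 : (ρ y - 1) ^ 2 = 0 := by
      have e1 : ρ y * ρ y⁻¹ = 1 := by rw [← map_mul, mul_inv_cancel, map_one]
      have e2 : (ρ y - 1) ^ 2 = - ρ y * (2 - ρ y - ρ y⁻¹) := by
        have e3 : - ρ y * (2 - ρ y - ρ y⁻¹) = ρ y * ρ y - (ρ y + ρ y) + ρ y * ρ y⁻¹ := by
          rw [← one_add_one_eq_two]; noncomm_ring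
        rw [e3, e1]
        noncomm_ring
      rw [e2, hfin, mul_zero]
    have h4 : ρ y = 1 := by
      refine eq_one_of_sq (m := Nat.card Q) hE hcop ?_ h3
      rw [← map_pow]
      have : y ^ Nat.card Q = 1 := by
        have := pow_card_eq_one' (x := (⟨y, hyQ⟩ : Q))
        exact congrArg Subtype.val this
      rw [this, map_one]
    have h5 := hinj y hyQ h4
    rw [hy, inv_mul_eq_one, eq_mul_inv_iff_mul_eq] at h5
    exact h5
  obtain ⟨c, hcQ, hac, hc2, hceq⟩ := main 1 two_ne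
  have hcinv : c⁻¹ = c := by
    rw [inv_eq_iff_mul_eq_one, ← sq, hc2]
  rcases h1 with h1 | h1
  · have hc1 : c = 1 := h1 c hcQ hac hc2
    rw [hc1, inv_one, map_one, Nat.cast_one, one_mul] at hceq
    have : 2 + (2 - ρ y - ρ y⁻¹) - 1 - 1 = 2 - ρ y - ρ y⁻¹ := by
      rw [← one_add_one_eq_two]; abel
    rwa [this] at hceq
  · have h3p : (2 + 1 : ℕ).Coprime p := by
      show (3 : ℕ).Coprime p
      rw [Nat.coprime_primes Nat.prime_three Fact.out]
      exact h1.symm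
    obtain ⟨d, hdQ, had, hd2, hdeq⟩ := main 2 h3p
    have hdinv : d⁻¹ = d := by
      rw [inv_eq_iff_mul_eq_one, ← sq, hd2]
    rw [hcinv] at hceq
    rw [hdinv] at hdeq
    set z := 2 - ρ y - ρ y⁻¹ with hz
    -- z = 2 c - 2, 2 z = 2 d - 2
    have f1 : z = 2 * ρ c - 2 := by
      have : z - (2 * ρ c - 2) = 2 + ((1 : ℕ) : E) * z - ρ c - ρ c := by
        rw [Nat.cast_one, ← one_add_one_eq_two]; noncomm_ring
      rw [← sub_eq_zero, this, hceq]
    have f2 : z = ρ d - 1 := by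
      have h5 : ((2 : ℕ) : E) * (z - (ρ d - 1)) = 2 + ((2 : ℕ) : E) * z - ρ d - ρ d := by
        push_cast
        rw [← one_add_one_eq_two]; noncomm_ring
      rw [hdeq] at h5
      exact sub_eq_zero.1 (cancel hE two_ne h5)
    have f3 : ρ d = 2 * ρ c - 1 := by
      have : ρ d = z + 1 := by rw [f2]; abel
      rw [this, f1, ← one_add_one_eq_two]; abel
    have g1 : ρ c * ρ c = 1 := by rw [← map_mul, ← sq, hc2, map_one]
    have g2 : ρ d * ρ d = 1 := by rw [← map_mul, ← sq, hd2, map_one]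
    have f4 : ((2 : ℕ) : E) * (((2 : ℕ) : E) * (ρ c - 1)) = 0 := by
      have e1 : (2 * ρ c - 1) * (2 * ρ c - 1) = 4 * (ρ c * ρ c) - 4 * ρ c + 1 := by
        have : (4 : E) = (1 + 1) * (1 + 1) := by norm_num
        rw [this, ← one_add_one_eq_two]; noncomm_ring
      rw [f3, e1, g1] at g2
      have e2 : ((2 : ℕ) : E) * (((2 : ℕ) : E) * (ρ c - 1))
          = - (4 * 1 - 4 * ρ c + 1 - 1) := by
        push_cast
        have : (4 : E) = (1 + 1) * (1 + 1) := by norm_num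
        rw [this, ← one_add_one_eq_two]; noncomm_ring
      rw [e2, g2, sub_self, neg_zero]
    have f5 : ρ c - 1 = 0 := cancel hE two_ne (cancel hE two_ne f4)
    have f6 : ρ c = 1 := sub_eq_zero.1 f5
    rw [f1, f6, mul_one, sub_self]

end minimal

/-- The minimal situation. -/
theorem commute_of_minimal [Finite G] {p : ℕ} [Fact p.Prime] (hp : p ≠ 2) {E : Type*} [Ring E]
    (hE : (p : E) = 0) (ρ : G →* E) (a : G) (ha : (ρ a - 1) ^ 2 = 0)
    {q : ℕ} [Fact q.Prime] (hqp : q ≠ p) (Q : Subgroup G) (hQ : IsPGroup q Q)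
    (hinj : ∀ x ∈ Q, ρ x = 1 → x = 1) (haQ : ∀ x ∈ Q, a * x * a⁻¹ ∈ Q)
    (h : q ≠ 2 ∨ p ≠ 3 ∨ ∀ x ∈ Q, ∀ y ∈ Q, Commute x y)
    (hmin : ∀ R : Subgroup G, R ≤ Q → R ≠ Q → (∀ x ∈ R, a * x * a⁻¹ ∈ R) →
      ∀ x ∈ R, Commute a x) : ∀ x ∈ Q, Commute a x := by
  by_contra hne
  have hcop : (Nat.card Q).Coprime p := by
    obtain ⟨n, hn⟩ := IsPGroup.iff_card.1 hQ
    rw [hn]
    exact Nat.Coprime.pow_left n ((Nat.coprime_primes Fact.out Fact.out).2 hqp)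
  have hap : ∀ x ∈ Q, Commute (a ^ p) x := commute_pow hE ρ a ha Q hinj haQ
  have hM2 : ∀ R : Subgroup G, R ≤ Q → (∀ x ∈ R, a * x * a⁻¹ ∈ R) →
      (∀ x ∈ Q, a * x * a⁻¹ * x⁻¹ ∈ R) → R = Q := by
    intro R hRQ haR hR
    by_contra hRne
    have hRc := hmin R hRQ hRne haR
    apply hne
    intro x hx
    have h1 := hR x hx
    have h2 : a * x * a⁻¹ = (a * x * a⁻¹ * x⁻¹) * x := by group
    have h3 := eq_one_of_conj_eq hcop (hRQ h1) h2 (hRc _ h1) (hap x hx)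
    rw [mul_inv_eq_one, mul_inv_eq_iff_eq_mul] at h3
    exact h3
  have hC : ∀ c ∈ Q, Commute a c → ∀ x ∈ Q, Commute c x := by
    let C : Subgroup G := Subgroup.centralizer {a} ⊓ Q
    have hmemC : ∀ c, c ∈ C ↔ Commute a c ∧ c ∈ Q := by
      intro c
      rw [Subgroup.mem_inf, Subgroup.mem_centralizer_singleton_iff]
      exact ⟨fun h => ⟨h.1.symm, h.2⟩, fun h => ⟨h.1.symm, h.2⟩⟩
    have hCQ : C ≤ Q := inf_le_right
    have hCne : C ≠ Q := by
      intro h1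
      apply hne
      intro x hx
      rw [← h1] at hx
      exact ((hmemC x).1 hx).1
    let N : Subgroup G := Subgroup.normalizer (C : Set G) ⊓ Q
    have hNa : ∀ x ∈ N, a * x * a⁻¹ ∈ N := by
      rintro x ⟨hx1, hx2⟩
      refine ⟨?_, haQ x hx2⟩
      have key : ∀ u : G, u ∈ Subgroup.normalizer (C : Set G) →
          ∀ v ∈ C, (a * u * a⁻¹) * v * (a * u * a⁻¹)⁻¹ ∈ C := by
        intro u hu v hv
        have h1 : Commute a v := ((hmemC v).1 hv).1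
        have h2 : u * v * u⁻¹ ∈ C := (hu v).1 hv
        have h3 : Commute a (u * v * u⁻¹) := ((hmemC _).1 h2).1
        have h4 : (a * u * a⁻¹) * v * (a * u * a⁻¹)⁻¹ = u * v * u⁻¹ := by
          have h5 : a⁻¹ * v * a = v := by rw [h1.inv_left.eq]; group
          calc (a * u * a⁻¹) * v * (a * u * a⁻¹)⁻¹ = a * (u * (a⁻¹ * v * a) * u⁻¹) * a⁻¹ := by group
            _ = (a * (u * v * u⁻¹)) * a⁻¹ := by rw [h5]
            _ = u * v * u⁻¹ := by rw [h3.eq]; group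
        rw [h4]
        exact h2
      intro v
      refine ⟨fun hv => key x hx1 v hv, fun hv => ?_⟩
      have h1 := key x⁻¹ (Subgroup.inv_mem _ hx1) _ hv
      have h2 : a * x⁻¹ * a⁻¹ * (a * x * a⁻¹ * v * (a * x * a⁻¹)⁻¹) * (a * x⁻¹ * a⁻¹)⁻¹ = v := by
        group
      rwa [h2] at h1
    have hNQ : N = Q := by
      by_contra hNne
      have hNc := hmin N inf_le_right hNne hNa
      -- normalizer growth in the q-group Q
      have hnil : Group.IsNilpotent Q := hQ.isNilpotent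
      have hlt : C.subgroupOf Q < ⊤ := by
        rw [lt_top_iff_ne_top, Ne, Subgroup.subgroupOf_eq_top]
        exact fun h1 => hCne (le_antisymm hCQ h1)
      have hnc := Group.normalizerCondition_of_isNilpotent (G := Q) _ hlt
      obtain ⟨x, hx1, hx2⟩ := SetLike.exists_of_lt hnc
      apply hx2
      rw [Subgroup.mem_subgroupOf]
      refine (hmemC _).2 ⟨hNc _ ⟨?_, x.2⟩, x.2⟩
      intro v
      constructor
      · intro hv
        have h1 := (hx1 ⟨v, hCQ hv⟩).1 (show (⟨v, hCQ hv⟩ : Q) ∈ C.subgroupOf Q from hv)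
        exact h1
      · intro hv
        have h1 : v ∈ Q := by
          have h2 : v = (x : G)⁻¹ * ((x : G) * v * (x : G)⁻¹) * x := by group
          rw [h2]
          exact Q.mul_mem (Q.mul_mem (Q.inv_mem x.2) (hCQ hv)) x.2
        exact (hx1 ⟨v, h1⟩).2 hv
    have hnorm : ∀ x ∈ Q, ∀ c ∈ C, x * c * x⁻¹ ∈ C := by
      intro x hx c hc
      rw [← hNQ] at hx
      exact (hx.1 c).1 hc
    have hRQ : Subgroup.centralizer (C : Set G) ⊓ Q = Q := by
      refine hM2 _ inf_le_right ?_ ?_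
      · rintro x ⟨hx1, hx2⟩
        refine Subgroup.mem_inf.2 ⟨Subgroup.mem_centralizer_iff.2 ?_, haQ x hx2⟩
        intro c hc
        have h1 : Commute a c := ((hmemC c).1 hc).1
        have h2 : Commute c x := Subgroup.mem_centralizer_iff.1 hx1 c hc
        exact ((h1.symm.mul_right h2).mul_right h1.symm.inv_right).eq
      · intro x hx
        refine Subgroup.mem_inf.2 ⟨Subgroup.mem_centralizer_iff.2 ?_,
          Q.mul_mem (haQ x hx) (Q.inv_mem hx)⟩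
        intro c hc
        have h1 : Commute a c := ((hmemC c).1 hc).1
        have h2 : x⁻¹ * c * x ∈ C := by
          have := hnorm x⁻¹ (Q.inv_mem hx) c hc
          rwa [inv_inv] at this
        have h3 : Commute a (x⁻¹ * c * x) := ((hmemC _).1 h2).1
        -- a x a⁻¹ x⁻¹ c = a x a⁻¹ (x⁻¹ c x) x⁻¹ = a x (x⁻¹ c x) a⁻¹ x⁻¹ = a c x a⁻¹ x⁻¹
        have h4 : a * x * a⁻¹ * x⁻¹ * c = c * (a * x * a⁻¹ * x⁻¹) := by
          calc a * x * a⁻¹ * x⁻¹ * c = a * x * (a⁻¹ * (x⁻¹ * c * x)) * x⁻¹ := by group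
            _ = a * x * ((x⁻¹ * c * x) * a⁻¹) * x⁻¹ := by rw [h3.inv_left.eq]
            _ = (a * c) * x * a⁻¹ * x⁻¹ := by group
            _ = c * (a * x * a⁻¹ * x⁻¹) := by rw [h1.eq]; group
        exact h4.symm
    intro c hc hac x hx
    rw [← hRQ] at hx
    exact Subgroup.mem_centralizer_iff.1 hx.1 c ((hmemC c).2 ⟨hac, hc⟩)
  apply hne
  refine commute_of_central hE ρ a ha Q hcop hinj haQ hp hM2 hC ?_
  rcases h with h | h | h
  · left
    intro c hc _ hc2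
    obtain ⟨k, hk⟩ := IsPGroup.iff_orderOf.1 hQ ⟨c, hc⟩
    rw [Subgroup.orderOf_mk] at hk
    have h1 : orderOf c ∣ 2 := orderOf_dvd_of_pow_eq_one hc2
    have h2 : (orderOf c).Coprime 2 := by
      rw [hk]
      exact Nat.Coprime.pow_left k ((Nat.coprime_primes Fact.out Nat.prime_two).2 h)
    have h3 : orderOf c ∣ 1 := by
      rw [← Nat.Coprime.gcd_eq_one h2]
      exact Nat.dvd_gcd dvd_rfl h1
    exact orderOf_eq_one_iff.1 (Nat.dvd_one.1 h3)
  · right; exact h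
  · left
    intro c hc hac _
    -- in the abelian case every element of Q is a commutator a x a⁻¹ x⁻¹
    let R : Subgroup G :=
      { carrier := {u | ∃ x ∈ Q, u = a * x * a⁻¹ * x⁻¹}
        one_mem' := ⟨1, Q.one_mem, by group⟩
        mul_mem' := by
          rintro _ _ ⟨x, hx, rfl⟩ ⟨y, hy, rfl⟩
          refine ⟨x * y, Q.mul_mem hx hy, ?_⟩
          have h1 : Commute x⁻¹ (a * y * a⁻¹) := (h x hx _ (haQ y hy)).inv_left
          have h2 : Commute x⁻¹ y⁻¹ := (h x hx y hy).inv_inv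
          calc a * x * a⁻¹ * x⁻¹ * (a * y * a⁻¹ * y⁻¹)
              = a * x * a⁻¹ * (x⁻¹ * (a * y * a⁻¹)) * y⁻¹ := by group
            _ = a * x * a⁻¹ * (a * y * a⁻¹) * (x⁻¹ * y⁻¹) := by rw [h1.eq]; group
            _ = a * (x * y) * a⁻¹ * (x * y)⁻¹ := by rw [h2.eq]; group
        inv_mem' := by
          rintro _ ⟨x, hx, rfl⟩
          refine ⟨x⁻¹, Q.inv_mem hx, ?_⟩
          have h1 : Commute x (a * x⁻¹ * a⁻¹) := h x hx _ (haQ _ (Q.inv_mem hx))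
          calc (a * x * a⁻¹ * x⁻¹)⁻¹ = x * (a * x⁻¹ * a⁻¹) := by group
            _ = a * x⁻¹ * a⁻¹ * x⁻¹⁻¹ := by rw [h1.eq, inv_inv] }
    have hRQ : R ≤ Q := by
      rintro _ ⟨x, hx, rfl⟩
      exact Q.mul_mem (haQ x hx) (Q.inv_mem hx)
    have hRe : R = Q := by
      refine hM2 R hRQ ?_ ?_
      · rintro _ ⟨x, hx, rfl⟩
        exact ⟨a * x * a⁻¹, haQ x hx, by group⟩
      · intro x hx
        exact ⟨x, hx, rfl⟩
    obtain ⟨x, hx, hcx⟩ : c ∈ R := by rw [hRe]; exact hc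
    have h2 : a * x * a⁻¹ = c * x := by rw [hcx]; group
    exact eq_one_of_conj_eq hcop hc h2 hac (hap x hx)

/-- **Elementary `p`-stability.** Let `p` be an odd prime, `E` a ring in which `p = 0`,
`ρ : G →* E` and `a : G` with `(ρ a - 1)^2 = 0`.  If `a` normalizes a `q`-subgroup `Q`, `q ≠ p`, on
which `ρ` is faithful, and `q ≠ 2` or `p ≠ 3` or `Q` is abelian, then `a` centralizes `Q`. -/
theorem commute_of_quadratic [Finite G] {p : ℕ} [Fact p.Prime] (hp : p ≠ 2) {E : Type*} [Ring E]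
    (hE : (p : E) = 0) (ρ : G →* E) (a : G) (ha : (ρ a - 1) ^ 2 = 0)
    {q : ℕ} [Fact q.Prime] (hqp : q ≠ p) (Q : Subgroup G) (hQ : IsPGroup q Q)
    (hinj : ∀ x ∈ Q, ρ x = 1 → x = 1) (haQ : ∀ x ∈ Q, a * x * a⁻¹ ∈ Q)
    (h : q ≠ 2 ∨ p ≠ 3 ∨ ∀ x ∈ Q, ∀ y ∈ Q, Commute x y) : ∀ x ∈ Q, Commute a x := by
  induction hn : Nat.card Q using Nat.strong_induction_on generalizing Q with
  | _ n ih =>
    subst hn
    refine commute_of_minimal hp hE ρ a ha hqp Q hQ hinj haQ h ?_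
    intro R hRQ hRne haR
    refine ih (Nat.card R) ?_ R (hQ.to_le hRQ) (fun x hx => hinj x (hRQ hx)) haR ?_ rfl
    · refine lt_of_le_of_ne (Subgroup.card_le_of_le hRQ) ?_
      intro he
      exact hRne (Subgroup.eq_of_le_of_card_ge hRQ he.ge)
    · exact h.imp_right (fun h => h.imp_right
        (fun h x hx y hy => h x (hRQ hx) y (hRQ hy)))

end group

end Cfsg.Agent.Transfer.QuadStable
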