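import Mathlib
import Cfsg.Prelude.Def_Solvable
import Cfsg.Prelude.Def_Transfer
import Cfsg.Agent.Lib.Cores
import Cfsg.Agent.S0044
import Cfsg.Agent.Transfer.QuadStable

/-!
# `p`-stability for solvable groups

* `eq_one_of_quadratic`: a solvable group `H` with `O_p(H) = 1`, faithfully represented in a ring `E`
  with `p = 0` (`p` odd; `p ≠ 3` or abelian Sylow `2`-subgroups) has no nontrivial element `a`
  with `(ρ a - 1)^2 = 0`.
* `exists_rep`: the conjugation representation on a normal elementary abelian `p`-subgroup.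
* `mem_centralizer_of_quadratic`.
-/

set_option autoImplicit false

namespace Cfsg.Agent.Transfer.QuadSolvable

open Cfsg

universe u v

theorem eq_one_of_quadratic {H : Type*} [Group H] [Finite H] (hs : Group.IsSolvable H) {p : ℕ}
    [Fact p.Prime] (hp : p ≠ 2) (h3 : p = 3 → ∀ T : Sylow 2 H, IsMulCommutative T)
    (hcore : pCore p H = ⊥) {E : Type*} [Ring E] (hE : (p : E) = 0) (ρ : H →* E)
    (hρ : Function.Injective ρ) (a : H) (ha : (ρ a - 1) ^ 2 = 0) : a = 1 := by
  have hinj : ∀ x : H, ρ x = 1 → x = 1 := fun x hx => hρ (by rw [hx, map_one])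
  have hap : a ^ p = 1 := by
    apply hinj
    rw [map_pow, QuadStable.pow_of_sq ha, hE, zero_mul, add_zero]
  have hF : fittingSubgroup H ≤ Subgroup.centralizer {a} := by
    rw [Lib.Cores.fittingSubgroup_eq_iSup_pCore]
    refine iSup_le fun q => ?_
    have hq : Fact (q : ℕ).Prime := ⟨q.2⟩
    by_cases hqp : (q : ℕ) = p
    · rw [hqp, hcore]
      exact bot_le
    · have hn : (pCore q H).Normal := Lib.Cores.pCore_normal q
      intro x hx
      rw [Subgroup.mem_centralizer_singleton_iff]
      refine (QuadStable.commute_of_quadratic hp hE ρ a ha hqp (pCore q H)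
        (Lib.Cores.pCore_isPGroup q) (fun x _ => hinj x) (fun x hx => hn.conj_mem x hx a) ?_
        x hx).symm.eq
      by_cases hq2 : (q : ℕ) = 2
      · right
        by_cases hp3 : p = 3
        · right
          have hq2' : Fact (Nat.Prime 2) := ⟨Nat.prime_two⟩
          obtain ⟨T⟩ : Nonempty (Sylow 2 H) := inferInstance
          have hT := h3 hp3 T
          intro x hx y hy
          rw [hq2] at hx hy
          have hx' : x ∈ (T : Subgroup H) := Lib.Cores.pCore_le_sylow T hx
          have hy' : y ∈ (T : Subgroup H) := Lib.Cores.pCore_le_sylow T hy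
          have := hT.is_comm.comm (⟨x, hx'⟩ : T) ⟨y, hy'⟩
          exact congrArg Subtype.val this
        · left; exact hp3
      · left; exact hq2
  have haC : a ∈ Subgroup.centralizer (fittingSubgroup H : Set H) := by
    rw [Subgroup.mem_centralizer_iff]
    intro x hx
    exact Subgroup.mem_centralizer_singleton_iff.1 (hF hx)
  have haF : a ∈ fittingSubgroup H := by
    have := hs
    exact S0044.result haC
  have hFn : (fittingSubgroup H).Normal := Lib.Cores.fittingSubgroup_normal
  -- the subgroup of elements of `Z(F)` of order dividing `p`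
  let N : Subgroup H :=
    { carrier := {x | x ∈ fittingSubgroup H ∧ x ∈ Subgroup.centralizer (fittingSubgroup H : Set H) ∧
        x ^ p = 1}
      one_mem' := ⟨Subgroup.one_mem _, Subgroup.one_mem _, one_pow p⟩
      mul_mem' := by
        rintro x y ⟨hx1, hx2, hx3⟩ ⟨hy1, hy2, hy3⟩
        refine ⟨Subgroup.mul_mem _ hx1 hy1, Subgroup.mul_mem _ hx2 hy2, ?_⟩
        have : Commute x y := (Subgroup.mem_centralizer_iff.1 hy2 x hx1)
        rw [this.mul_pow, hx3, hy3, one_mul]
      inv_mem' := by
        rintro x ⟨hx1, hx2, hx3⟩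
        exact ⟨Subgroup.inv_mem _ hx1, Subgroup.inv_mem _ hx2, by rw [inv_pow, hx3, inv_one]⟩ }
  have hNn : N.Normal := by
    constructor
    rintro x ⟨hx1, hx2, hx3⟩ g
    refine ⟨hFn.conj_mem x hx1 g, ?_, by rw [conj_pow, hx3, mul_one, mul_inv_cancel]⟩
    rw [Subgroup.mem_centralizer_iff]
    intro y hy
    have h1 : g⁻¹ * y * g ∈ fittingSubgroup H := by
      have := hFn.conj_mem y hy g⁻¹
      rwa [inv_inv] at this
    have h2 := Subgroup.mem_centralizer_iff.1 hx2 _ h1
    calc y * (g * x * g⁻¹) = g * ((g⁻¹ * y * g) * x) * g⁻¹ := by group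
      _ = g * x * g⁻¹ * y := by rw [h2]; group
  have hNp : IsPGroup p N := by
    rintro ⟨x, hx1, hx2, hx3⟩
    refine ⟨1, ?_⟩
    rw [pow_one]
    exact Subtype.ext hx3
  have haN : a ∈ N := ⟨haF, haC, hap⟩
  have := Lib.Cores.le_pCore hNn hNp haN
  rwa [hcore, Subgroup.mem_bot] at this

/-- The conjugation representation on a normal elementary abelian `p`-subgroup, with values in a
ring in which `p = 0`. -/
theorem exists_rep {G : Type u} [Group G] {p : ℕ} (V : Subgroup G) [V.Normal]
    (hV : IsElementaryAbelian p V) :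
    ∃ (E : Type u) (_ : Ring E) (ρ : G →* E), (p : E) = 0 ∧
      (∀ g, ρ g = 1 ↔ g ∈ Subgroup.centralizer (V : Set G)) ∧
      ∀ a : G, (∀ v ∈ V, Commute a (a * v * a⁻¹ * v⁻¹)) → (ρ a - 1) ^ 2 = 0 := by
  have hcomm : ∀ x y : V, x * y = y * x := hV.1.is_comm.comm
  let _ : CommGroup V := { (inferInstance : Group V) with mul_comm := hcomm }
  let ρ : G →* AddMonoid.End (Additive V) :=
    { toFun := fun g => MonoidHom.toAdditive ((MulAut.conjNormal g : MulAut V).toMonoidHom)
      map_one' := by
        ext v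
        rw [map_one]
        rfl
      map_mul' := by
        intro g h
        ext v
        rw [map_mul]
        rfl }
  have hρ : ∀ (g : G) (v : V), ((Additive.toMul (ρ g (Additive.ofMul v)) : V) : G) = g * v * g⁻¹ :=
    fun g v => rfl
  refine ⟨AddMonoid.End (Additive V), inferInstance, ρ, ?_, ?_, ?_⟩
  · ext v
    have h1 : ((p : AddMonoid.End (Additive V)) v) = p • v := by
      simp
    rw [h1]
    have h2 : (Additive.toMul v) ^ p = 1 := Subtype.ext (hV.2 _ (Additive.toMul v).2)
    have h3 : p • v = 0 := h2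
    rw [h3]
    rfl
  · intro g
    rw [Subgroup.mem_centralizer_iff]
    constructor
    · intro hg v hv
      have h1 := hρ g ⟨v, hv⟩
      rw [hg] at h1
      have h2 : v = g * v * g⁻¹ := h1
      rw [eq_mul_inv_iff_mul_eq] at h2
      exact h2
    · intro hg
      ext v
      have h1 := hρ g (Additive.toMul v)
      have h2 : g * ((Additive.toMul v : V) : G) * g⁻¹ = (Additive.toMul v : V) := by
        rw [← hg _ (Additive.toMul v).2, mul_inv_cancel_right]
      rw [h2] at h1
      exact h1
  · intro a ha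
    ext v
    have h1 : (((ρ a - 1) ^ 2 : AddMonoid.End (Additive V)) v)
        = ρ a (ρ a v - v) - (ρ a v - v) := by
      rw [sq]
      rfl
    rw [h1]
    have h2 := ha _ (Additive.toMul v).2
    have h3 : ρ a (ρ a v - v) = ρ a v - v := by
      apply Additive.toMul.injective
      apply Subtype.ext
      change a * (a * ((Additive.toMul v : V) : G) * a⁻¹ / ((Additive.toMul v : V) : G)) * a⁻¹
        = a * ((Additive.toMul v : V) : G) * a⁻¹ / ((Additive.toMul v : V) : G)
      rw [div_eq_mul_inv, h2.eq, mul_inv_cancel_right]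
    rw [h3, sub_self]
    rfl

/-- The Sylow `2`-subgroups of a quotient are commutative if those of the group are. -/
theorem sylow_quotient_comm {G : Type*} [Group G] [Finite G] {q : ℕ} [Fact q.Prime]
    (h : ∀ T : Sylow q G, IsMulCommutative T) (N : Subgroup G) [N.Normal] :
    ∀ T : Sylow q (G ⧸ N), IsMulCommutative T := by
  intro T
  obtain ⟨S, rfl⟩ := Sylow.mapSurjective_surjective (QuotientGroup.mk'_surjective N) q T
  have hS := h S
  refine ⟨⟨?_⟩⟩
  rintro ⟨x, hx⟩ ⟨y, hy⟩
  have hx' : x ∈ (S : Subgroup G).map (QuotientGroup.mk' N) := hx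
  have hy' : y ∈ (S : Subgroup G).map (QuotientGroup.mk' N) := hy
  obtain ⟨s, hs, rfl⟩ := hx'
  obtain ⟨t, ht, rfl⟩ := hy'
  have h1 : s * t = t * s := congrArg Subtype.val (hS.is_comm.comm (⟨s, hs⟩ : S) ⟨t, ht⟩)
  apply Subtype.ext
  change QuotientGroup.mk' N s * QuotientGroup.mk' N t
    = QuotientGroup.mk' N t * QuotientGroup.mk' N s
  rw [← map_mul, ← map_mul, h1]

/-- **`p`-stability for solvable groups.** If `G` is solvable, `V` a normal elementary abelian
`p`-subgroup with `O_p(G / C_G(V)) = 1`, `p` odd, and for `p = 3` the Sylow `2`-subgroups of `G` are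
abelian, then no element of `G` outside `C_G(V)` acts quadratically on `V`. -/
theorem mem_centralizer_of_quadratic {G : Type*} [Group G] [Finite G] (hs : Group.IsSolvable G)
    {p : ℕ} [Fact p.Prime] (hp : p ≠ 2) (h3 : p = 3 → ∀ T : Sylow 2 G, IsMulCommutative T)
    (V : Subgroup G) [V.Normal] (hV : IsElementaryAbelian p V)
    (hcore : pCore p (G ⧸ Subgroup.centralizer (V : Set G)) = ⊥) (a : G)
    (ha : ∀ v ∈ V, Commute a (a * v * a⁻¹ * v⁻¹)) : a ∈ Subgroup.centralizer (V : Set G) := by
  obtain ⟨E, _, ρ, hE, hρ, hq⟩ := exists_rep V hV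
  have hle : Subgroup.centralizer (V : Set G) ≤ ρ.ker := by
    intro g hg
    exact (hρ g).2 hg
  let ρ' : G ⧸ Subgroup.centralizer (V : Set G) →* E := QuotientGroup.lift _ ρ hle
  have hρ' : ∀ g : G, ρ' (QuotientGroup.mk g) = ρ g := fun g => QuotientGroup.lift_mk' _ hle g
  have hinj : Function.Injective ρ' := by
    rw [injective_iff_map_eq_one]
    intro x
    obtain ⟨g, rfl⟩ := QuotientGroup.mk_surjective x
    rw [hρ', hρ, QuotientGroup.eq_one_iff]
    exact id
  have hs' : Group.IsSolvable (G ⧸ Subgroup.centralizer (V : Set G)) := inferInstance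
  have h1 := eq_one_of_quadratic hs' hp
    (fun h => sylow_quotient_comm (h3 h) (Subgroup.centralizer (V : Set G))) hcore hE ρ' hinj
    (QuotientGroup.mk a) (by rw [hρ']; exact hq a ha)
  exact (QuotientGroup.eq_one_iff a).1 h1

end Cfsg.Agent.Transfer.QuadSolvable
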