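import Mathlib
import Cfsg.Prelude.Def_Transfer
import Cfsg.Prelude.Def_PLocal
import Cfsg.Agent.Lib.Cores
import Cfsg.Agent.Lib.HallHigman
import Cfsg.Agent.Lib.SylowNormalInf
import Cfsg.Agent.Lib.ProductSet
import Cfsg.Agent.PLocal.ThompsonJ
import Cfsg.Agent.S0599
import Cfsg.Agent.Transfer.QuadSolvable

/-!
# Thompson factorization for solvable groups

* `isBestOffenderOn_of_max`: elementary abelian subgroups of largest order are best offenders on every
  elementary abelian subgroup.
* `pCore_quotient_centralizer_eq_bot`: `O_p(G / C_G(V)) = 1` for `V` the normal closure of a set of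
  elements centralized by a Sylow `p`-subgroup.
* `thompson_factorization`
-/

set_option autoImplicit false

namespace Cfsg.Agent.Transfer.ThompsonFactor

open Cfsg
open scoped Pointwise commutatorElement

open PLocal.ThompsonJ in
/-- The join of two commuting elementary abelian subgroups is elementary abelian. -/
theorem isElementaryAbelian_sup {G : Type*} [Group G] {p : ℕ} {A B : Subgroup G}
    (hA : IsElementaryAbelian p A) (hB : IsElementaryAbelian p B)
    (hAB : ∀ a ∈ A, ∀ b ∈ B, a * b = b * a) : IsElementaryAbelian p (A ⊔ B : Subgroup G) := by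
  have hmem : ∀ x ∈ (A ⊔ B : Subgroup G), ∃ a ∈ A, ∃ b ∈ B, x = a * b := by
    let D : Subgroup G :=
      { carrier := {x | ∃ a ∈ A, ∃ b ∈ B, x = a * b}
        one_mem' := ⟨1, A.one_mem, 1, B.one_mem, (one_mul 1).symm⟩
        mul_mem' := by
          rintro _ _ ⟨a, ha, b, hb, rfl⟩ ⟨a', ha', b', hb', rfl⟩
          refine ⟨a * a', A.mul_mem ha ha', b * b', B.mul_mem hb hb', ?_⟩
          calc a * b * (a' * b') = a * (b * a') * b' := by group
            _ = a * a' * (b * b') := by rw [← hAB a' ha' b hb]; group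
        inv_mem' := by
          rintro _ ⟨a, ha, b, hb, rfl⟩
          refine ⟨a⁻¹, A.inv_mem ha, b⁻¹, B.inv_mem hb, ?_⟩
          rw [mul_inv_rev, hAB _ (A.inv_mem ha) _ (B.inv_mem hb)] }
    have hle : A ⊔ B ≤ D :=
      sup_le (fun a ha => ⟨a, ha, 1, B.one_mem, (mul_one a).symm⟩)
        (fun b hb => ⟨1, A.one_mem, b, hb, (one_mul b).symm⟩)
    exact fun x hx => hle hx
  rw [isElementaryAbelian_iff] at hA hB ⊢
  constructor
  · intro x hx y hy
    obtain ⟨a, ha, b, hb, rfl⟩ := hmem x hx
    obtain ⟨a', ha', b', hb', rfl⟩ := hmem y hy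
    have h1 : Commute a a' := hA.1 a ha a' ha'
    have h2 : Commute b b' := hB.1 b hb b' hb'
    have h3 : Commute a b' := hAB a ha b' hb'
    have h4 : Commute a' b := hAB a' ha' b hb
    exact ((h1.mul_right h3).mul_left (h4.symm.mul_right h2)).eq
  · intro x hx
    obtain ⟨a, ha, b, hb, rfl⟩ := hmem x hx
    have h1 : Commute a b := hAB a ha b hb
    rw [h1.mul_pow, hA.2 a ha, hB.2 b hb, one_mul]

/-- Elementary abelian subgroups of largest order are best offenders. -/
theorem isBestOffenderOn_of_max {G : Type*} [Group G] [Finite G] {p : ℕ} {V A : Subgroup G}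
    (hV : IsElementaryAbelian p V) (hA : A ∈ maxElementaryAbelianSubgroups p G) :
    IsBestOffenderOn p V A := by
  have hAcomm := (PLocal.ThompsonJ.isElementaryAbelian_iff.1 hA.1).1
  refine ⟨?_, ?_, ?_⟩
  · intro B hB
    set C : Subgroup G := V ⊓ Subgroup.centralizer (B : Set G) with hC
    have h1 := Lib.ProductSet.card_mul_card_inf B C
    have h2 : Nat.card ((B : Set G) * (C : Set G) : Set G) ≤ Nat.card A := by
      have h3 : IsElementaryAbelian p (B ⊔ C : Subgroup G) := by
        refine isElementaryAbelian_sup (PLocal.ThompsonJ.isElementaryAbelian_mono hA.1 hB)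
          (PLocal.ThompsonJ.isElementaryAbelian_mono hV inf_le_left) ?_
        intro b hb c hc
        exact Subgroup.mem_centralizer_iff.1 hc.2 b hb
      refine le_trans ?_ (hA.2 _ h3)
      refine Nat.card_mono (Set.toFinite _) ?_
      rintro _ ⟨b, hb, c, hc, rfl⟩
      exact Subgroup.mul_mem_sup hb hc
    have h4 : Nat.card (B ⊓ C : Subgroup G) ≤
        Nat.card (V ⊓ Subgroup.centralizer (A : Set G) : Subgroup G) := by
      refine Subgroup.card_le_of_le ?_
      rintro x ⟨hx1, hx2, -⟩
      refine ⟨hx2, Subgroup.mem_centralizer_iff.2 fun a ha => hAcomm a ha x (hB hx1)⟩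
    rw [← h1]
    exact Nat.mul_le_mul h2 h4
  · rw [Subgroup.commutator_le]
    intro a ha b hb
    have : ⁅a, b⁆ = 1 := commutatorElement_eq_one_iff_mul_comm.2 (hAcomm a ha b hb)
    rw [this]
    exact Subgroup.one_mem _
  · intro a ha
    rw [hA.1.2 a ha]
    exact Subgroup.one_mem _

/-- The elements of order dividing `p` of the centre of a normal subgroup form a normal elementary
abelian subgroup. -/
def omegaCenter {G : Type*} [Group G] (p : ℕ) (K : Subgroup G) : Subgroup G where
  carrier := {x | x ∈ K ∧ x ∈ Subgroup.centralizer (K : Set G) ∧ x ^ p = 1}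
  one_mem' := ⟨Subgroup.one_mem _, Subgroup.one_mem _, one_pow p⟩
  mul_mem' := by
    rintro x y ⟨hx1, hx2, hx3⟩ ⟨hy1, hy2, hy3⟩
    refine ⟨Subgroup.mul_mem _ hx1 hy1, Subgroup.mul_mem _ hx2 hy2, ?_⟩
    have : Commute x y := (Subgroup.mem_centralizer_iff.1 hy2 x hx1)
    rw [this.mul_pow, hx3, hy3, one_mul]
  inv_mem' := by
    rintro x ⟨hx1, hx2, hx3⟩
    exact ⟨Subgroup.inv_mem _ hx1, Subgroup.inv_mem _ hx2, by rw [inv_pow, hx3, inv_one]⟩

theorem mem_omegaCenter {G : Type*} [Group G] {p : ℕ} {K : Subgroup G} {x : G} :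
    x ∈ omegaCenter p K ↔ x ∈ K ∧ x ∈ Subgroup.centralizer (K : Set G) ∧ x ^ p = 1 := Iff.rfl

theorem omegaCenter_normal {G : Type*} [Group G] (p : ℕ) (K : Subgroup G) (hK : K.Normal) :
    (omegaCenter p K).Normal := by
  constructor
  rintro x ⟨hx1, hx2, hx3⟩ g
  refine ⟨hK.conj_mem x hx1 g, ?_, by rw [conj_pow, hx3, mul_one, mul_inv_cancel]⟩
  rw [Subgroup.mem_centralizer_iff]
  intro y hy
  have h1 : g⁻¹ * y * g ∈ K := by
    have := hK.conj_mem y hy g⁻¹
    rwa [inv_inv] at this
  have h2 := Subgroup.mem_centralizer_iff.1 hx2 _ h1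
  calc y * (g * x * g⁻¹) = g * ((g⁻¹ * y * g) * x) * g⁻¹ := by group
    _ = g * x * g⁻¹ * y := by rw [h2]; group

theorem omegaCenter_isElementaryAbelian {G : Type*} [Group G] (p : ℕ) (K : Subgroup G) :
    IsElementaryAbelian p (omegaCenter p K) := by
  rw [PLocal.ThompsonJ.isElementaryAbelian_iff]
  refine ⟨?_, fun x hx => hx.2.2⟩
  intro x hx y hy
  exact Subgroup.mem_centralizer_iff.1 hy.2.1 x hx.1

/-- `O_p(G / C_G(V)) = 1` for `V` the normal closure of a set of elements centralized by a Sylow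
`p`-subgroup. -/
theorem pCore_quotient_centralizer_eq_bot {G : Type*} [Group G] [Finite G] {p : ℕ} [Fact p.Prime]
    (P : Sylow p G) (Z : Set G) (hZ : ∀ z ∈ Z, ∀ x ∈ (P : Subgroup G), x * z = z * x) :
    pCore p (G ⧸ Subgroup.centralizer (Subgroup.normalClosure Z : Set G)) = ⊥ := by
  set V : Subgroup G := Subgroup.normalClosure Z with hV
  set C : Subgroup G := Subgroup.centralizer (V : Set G) with hC
  have hsurj : Function.Surjective (QuotientGroup.mk' C) := QuotientGroup.mk'_surjective C
  set K : Subgroup G := (pCore p (G ⧸ C)).comap (QuotientGroup.mk' C) with hK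
  have hKn : K.Normal := (Lib.Cores.pCore_normal p).comap _
  have hpow : ∀ x ∈ K, ∃ k : ℕ, x ^ p ^ k ∈ C := by
    intro x hx
    obtain ⟨k, hk⟩ := Lib.Cores.pCore_isPGroup (G := G ⧸ C) p ⟨QuotientGroup.mk' C x, hx⟩
    refine ⟨k, ?_⟩
    rw [← QuotientGroup.eq_one_iff]
    exact congrArg Subtype.val hk
  have h1 := Lib.SylowNormalInf.le_sup_inf P K C hpow
  have h2 := Lib.SylowNormalInf.normalizer_inf_sup_eq_top P K
  set D : Subgroup G := (P : Subgroup G) ⊓ K with hD
  have h3 : Subgroup.normalizer (D : Set G) ⊔ C = ⊤ := by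
    rw [eq_top_iff, ← h2]
    refine sup_le le_sup_left (h1.trans (sup_le le_sup_right ?_))
    exact Subgroup.le_normalizer.trans le_sup_left
  set U : Subgroup G := V ⊓ Subgroup.centralizer (D : Set G) with hU
  have hVn : V.Normal := Subgroup.normalClosure_normal
  have hUn : U.Normal := by
    rw [← Subgroup.normalizer_eq_top_iff, eq_top_iff, ← h3]
    refine sup_le ?_ ?_
    · -- `N(D) ≤ N(U)`
      have key : ∀ g ∈ Subgroup.normalizer (D : Set G), ∀ u ∈ U, g * u * g⁻¹ ∈ U := by
        intro g hg u hu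
        refine Subgroup.mem_inf.2 ⟨hVn.conj_mem u hu.1 g, Subgroup.mem_centralizer_iff.2 ?_⟩
        intro d hd
        have hd' : g⁻¹ * d * g ∈ D := by
          have := (Subgroup.mem_normalizer_iff.1 (Subgroup.inv_mem _ hg) d).1 hd
          rwa [inv_inv] at this
        have h4 := Subgroup.mem_centralizer_iff.1 hu.2 _ hd'
        calc d * (g * u * g⁻¹) = g * ((g⁻¹ * d * g) * u) * g⁻¹ := by group
          _ = g * u * g⁻¹ * d := by rw [h4]; group
      intro g hg
      rw [Subgroup.mem_normalizer_iff]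
      intro u
      refine ⟨key g hg u, fun hu => ?_⟩
      have := key g⁻¹ (Subgroup.inv_mem _ hg) _ hu
      have h5 : g⁻¹ * (g * u * g⁻¹) * g⁻¹⁻¹ = u := by group
      rwa [h5] at this
    · refine le_trans ?_ (Subgroup.centralizer_le_normalizer (U : Set G))
      rw [hC]
      exact Subgroup.centralizer_le inf_le_left
  have hVU : V ≤ U := by
    rw [hV]
    refine Subgroup.normalClosure_le_normal ?_
    intro z hz
    refine Subgroup.mem_inf.2 ⟨Subgroup.subset_normalClosure hz,
      Subgroup.mem_centralizer_iff.2 ?_⟩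
    intro d hd
    exact hZ z hz d hd.1
  have hDC : D ≤ C := by
    rw [hC, Subgroup.le_centralizer_iff]
    exact hVU.trans inf_le_right
  have hKC : K ≤ C := h1.trans (sup_le le_rfl hDC)
  rw [eq_bot_iff, ← Subgroup.map_comap_eq_self_of_surjective hsurj (pCore p (G ⧸ C)), ← hK]
  refine (Subgroup.map_mono hKC).trans ?_
  rintro _ ⟨x, hx, rfl⟩
  rw [Subgroup.mem_bot]
  exact (QuotientGroup.eq_one_iff x).2 hx

/-- **Thompson factorization** for solvable groups: `G = N_G(J(P)) C_G(Ω₁(Z(P)))`. -/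
theorem thompson_factorization {G : Type*} [Group G] [Finite G] {p : ℕ} [Fact p.Prime]
    (hp : p ≠ 2) (hs : Group.IsSolvable G)
    (h3 : p = 3 → ∀ T : Sylow 2 G, IsMulCommutative T) (hF : pPrimeCore p G = ⊥)
    (P : Sylow p G) (g : G) :
    ∃ a ∈ Subgroup.normalizer (thompsonSubgroupOf p (P : Subgroup G) : Set G),
      ∃ c ∈ Subgroup.centralizer {x : G | x ∈ (P : Subgroup G) ∧
        (∀ y ∈ (P : Subgroup G), x * y = y * x) ∧ x ^ p = 1}, g = a * c := by
  have hCO : Subgroup.centralizer (pCore p G : Set G) ≤ pCore p G := by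
    have := hs
    exact Lib.HallHigman.centralizer_pCore_le_of_solvable p hF
  have hOP : pCore p G ≤ P := Lib.Cores.pCore_le_sylow P
  have hOn : (pCore p G).Normal := Lib.Cores.pCore_normal p
  set Z : Set G := {x : G | x ∈ (P : Subgroup G) ∧
        (∀ y ∈ (P : Subgroup G), x * y = y * x) ∧ x ^ p = 1} with hZdef
  set V : Subgroup G := Subgroup.normalClosure Z with hVdef
  have hVn : V.Normal := Subgroup.normalClosure_normal
  have hVW : V ≤ omegaCenter p (pCore p G) := by
    have := omegaCenter_normal p (pCore p G) hOn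
    rw [hVdef]
    refine Subgroup.normalClosure_le_normal ?_
    rintro z ⟨-, hz2, hz3⟩
    have h1 : z ∈ Subgroup.centralizer (pCore p G : Set G) := by
      rw [Subgroup.mem_centralizer_iff]
      intro y hy
      exact (hz2 y (hOP hy)).symm
    exact ⟨hCO h1, h1, hz3⟩
  have hV : IsElementaryAbelian p V :=
    PLocal.ThompsonJ.isElementaryAbelian_mono (omegaCenter_isElementaryAbelian p _) hVW
  set C : Subgroup G := Subgroup.centralizer (V : Set G) with hC
  have hcore : pCore p (G ⧸ Subgroup.centralizer (V : Set G)) = ⊥ :=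
    pCore_quotient_centralizer_eq_bot P Z fun z hz x hx => (hz.2.1 x hx).symm
  -- `J(P) ≤ C`
  have hJ : thompsonSubgroupOf p (P : Subgroup G) ≤ C := by
    rw [PLocal.ThompsonJ.thompsonSubgroupOf_sylow_eq P]
    refine sSup_le ?_
    rintro A ⟨hA, -⟩
    by_contra hAC
    have h1 : ⁅V, A⁆ ≠ ⊥ := by
      rw [Ne, Subgroup.commutator_eq_bot_iff_le_centralizer]
      exact fun h => hAC (Subgroup.le_centralizer_iff.1 h)
    have hAV : A ≤ Subgroup.normalizer (V : Set G) := by
      rw [Subgroup.normalizer_eq_top]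
      exact le_top
    have h2 := (S0599.result V A hV hAV (isBestOffenderOn_of_max hV hA) V le_rfl).2.2 h1
    apply h2
    rw [Subgroup.commutator_eq_bot_iff_le_centralizer, Subgroup.le_centralizer_iff]
    intro a ha
    refine QuadSolvable.mem_centralizer_of_quadratic hs hp h3 V hV hcore a ?_
    intro v hv
    have h3 : a * v * a⁻¹ * v⁻¹ ∈ ⁅V, A⁆ := by
      have h4 : ⁅v, a⁆ ∈ ⁅V, A⁆ := Subgroup.commutator_mem_commutator hv ha.1
      have h5 := Subgroup.inv_mem _ h4
      rw [commutatorElement_inv, commutatorElement_def] at h5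
      exact h5
    exact (Subgroup.mem_centralizer_iff.1 ha.2 _ h3).symm
  -- `J(P ∩ C) = J(P)`
  set D : Subgroup G := (P : Subgroup G) ⊓ C with hD
  have hJD : thompsonSubgroupOf p D = thompsonSubgroupOf p (P : Subgroup G) := by
    obtain ⟨B, hB, hBP⟩ := PLocal.ThompsonJ.exists_max_le_sylow P
    have hle : ∀ A ∈ maxElementaryAbelianSubgroups p G, A ≤ (P : Subgroup G) → A ≤ D := by
      intro A hA hAP
      refine le_inf hAP (le_trans ?_ hJ)
      rw [PLocal.ThompsonJ.thompsonSubgroupOf_sylow_eq P]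
      exact le_sSup ⟨hA, hAP⟩
    rw [PLocal.ThompsonJ.thompsonSubgroupOf_sylow_eq P,
      PLocal.ThompsonJ.thompsonSubgroupOf_eq_sSup hB (hle B hB hBP)]
    congr 1
    ext A
    exact ⟨fun h => ⟨h.1, h.2.trans inf_le_left⟩, fun h => ⟨h.1, hle A h.1 h.2⟩⟩
  have hN : Subgroup.normalizer (D : Set G) ≤
      Subgroup.normalizer (thompsonSubgroupOf p (P : Subgroup G) : Set G) := by
    intro x hx
    have h1 : D.map (MulAut.conj x).toMonoidHom = D := by
      apply le_antisymm
      · rintro _ ⟨d, hd, rfl⟩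
        exact (Subgroup.mem_normalizer_iff.1 hx d).1 hd
      · intro d hd
        refine ⟨x⁻¹ * d * x, ?_, ?_⟩
        · have := (Subgroup.mem_normalizer_iff.1 (Subgroup.inv_mem _ hx) d).1 hd
          rwa [inv_inv] at this
        · change x * (x⁻¹ * d * x) * x⁻¹ = d
          group
    have h2 := PLocal.ThompsonJ.thompsonSubgroupOf_map_conj p x D
    rw [h1, hJD] at h2
    rw [Subgroup.mem_normalizer_iff]
    intro y
    constructor
    · intro hy
      rw [h2]
      exact ⟨y, hy, rfl⟩
    · intro hy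
      rw [h2] at hy
      obtain ⟨z, hz, hzy⟩ := hy
      have h4 : x * z * x⁻¹ = x * y * x⁻¹ := hzy
      have h5 : z = y := by simpa using h4
      rw [← h5]
      exact hz
  have htop := Lib.SylowNormalInf.normalizer_inf_sup_eq_top P C
  have hg : g ∈ Subgroup.normalizer (D : Set G) ⊔ C := by rw [htop]; exact Subgroup.mem_top g
  rw [← SetLike.mem_coe, Subgroup.mul_normal] at hg
  obtain ⟨a, ha, c, hc, rfl⟩ := hg
  refine ⟨a, hN ha, c, ?_, rfl⟩
  exact Subgroup.centralizer_le (Subgroup.subset_normalClosure) hc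

end Cfsg.Agent.Transfer.ThompsonFactor
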