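import Mathlib.GroupTheory.Sylow
import Mathlib.GroupTheory.Transfer
import Mathlib.GroupTheory.Focal
import Mathlib.GroupTheory.Frattini
import Mathlib.GroupTheory.Nilpotent
import Mathlib.GroupTheory.Solvable
import Mathlib.GroupTheory.SpecificGroups.Cyclic

/-!
# Tate's theorem (transfer-theoretic proof)

Main results:
* `Cfsg.Agent.Transfer.TateComplement.exists_normal_complement`: if `P` is a Sylow `p`-subgroup of the finite group
  `G`, `M` is normal in `G` with `M ⊔ P = ⊤`, and every homomorphism `P → ℤ/p` kills `M ⊓ P`, then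
  `P` has a normal complement in `G` contained in `M`.
-/

set_option autoImplicit false

namespace Cfsg.Agent.Transfer.TateComplement

open Subgroup
open scoped commutatorElement

/-- Transfer of an element `g ∈ H` all of whose conjugates lie in `H` and have the same `ϕ`-value
is `ϕ g ^ [E : H]`. -/
theorem transfer_eq_pow_of_conj {E A : Type*} [Group E] [CommGroup A] (H : Subgroup E)
    [H.FiniteIndex] (ϕ : H →* A) (g : E) (hg : g ∈ H)
    (key : ∀ t : E, ∃ h : t⁻¹ * g * t ∈ H, ϕ ⟨t⁻¹ * g * t, h⟩ = ϕ ⟨g, hg⟩) :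
    MonoidHom.transfer ϕ g = ϕ ⟨g, hg⟩ ^ H.index := by
  have : Fintype (Quotient (MulAction.orbitRel (zpowers (g : E)) (E ⧸ H))) :=
    Fintype.ofFinite _
  rw [index_eq_sum_minimalPeriod H g, ← Finset.prod_pow_eq_pow_sum,
    MonoidHom.transfer_eq_prod_quotient_orbitRel_zpowers_quot]
  apply Finset.prod_congr rfl
  intro q _
  obtain ⟨h, hh⟩ := key q.out.out
  rw [← hh, ← map_pow]
  congr 1
  apply Subtype.ext
  simp only [coe_pow]
  generalize Function.minimalPeriod (g • ·) q.out = k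
  clear hh h
  have := conj_pow (a := (q.out.out)⁻¹) (b := g) (i := k)
  simpa using this.symm

/-- A nontrivial normal subgroup `Q` of a finite nilpotent group satisfies `⁅Q, ⊤⁆ < Q`. -/
theorem commutator_top_lt_of_isNilpotent {P : Type*} [Group P] [hP : Group.IsNilpotent P]
    (Q : Subgroup P) [Q.Normal] (hQ : Q ≠ ⊥) : ⁅Q, (⊤ : Subgroup P)⁆ < Q := by
  refine lt_of_le_of_ne (commutator_le_left Q ⊤) fun h => hQ ?_
  obtain ⟨n, hn⟩ := Subgroup.nilpotent_iff_lowerCentralSeries.mp hP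
  rw [← le_bot_iff, ← hn]
  clear hn
  induction n with
  | zero => simp
  | succ n ih =>
    rw [← h, Subgroup.lowerCentralSeries_succ]
    exact commutator_mono ih le_rfl

/-- A nontrivial normal subgroup `Q` of a finite `p`-group `P` has a `P`-invariant homomorphism
onto `ℤ/p`. -/
theorem exists_invariant_hom {P : Type*} [Group P] [Finite P] {p : ℕ} [Fact p.Prime]
    (hP : IsPGroup p P) (Q : Subgroup P) [hQn : Q.Normal] (hQ : Q ≠ ⊥) :
    ∃ θ : Q →* Multiplicative (ZMod p), Function.Surjective θ ∧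
      ∀ (x : P) (q : Q), θ ⟨x⁻¹ * q * x, by simpa using hQn.conj_mem q q.2 x⁻¹⟩ = θ q := by
  have hnil : Group.IsNilpotent P := hP.isNilpotent
  have hlt := commutator_top_lt_of_isNilpotent Q hQ
  have hpP : p.Prime := Fact.out
  -- cardinalities
  have hQp : IsPGroup p Q := hP.to_subgroup Q
  obtain ⟨n, hn⟩ := (IsPGroup.iff_card).1 hQp
  have hcp : IsPGroup p (⁅Q, (⊤ : Subgroup P)⁆ : Subgroup P) := hP.to_subgroup _
  obtain ⟨m, hm⟩ := (IsPGroup.iff_card).1 hcp
  have hcard : Nat.card (⁅Q, (⊤ : Subgroup P)⁆ : Subgroup P) < Nat.card Q :=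
    Set.Finite.card_lt_card (Set.toFinite _) hlt
  have hmn : m < n := by
    rw [hn, hm] at hcard
    exact (Nat.pow_lt_pow_iff_right hpP.one_lt).1 hcard
  -- work inside Q
  have hsub : Nat.card ((⁅Q, (⊤ : Subgroup P)⁆ : Subgroup P).subgroupOf Q) = p ^ m := by
    rw [← hm]
    exact Nat.card_congr (subgroupOfEquivOfLe hlt.le).toEquiv
  obtain ⟨R, hRcard, hR⟩ := Sylow.exists_subgroup_card_pow_prime_le (n := m) (m := n - 1) p
    (by rw [hn]; exact pow_dvd_pow p (Nat.sub_le n 1)) _ hsub (by omega)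
  have hcomm : ∀ (x : P) (q : Q),
      (⟨x⁻¹ * q * x, by simpa using hQn.conj_mem q q.2 x⁻¹⟩ : Q)⁻¹ * q ∈ R := by
    intro x q
    apply hR
    rw [mem_subgroupOf]
    have : ⁅x⁻¹, ((q : P)⁻¹)⁆ ∈ ⁅(⊤ : Subgroup P), Q⁆ :=
      commutator_mem_commutator (mem_top _) (Q.inv_mem q.2)
    rw [commutator_comm] at this
    convert this using 1
    simp [commutatorElement_def, mul_assoc]
  have hRn : R.Normal := by
    constructor
    intro r hr g
    have h1 := hcomm (g : P)⁻¹ r
    have h2 := R.mul_mem hr (R.inv_mem h1)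
    convert h2 using 1
    apply Subtype.ext
    simp [mul_assoc]
  have hcardQ : Nat.card (Q ⧸ R) = p := by
    have h1 := R.card_eq_card_quotient_mul_card_subgroup
    rw [hRcard, hn] at h1
    have h2 : p ^ n = p * p ^ (n - 1) := by
      rw [← pow_succ']; congr 1; omega
    rw [h2] at h1
    exact (Nat.eq_of_mul_eq_mul_right (pow_pos hpP.pos _) h1).symm
  have hzcard : Nat.card (Multiplicative (ZMod p)) = p := by simp
  let e : (Q ⧸ R) ≃* Multiplicative (ZMod p) := mulEquivOfPrimeCardEq (p := p) hcardQ hzcard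
  refine ⟨e.toMonoidHom.comp (QuotientGroup.mk' R), ?_, ?_⟩
  · exact e.surjective.comp (QuotientGroup.mk'_surjective R)
  · intro x q
    simp only [MonoidHom.comp_apply, MulEquiv.coe_toMonoidHom, QuotientGroup.mk'_apply]
    congr 1
    exact QuotientGroup.eq.mpr (hcomm x q)

/-- Key step of the transfer proof of Tate's theorem. -/
theorem exists_smaller {G : Type*} [Group G] [Finite G] {p : ℕ} [Fact p.Prime] (P : Sylow p G)
    (M : Subgroup G) [hM : M.Normal] (hMP : M ⊔ (P : Subgroup G) = ⊤)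
    (hδ : ∀ (δ : P →* Multiplicative (ZMod p)) (x : P), (x : G) ∈ M → δ x = 1)
    (hne : M ⊓ (P : Subgroup G) ≠ ⊥) :
    ∃ M' : Subgroup G, M'.Normal ∧ M' < M ∧ M' ⊔ (P : Subgroup G) = ⊤ := by
  have hpP : p.Prime := Fact.out
  let Q : Subgroup P := M.subgroupOf P
  have hQ : Q ≠ ⊥ := by
    intro h
    apply hne
    exact disjoint_iff.1 (subgroupOf_eq_bot.1 h)
  have hQmem : ∀ x : P, x ∈ Q ↔ (x : G) ∈ M := fun x => mem_subgroupOf
  obtain ⟨θ, hθs, hθ⟩ := exists_invariant_hom P.isPGroup' Q hQ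
  have hdec : ∀ g : G, ∃ x : P, g⁻¹ * (x : G) ∈ M := by
    intro g
    have hg : g ∈ M ⊔ (P : Subgroup G) := by rw [hMP]; exact mem_top g
    obtain ⟨m, hm, x, hx, rfl⟩ := mem_sup_of_normal_left.1 hg
    refine ⟨⟨x, hx⟩, ?_⟩
    have h1 := hM.conj_mem _ (M.inv_mem hm) x⁻¹
    convert h1 using 1
    simp [mul_assoc]
  -- the fibre product
  let E : Subgroup (G × P) :=
    { carrier := {z | z.1⁻¹ * (z.2 : G) ∈ M}
      one_mem' := by simp
      mul_mem' := by
        intro a b (ha : a.1⁻¹ * (a.2 : G) ∈ M) (hb : b.1⁻¹ * (b.2 : G) ∈ M)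
        show (a * b).1⁻¹ * ((a * b).2 : G) ∈ M
        have h1 := hM.conj_mem _ ha b.1⁻¹
        have h2 := M.mul_mem h1 hb
        convert h2 using 1
        simp [mul_assoc]
      inv_mem' := by
        intro a (ha : a.1⁻¹ * (a.2 : G) ∈ M)
        show (a⁻¹).1⁻¹ * ((a⁻¹).2 : G) ∈ M
        have h1 := hM.conj_mem _ (M.inv_mem ha) a.1
        convert h1 using 1
        simp [mul_assoc] }
  have hE : ∀ z : G × P, z ∈ E ↔ z.1⁻¹ * (z.2 : G) ∈ M := fun z => Iff.rfl
  let pr : E →* G := (MonoidHom.fst G P).comp E.subtype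
  have hpr : Function.Surjective pr := by
    intro g
    obtain ⟨x, hx⟩ := hdec g
    exact ⟨⟨(g, x), hx⟩, rfl⟩
  let H : Subgroup E := (P : Subgroup G).comap pr
  have hHmem : ∀ z : E, z ∈ H ↔ (z : G × P).1 ∈ (P : Subgroup G) := fun z => Iff.rfl
  have hHindex : H.index = (P : Subgroup G).index := index_comap_of_surjective _ hpr
  have hHfin : H.FiniteIndex := ⟨by rw [hHindex]; exact P.index_ne_zero_of_finite⟩
  -- the homomorphism on `H`
  have hq : ∀ h : H, ((⟨h.1.1.1, h.2⟩ : P)⁻¹ * h.1.1.2) ∈ Q := by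
    intro h
    rw [hQmem]
    exact h.1.2
  let ϕ : H →* Multiplicative (ZMod p) :=
    { toFun := fun h => θ ⟨(⟨h.1.1.1, h.2⟩ : P)⁻¹ * h.1.1.2, hq h⟩
      map_one' := by
        have : (⟨(⟨(1 : H).1.1.1, (1 : H).2⟩ : P)⁻¹ * (1 : H).1.1.2, hq 1⟩ : Q) = 1 := by
          apply Subtype.ext
          apply Subtype.ext
          simp
        rw [this, map_one]
      map_mul' := by
        intro a b
        have h1 := hθ (⟨b.1.1.1, b.2⟩ : P) ⟨(⟨a.1.1.1, a.2⟩ : P)⁻¹ * a.1.1.2, hq a⟩
        rw [← h1, ← map_mul]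
        congr 1
        apply Subtype.ext
        apply Subtype.ext
        simp [mul_assoc] }
  have hϕ : ∀ h : H, ϕ h = θ ⟨(⟨h.1.1.1, h.2⟩ : P)⁻¹ * h.1.1.2, hq h⟩ := fun h => rfl
  let V : E →* Multiplicative (ZMod p) := MonoidHom.transfer ϕ
  -- value of the transfer on `1 × Q`
  have hV1 : ∀ q : Q, ∀ h : ((1 : G), (q : P)) ∈ E, V ⟨((1 : G), (q : P)), h⟩ = θ q ^ H.index := by
    intro q h
    have hmemH : (⟨((1 : G), (q : P)), h⟩ : E) ∈ H := by
      rw [hHmem]; exact (P : Subgroup G).one_mem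
    have hval : ϕ ⟨⟨((1 : G), (q : P)), h⟩, hmemH⟩ = θ q := by
      rw [hϕ]
      congr 1
      apply Subtype.ext
      apply Subtype.ext
      simp
    rw [← hval]
    refine transfer_eq_pow_of_conj H ϕ _ hmemH ?_
    intro t
    have hconj : t⁻¹ * (⟨((1 : G), (q : P)), h⟩ : E) * t ∈ H := by
      rw [hHmem]
      simp
    refine ⟨hconj, ?_⟩
    rw [hval, ← hθ t.1.2 q, hϕ]
    congr 1
    apply Subtype.ext
    apply Subtype.ext
    simp [mul_assoc]
  -- the diagonal
  let diag : P →* E :=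
    { toFun := fun x => ⟨((x : G), x), by rw [hE]; simp⟩
      map_one' := by apply Subtype.ext; rfl
      map_mul' := by intro a b; apply Subtype.ext; rfl }
  have hdiag : ∀ x : P, (x : G) ∈ M → V (diag x) = 1 := fun x hx => hδ (V.comp diag) x hx
  -- the homomorphism on `M`
  let ι : M →* E :=
    { toFun := fun m => ⟨((m : G), (1 : P)), by rw [hE]; simp⟩
      map_one' := by apply Subtype.ext; rfl
      map_mul' := by intro a b; apply Subtype.ext; simp }
  let Θ : M →* Multiplicative (ZMod p) := V.comp ι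
  -- G-invariance
  have hΘinv : ∀ (g : G) (m : M), Θ ⟨g * m * g⁻¹, hM.conj_mem _ m.2 g⟩ = Θ m := by
    intro g m
    obtain ⟨x, hx⟩ := hdec g
    let z : E := ⟨(g, x), hx⟩
    have h1 : ι ⟨g * m * g⁻¹, hM.conj_mem _ m.2 g⟩ = z * ι m * z⁻¹ := by
      apply Subtype.ext
      simp [z, ι]
    show V (ι _) = V (ι m)
    rw [h1, map_mul, map_mul, map_inv, mul_comm (V z), mul_inv_cancel_right]
  -- value on `Q`
  have hΘQ : ∀ q : Q, ∀ h : ((q : P) : G) ∈ M, Θ ⟨((q : P) : G), h⟩ = (θ q ^ H.index)⁻¹ := by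
    intro q h
    have hEq : ((1 : G), (q : P)) ∈ E := by rw [hE]; simpa using h
    rw [← hV1 q hEq]
    have h1 : ι ⟨((q : P) : G), h⟩ = diag q * (⟨((1 : G), (q : P)), hEq⟩ : E)⁻¹ := by
      apply Subtype.ext
      simp [ι, diag]
    show V (ι _) = _
    rw [h1, map_mul, hdiag q h, one_mul, map_inv]
  have hcop : Nat.Coprime p H.index := by
    rw [hHindex]
    exact (Nat.Prime.coprime_iff_not_dvd hpP).2 P.not_dvd_index
  have hzp : IsPGroup p (Multiplicative (ZMod p)) :=
    IsPGroup.of_card (n := 1) (by simp)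
  -- surjectivity on Q
  have hsurj : ∀ c : Multiplicative (ZMod p), ∃ q : Q, θ q ^ H.index = c := by
    intro c
    obtain ⟨d, hd⟩ := (hzp.powEquiv hcop).surjective c
    obtain ⟨q, rfl⟩ := hθs d
    exact ⟨q, hd⟩
  refine ⟨Θ.ker.map M.subtype, ?_, ?_, ?_⟩
  · constructor
    rintro _ ⟨m, hm, rfl⟩ g
    refine ⟨⟨g * m * g⁻¹, hM.conj_mem _ m.2 g⟩, ?_, rfl⟩
    show Θ _ = 1
    rw [hΘinv]
    exact hm
  · refine lt_of_le_of_ne (map_subtype_le _) ?_
    intro heq
    have : Nontrivial (Multiplicative (ZMod p)) := inferInstance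
    obtain ⟨c, hc⟩ := exists_ne (1 : Multiplicative (ZMod p))
    obtain ⟨q, hqc⟩ := hsurj c
    have hqM : ((q : P) : G) ∈ M := (hQmem q).1 q.2
    have h1 : ((q : P) : G) ∈ Θ.ker.map M.subtype := by rw [heq]; exact hqM
    obtain ⟨m, hm, hmq⟩ := h1
    have h2 : Θ ⟨((q : P) : G), hqM⟩ = 1 := by
      have : (⟨((q : P) : G), hqM⟩ : M) = m := Subtype.ext hmq.symm
      rw [this]; exact hm
    rw [hΘQ, hqc, inv_eq_one] at h2
    exact hc h2
  · rw [eq_top_iff, ← hMP]
    refine sup_le ?_ le_sup_right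
    intro m hm
    obtain ⟨q, hqc⟩ := hsurj (Θ ⟨m, hm⟩)⁻¹
    have hqM : ((q : P) : G) ∈ M := (hQmem q).1 q.2
    have h1 : Θ (⟨m, hm⟩ * ⟨((q : P) : G), hqM⟩⁻¹) = 1 := by
      rw [map_mul, map_inv, hΘQ, hqc, inv_inv, mul_inv_cancel]
    have h2 : m * ((q : P) : G)⁻¹ ∈ Θ.ker.map M.subtype := ⟨_, h1, rfl⟩
    have h3 : ((q : P) : G) ∈ (P : Subgroup G) := (q : P).2
    have h4 := mul_mem (mem_sup_left (T := (P : Subgroup G)) h2)
      (mem_sup_right (S := Θ.ker.map M.subtype) h3)
    simpa using h4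

/-- **Tate's theorem**, core form: if `P` is a Sylow `p`-subgroup of the finite group `G`, `M` is
normal in `G` with `M ⊔ P = ⊤`, and every homomorphism `P → ℤ/p` kills `M ⊓ P`, then `P` has a
normal complement in `G` contained in `M`. -/
theorem exists_normal_complement {G : Type*} [Group G] [Finite G] {p : ℕ} [Fact p.Prime]
    (P : Sylow p G) (M : Subgroup G) [hM : M.Normal] (hMP : M ⊔ (P : Subgroup G) = ⊤)
    (hδ : ∀ (δ : P →* Multiplicative (ZMod p)) (x : P), (x : G) ∈ M → δ x = 1) :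
    ∃ K : Subgroup G, K.Normal ∧ K ≤ M ∧ K.IsComplement' (P : Subgroup G) := by
  obtain ⟨n, hn⟩ : ∃ n, Nat.card M = n := ⟨_, rfl⟩
  induction n using Nat.strong_induction_on generalizing M with
  | _ n ih =>
    by_cases hne : M ⊓ (P : Subgroup G) = ⊥
    · refine ⟨M, hM, le_rfl, ?_⟩
      apply isComplement'_of_disjoint_and_mul_eq_univ (disjoint_iff.2 hne)
      rw [← normal_mul, hMP, coe_top]
    · obtain ⟨M', hM'n, hM'lt, hM'P⟩ := exists_smaller P M hMP hδ hne
      have hcard : Nat.card M' < n := by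
        rw [← hn]
        exact Set.Finite.card_lt_card (Set.toFinite _) hM'lt
      obtain ⟨K, hK1, hK2, hK3⟩ := ih _ hcard M' hM'P
        (fun δ x hx => hδ δ x (hM'lt.le hx)) rfl
      exact ⟨K, hK1, hK2.trans hM'lt.le, hK3⟩

/-- A homomorphism to the cyclic group of order `p` kills the Frattini subgroup. -/
theorem hom_zmod_eq_one_of_mem_frattini {P : Type*} [Group P] {p : ℕ} [Fact p.Prime]
    (δ : P →* Multiplicative (ZMod p)) {x : P} (hx : x ∈ frattini P) : δ x = 1 := by
  have hpP : p.Prime := Fact.out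
  by_cases h : δ.ker = ⊤
  · have : x ∈ δ.ker := by rw [h]; exact mem_top x
    exact this
  · have hco : IsCoatom δ.ker := by
      refine ⟨h, fun K hK => ?_⟩
      -- index argument in the image
      have hcard : Nat.card (Multiplicative (ZMod p)) = p := by simp
      have hlt : (⊥ : Subgroup (Multiplicative (ZMod p))) < K.map δ := by
        rw [bot_lt_iff_ne_bot]
        intro h1
        rw [Subgroup.map_eq_bot_iff] at h1
        exact absurd h1 (not_le_of_gt hK)
      have hfp : Fact (Nat.card (Multiplicative (ZMod p))).Prime := ⟨by rw [hcard]; exact hpP⟩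
      have htop : K.map δ = ⊤ := by
        rcases (K.map δ).eq_bot_or_eq_top_of_prime_card with h1 | h1
        · exact absurd h1 hlt.ne'
        · exact h1
      have := Subgroup.comap_map_eq_self (f := δ) (H := K) hK.le
      rw [← this, htop, comap_top]
    exact frattini_le_coatom hco hx

/-- A normal subgroup of order prime to `p` and index a power of `p` complements every Sylow
`p`-subgroup. -/
theorem isComplement'_sylow_of_index {G : Type*} [Group G] [Finite G] {p : ℕ} [Fact p.Prime]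
    (K : Subgroup G) (h1 : ¬ p ∣ Nat.card K) (h2 : ∃ n, K.index = p ^ n)
    (P : Sylow p G) : K.IsComplement' (P : Subgroup G) := by
  have hpP : p.Prime := Fact.out
  obtain ⟨n, hn⟩ := h2
  have hKG := K.card_mul_index
  have hc : Nat.card K ≠ 0 := Nat.card_pos.ne'
  have hP : Nat.card P = p ^ n := by
    rw [P.card_eq_multiplicity, ← hKG, hn, Nat.factorization_mul hc (pow_ne_zero _ hpP.ne_zero)]
    simp [Nat.factorization_eq_zero_of_not_dvd h1, hpP.factorization_self]
  apply isComplement'_of_coprime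
  · rw [← hKG, hn]
    exact congrArg _ hP
  · show Nat.Coprime (Nat.card K) (Nat.card P)
    rw [hP]
    exact Nat.Coprime.pow_right _ ((Nat.Prime.coprime_iff_not_dvd hpP).2 h1).symm

/-- **Tate's theorem**: if `N` is normal in `G` and `N ⊓ P ≤ Φ(P)` for a Sylow `p`-subgroup `P`
of `G`, there is a normal subgroup `K` of `N ⊔ P` contained in `N`, complementing `P`. -/
theorem exists_complement_of_inf_le_frattini {G : Type*} [Group G] [Finite G] {p : ℕ}
    [Fact p.Prime] (P : Sylow p G) (N : Subgroup G) [hN : N.Normal]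
    (h : N ⊓ (P : Subgroup G) ≤ (frattini P).map (P : Subgroup G).subtype) :
    ∃ K : Subgroup (N ⊔ (P : Subgroup G) : Subgroup G), K.Normal ∧
      K ≤ N.subgroupOf (N ⊔ (P : Subgroup G)) ∧
      K.IsComplement' ((P.subtype le_sup_right : Sylow p (N ⊔ (P : Subgroup G) : Subgroup G)) :
        Subgroup (N ⊔ (P : Subgroup G) : Subgroup G)) := by
  have hPle : (P : Subgroup G) ≤ N ⊔ (P : Subgroup G) := le_sup_right
  have hNle : N ≤ N ⊔ (P : Subgroup G) := le_sup_left
  have hMn : (N.subgroupOf (N ⊔ (P : Subgroup G))).Normal := inferInstance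
  apply exists_normal_complement
  · rw [Sylow.coe_subtype, ← subgroupOf_sup hNle hPle, subgroupOf_self]
  · intro δ x hx
    let e : P →* (P.subtype hPle : Sylow p (N ⊔ (P : Subgroup G) : Subgroup G)) :=
      { toFun := fun y => ⟨⟨(y : G), hPle y.2⟩, by
          show _ ∈ (P : Subgroup G).subgroupOf _
          rw [mem_subgroupOf]; exact y.2⟩
        map_one' := rfl
        map_mul' := fun _ _ => rfl }
    have hxP : ((x : (N ⊔ (P : Subgroup G) : Subgroup G)) : G) ∈ (P : Subgroup G) := by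
      have h1 : (x : (N ⊔ (P : Subgroup G) : Subgroup G)) ∈
          (P : Subgroup G).subgroupOf (N ⊔ (P : Subgroup G)) := x.2
      exact mem_subgroupOf.1 h1
    have hex : e ⟨_, hxP⟩ = x := rfl
    have hxN : ((x : (N ⊔ (P : Subgroup G) : Subgroup G)) : G) ∈ N := mem_subgroupOf.1 hx
    obtain ⟨y, hy, hyx⟩ := h ⟨hxN, hxP⟩
    have hyx' : y = ⟨_, hxP⟩ := Subtype.ext hyx
    rw [hyx'] at hy
    exact hom_zmod_eq_one_of_mem_frattini (δ.comp e) hy


end Cfsg.Agent.Transfer.TateComplement
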