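import Mathlib

/-!
# Control of fusion by the normalizer of a weakly closed centralizing subgroup
-/

set_option autoImplicit false

namespace Cfsg.Agent.Transfer.WeakClosure

universe u

variable {G : Type u} [Group G]

/-- Let `Z` be a `p`-subgroup of the finite group `G` such that whenever a Sylow `p`-subgroup `R`
contains `Z` and `w Z w⁻¹`, then `w` normalizes `Z`.  If `Z` centralizes the conjugate elements
`x` and `y = g x g⁻¹`, then they are conjugate by an element of the normalizer of `Z`. -/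
theorem exists_mem_normalizer_conj [Finite G] {p : ℕ} [Fact p.Prime] (Z : Subgroup G)
    (hZp : IsPGroup p Z)
    (hwc : ∀ (R : Sylow p G) (w : G), Z ≤ (R : Subgroup G) →
      (∀ z ∈ Z, w * z * w⁻¹ ∈ (R : Subgroup G)) → w ∈ Subgroup.normalizer (Z : Set G))
    (x y g : G) (hxy : g * x * g⁻¹ = y) (hx : ∀ z ∈ Z, z * x = x * z)
    (hy : ∀ z ∈ Z, z * y = y * z) :
    ∃ v ∈ Subgroup.normalizer (Z : Set G), v * x * v⁻¹ = y := by
  let C : Subgroup G := Subgroup.centralizer {y}
  have hZC : Z ≤ C := fun z hz => by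
    rw [Subgroup.mem_centralizer_singleton_iff]
    exact hy z hz
  have hZC' : ∀ z ∈ Z, g * z * g⁻¹ ∈ C := fun z hz => by
    rw [Subgroup.mem_centralizer_singleton_iff, ← hxy]
    have := hx z hz
    calc g * z * g⁻¹ * (g * x * g⁻¹) = g * (z * x) * g⁻¹ := by group
      _ = g * (x * z) * g⁻¹ := by rw [this]
      _ = _ := by group
  have hZp' : IsPGroup p (Z.map (MulAut.conj g).toMonoidHom) := hZp.map _
  have h1 : IsPGroup p (Z.comap C.subtype) := hZp.comap_subtype
  have h2 : IsPGroup p ((Z.map (MulAut.conj g).toMonoidHom).comap C.subtype) := hZp'.comap_subtype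
  obtain ⟨S₁, hS₁⟩ := h1.exists_le_sylow
  obtain ⟨S₂, hS₂⟩ := h2.exists_le_sylow
  obtain ⟨c, hc⟩ := MulAction.exists_smul_eq C S₂ S₁
  have h3 : IsPGroup p ((S₁ : Subgroup C).map C.subtype) := S₁.2.map _
  obtain ⟨R, hR⟩ := h3.exists_le_sylow
  have hZR : Z ≤ (R : Subgroup G) := fun z hz =>
    hR (Subgroup.mem_map.mpr ⟨⟨z, hZC hz⟩, hS₁ (Subgroup.mem_comap.mpr hz), rfl⟩)
  have hw : (c : G) * g ∈ Subgroup.normalizer (Z : Set G) := by
    apply hwc R _ hZR
    intro z hz
    apply hR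
    refine Subgroup.mem_map.mpr ⟨c * ⟨g * z * g⁻¹, hZC' z hz⟩ * c⁻¹, ?_, ?_⟩
    · have h4 : (⟨g * z * g⁻¹, hZC' z hz⟩ : C) ∈ S₂ := by
        apply hS₂
        refine Subgroup.mem_comap.mpr (Subgroup.mem_map.mpr ⟨z, hz, rfl⟩)
      rw [← hc, Sylow.coe_subgroup_smul]
      exact Subgroup.smul_mem_pointwise_smul _ (MulAut.conj c) _ h4
    · simp [mul_assoc]
  refine ⟨c * g, hw, ?_⟩
  have hcy := Subgroup.mem_centralizer_singleton_iff.mp c.2
  calc (c : G) * g * x * ((c : G) * g)⁻¹ = c * (g * x * g⁻¹) * (c : G)⁻¹ := by group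
    _ = c * y * (c : G)⁻¹ := by rw [hxy]
    _ = y := by rw [hcy]; group

end Cfsg.Agent.Transfer.WeakClosure
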