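import Mathlib

/-!
# The focal subgroup theorem for subgroups of coprime index

`focal_theorem`: if `H ≤ G` finite and `|G : H|` is prime to `|H : H'|` then
`foc(H) = G' ∩ H`, and there is a normal `N` with `N ∩ H = G' ∩ H`, `N H = G`.

`abMod G k`: the characteristic subgroup of all `x` with `x ^ k ∈ G'`.
If `Q ≤ G` with `gcd (|Q|, |G : Q|) = 1` then `M = abMod G |G : Q|` is characteristic with
`M ∩ Q = foc(Q)` and `M Q = G`.
-/

set_option autoImplicit false

namespace Cfsg.Agent.Transfer.FocalHall

open Subgroup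

variable {G : Type*} [Group G]

/-- The card of `H / foc(H)` divides `|H : H'|`. -/
theorem card_quotient_focal_dvd (H : Subgroup G) :
    Nat.card (H ⧸ H.focalSubgroupOf) ∣ ⁅H, H⁆.relIndex H := by
  have h1 : ⁅H, H⁆.relIndex H = (_root_.commutator H).index := by
    rw [Subgroup.relIndex]
    congr 1
    rw [← map_subtype_commutator H, Subgroup.subgroupOf,
      Subgroup.comap_map_eq_self_of_injective H.subtype_injective]
  rw [h1]
  exact Subgroup.index_dvd_of_le H.commutator_le_focalSubgroupOf

open scoped IsMulCommutative in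
/-- Power map on `H / foc(H)` is bijective when index is coprime to the order. -/
theorem pow_index_bijective [Finite G] (H : Subgroup G)
    (h : Nat.Coprime H.index (⁅H, H⁆.relIndex H)) :
    Function.Bijective fun y : H ⧸ H.focalSubgroupOf ↦ y ^ H.index := by
  have hco : (Nat.card (H ⧸ H.focalSubgroupOf)).Coprime H.index :=
    (Nat.Coprime.coprime_dvd_right (card_quotient_focal_dvd H) h).symm
  exact (powCoprime hco).bijective

/-- The transfer to `H / foc(H)` is surjective already on `H`. -/
theorem transferFocal_surjOn [Finite G] (H : Subgroup G)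
    (h : Nat.Coprime H.index (⁅H, H⁆.relIndex H)) (y : H ⧸ H.focalSubgroupOf) :
    ∃ x : H, H.transferFocal x = y := by
  obtain ⟨x, rfl⟩ := (pow_index_bijective H h).2 y
  obtain ⟨x, rfl⟩ := QuotientGroup.mk'_surjective _ x
  exact ⟨x, H.transferFocal_eq_pow x⟩

theorem ker_transferFocal_inf [Finite G] (H : Subgroup G)
    (h : Nat.Coprime H.index (⁅H, H⁆.relIndex H)) :
    H.transferFocal.ker ⊓ H = H.focalSubgroup := by
  ext x
  constructor
  · rintro ⟨hx, hxH⟩
    have hx' : H.transferFocal x = 1 := hx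
    have h1 := H.transferFocal_eq_pow ⟨x, hxH⟩
    rw [hx'] at h1
    have h2 : ((⟨x, hxH⟩ : H) : H ⧸ H.focalSubgroupOf) = 1 := by
      apply (pow_index_bijective H h).1
      simp only [one_pow]
      exact h1.symm
    rw [QuotientGroup.eq_one_iff, focalSubgroupOf_def, mem_subgroupOf] at h2
    exact h2
  · intro hx
    have hxH := H.focalSubgroup_le hx
    refine ⟨?_, hxH⟩
    have h1 := H.transferFocal_eq_pow ⟨x, hxH⟩
    have h2 : ((⟨x, hxH⟩ : H) : H ⧸ H.focalSubgroupOf) = 1 := by
      rw [QuotientGroup.eq_one_iff, focalSubgroupOf_def, mem_subgroupOf]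
      exact hx
    rw [h2, one_pow] at h1
    exact h1

theorem ker_transferFocal_sup [Finite G] (H : Subgroup G)
    (h : Nat.Coprime H.index (⁅H, H⁆.relIndex H)) :
    H.transferFocal.ker ⊔ H = ⊤ := by
  rw [eq_top_iff]
  intro g _
  obtain ⟨x, hx⟩ := transferFocal_surjOn H h (H.transferFocal g)
  have h1 : g * (x : G)⁻¹ ∈ H.transferFocal.ker := by
    rw [MonoidHom.mem_ker, map_mul, map_inv, hx, mul_inv_cancel]
  have h2 : g = (g * (x : G)⁻¹) * x := by group
  rw [h2]
  exact mul_mem_sup h1 x.2

open scoped IsMulCommutative in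
/-- The focal subgroup theorem, coprime index. -/
theorem focal_eq [Finite G] (H : Subgroup G)
    (h : Nat.Coprime H.index (⁅H, H⁆.relIndex H)) :
    H.focalSubgroup = _root_.commutator G ⊓ H := by
  apply le_antisymm
  · exact le_inf H.focalSubgroup_le_commutator H.focalSubgroup_le
  · refine le_trans ?_ (ker_transferFocal_inf H h).le
    exact inf_le_inf_right _ (Abelianization.commutator_subset_ker H.transferFocal)

theorem focal_theorem [Finite G] (H : Subgroup G)
    (h : Nat.Coprime H.index (⁅H, H⁆.relIndex H)) :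
    H.focalSubgroup = _root_.commutator G ⊓ H ∧
      ∃ N : Subgroup G, N.Normal ∧ N ⊓ H = _root_.commutator G ⊓ H ∧ N ⊔ H = ⊤ := by
  refine ⟨focal_eq H h, H.transferFocal.ker, inferInstance, ?_, ker_transferFocal_sup H h⟩
  rw [ker_transferFocal_inf H h, focal_eq H h]

/-- A Hall subgroup satisfies the hypothesis of the focal subgroup theorem. -/
theorem coprime_of_hall [Finite G] (H : Subgroup G) (hHall : Nat.Coprime (Nat.card H) H.index) :
    Nat.Coprime H.index (⁅H, H⁆.relIndex H) :=
  Nat.Coprime.coprime_dvd_right (Subgroup.relIndex_dvd_card _ _) hHall.symm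

variable (G) in
/-- The characteristic subgroup of the `x` with `x ^ k ∈ G'`. -/
noncomputable def abMod (k : ℕ) : Subgroup G :=
  ((powMonoidHom k).comp (Abelianization.of (G := G))).ker

theorem mem_abMod {k : ℕ} {x : G} : x ∈ abMod G k ↔ x ^ k ∈ _root_.commutator G := by
  rw [abMod, MonoidHom.mem_ker, MonoidHom.comp_apply, powMonoidHom_apply, ← map_pow,
    ← MonoidHom.mem_ker, Abelianization.ker_of]

theorem commutator_le_abMod (k : ℕ) : _root_.commutator G ≤ abMod G k :=
  fun _ hx => mem_abMod.2 (pow_mem hx k)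

instance abMod_normal (k : ℕ) : (abMod G k).Normal :=
  inferInstanceAs (MonoidHom.ker _).Normal

instance abMod_characteristic (k : ℕ) : (abMod G k).Characteristic := by
  rw [Subgroup.characteristic_iff_le_comap]
  intro φ x hx
  rw [Subgroup.mem_comap]
  rw [mem_abMod] at hx ⊢
  have h1 : (_root_.commutator G) ≤ (_root_.commutator G).comap φ.toMonoidHom :=
    Subgroup.characteristic_iff_le_comap.1 inferInstance φ
  have h2 := h1 hx
  rw [Subgroup.mem_comap, map_pow] at h2
  exact h2

theorem abMod_inf [Finite G] (Q : Subgroup G) (hQ : Nat.Coprime (Nat.card Q) Q.index) :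
    abMod G Q.index ⊓ Q = Q.focalSubgroup := by
  rw [focal_eq Q (coprime_of_hall Q hQ)]
  apply le_antisymm
  · rintro x ⟨hx, hxQ⟩
    refine ⟨?_, hxQ⟩
    have hx' : x ^ Q.index ∈ _root_.commutator G := mem_abMod.1 hx
    have hox : (orderOf x).Coprime Q.index := by
      refine Nat.Coprime.coprime_dvd_left ?_ hQ
      rw [← Subgroup.orderOf_mk x hxQ]
      exact orderOf_dvd_natCard _
    obtain ⟨m, hm⟩ := exists_pow_eq_self_of_coprime hox.symm
    change x ∈ _root_.commutator G
    rw [← hm]
    exact pow_mem hx' m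
  · exact inf_le_inf_right _ (commutator_le_abMod _)

theorem abMod_sup [Finite G] (Q : Subgroup G) (hQ : Nat.Coprime (Nat.card Q) Q.index) :
    abMod G Q.index ⊔ Q = ⊤ := by
  rw [← Subgroup.index_eq_one]
  have h1 : (abMod G Q.index ⊔ Q).index ∣ Q.index := Subgroup.index_dvd_of_le le_sup_right
  have h2 : (abMod G Q.index ⊔ Q).index ∣ (abMod G Q.index).index :=
    Subgroup.index_dvd_of_le le_sup_left
  refine Nat.eq_one_of_dvd_coprimes ?_ h1 h2
  rw [abMod, Subgroup.index_ker]
  by_contra hne
  obtain ⟨p, hp, hpk, hpc⟩ := Nat.Prime.not_coprime_iff_dvd.1 hne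
  have := Fact.mk hp
  obtain ⟨r, hr⟩ := exists_prime_orderOf_dvd_card' p hpc
  obtain ⟨g, hg⟩ := r.2
  have h3 : r ^ (Nat.card Q) = 1 := by
    ext
    rw [Subgroup.coe_pow, Subgroup.coe_one, ← hg]
    simp only [MonoidHom.comp_apply, powMonoidHom_apply]
    rw [← pow_mul, mul_comm, Subgroup.card_mul_index, ← map_pow, pow_card_eq_one', map_one]
  have h4 : p ∣ Nat.card Q := by
    rw [← hr]; exact orderOf_dvd_of_pow_eq_one h3
  have h5 : p ∣ 1 := by
    rw [← hQ]; exact Nat.dvd_gcd h4 hpk
  exact hp.one_lt.ne' (Nat.dvd_one.1 h5)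

end Cfsg.Agent.Transfer.FocalHall
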