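import Mathlib.GroupTheory.FiniteAbelian.Duality
import Mathlib.GroupTheory.Abelianization.Finite
import Mathlib.GroupTheory.Abelianization.Defs
import Mathlib.Analysis.Complex.Polynomial.Basic
import Mathlib.RingTheory.RootsOfUnity.AlgebraicallyClosed
import Cfsg.Prelude.Def_Transfer

/-!
# Extraspecial subgroups `E` with `[G, E] ≤ Z(E)` satisfy `G = E C_G(E)`
-/

set_option autoImplicit false

namespace Cfsg.Agent.Transfer.ExtraspecialProduct

/-- The number of homomorphisms from a finite group `E` to a group `Z` of prime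
order is at most `|E : E'|`. -/
theorem card_monoidHom_le {E Z : Type*} [Group E] [Finite E] [gZ : Group Z]
    (hZ : (Nat.card Z).Prime) : Nat.card (E →* Z) ≤ Nat.card (Abelianization E) := by
  have : Fact (Nat.card Z).Prime := ⟨hZ⟩
  have : Finite Z := Nat.finite_of_card_ne_zero hZ.ne_zero
  have hcyc : IsCyclic Z := isCyclic_of_prime_card (p := Nat.card Z) rfl
  have hcomm : IsMulCommutative Z := IsCyclic.isMulCommutative
  let cZ : CommGroup Z := { gZ with mul_comm := hcomm.is_comm.comm }
  have hnt : Nontrivial Z := Finite.one_lt_card_iff_nontrivial.1 hZ.one_lt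
  obtain ⟨z, hz⟩ := exists_ne (1 : Z)
  obtain ⟨χ, hχ⟩ := CommGroup.exists_apply_ne_one_of_hasEnoughRootsOfUnity Z ℂ hz
  have hinj : Function.Injective χ := by
    rw [← MonoidHom.ker_eq_bot_iff]
    rcases χ.ker.eq_bot_or_eq_top_of_prime_card with h | h
    · exact h
    · exact absurd (MonoidHom.mem_ker.1 (h ▸ Subgroup.mem_top z)) hχ
  let F : (E →* Z) → (Abelianization E →* ℂˣ) := fun f => Abelianization.lift (χ.comp f)
  have hF : Function.Injective F := by
    intro f g hfg
    ext x
    apply hinj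
    have h1 : F f (Abelianization.of x) = F g (Abelianization.of x) := by rw [hfg]
    simpa [F] using h1
  have hfin : Finite (Abelianization E →* ℂˣ) := by
    apply Nat.finite_of_card_ne_zero
    rw [CommGroup.card_monoidHom_of_hasEnoughRootsOfUnity]
    exact Nat.card_pos.ne'
  calc Nat.card (E →* Z) ≤ Nat.card (Abelianization E →* ℂˣ) :=
        Nat.card_le_card_of_injective F hF
    _ = Nat.card (Abelianization E) := CommGroup.card_monoidHom_of_hasEnoughRootsOfUnity _ _

/-- If `E` is a finite subgroup of `G` with `|Z(E)|` a prime, `E' = Z(E)` and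
`[G, E] ≤ Z(E)` then `G = E C_G(E)`. -/
theorem sup_centralizer_eq_top_of_prime_center {G : Type*} [Group G] (E : Subgroup G) [Finite E]
    (hp : (Nat.card (Subgroup.center E)).Prime) (hc : commutator E = Subgroup.center E)
    (h : ⁅(⊤ : Subgroup G), E⁆ ≤ E ⊓ Subgroup.centralizer (E : Set G)) :
    E ⊔ Subgroup.centralizer (E : Set G) = ⊤ := by
  have hmem : ∀ g : G, ∀ x : E, g * x * g⁻¹ * (x : G)⁻¹ ∈ E ⊓ Subgroup.centralizer (E : Set G) :=
    fun g x => h (Subgroup.commutator_mem_commutator (Subgroup.mem_top g) x.2)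
  -- the commutator map `x ↦ [g, x]` as a homomorphism from `E` to its centre
  let Φ : G → (E →* Subgroup.center E) := fun g =>
    { toFun := fun x => ⟨⟨g * x * g⁻¹ * (x : G)⁻¹, (hmem g x).1⟩, by
        rw [Subgroup.mem_center_iff]
        intro y
        ext
        exact Subgroup.mem_centralizer_iff.1 (hmem g x).2 y y.2⟩
      map_one' := by
        ext
        simp
      map_mul' := by
        intro x y
        ext
        have h1 := Subgroup.mem_centralizer_iff.1 (hmem g y).2 x x.2
        change g * ((x : G) * y) * g⁻¹ * ((x : G) * y)⁻¹ =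
          (g * x * g⁻¹ * (x : G)⁻¹) * (g * y * g⁻¹ * (y : G)⁻¹)
        calc g * ((x : G) * y) * g⁻¹ * ((x : G) * y)⁻¹
            = g * x * g⁻¹ * (g * y * g⁻¹ * (y : G)⁻¹ ) * (x : G)⁻¹ := by group
          _ = g * x * g⁻¹ * (x : G)⁻¹ * ((x : G) * (g * y * g⁻¹ * (y : G)⁻¹)) * (x : G)⁻¹ := by
              group
          _ = (g * x * g⁻¹ * (x : G)⁻¹) * (g * y * g⁻¹ * (y : G)⁻¹) := by
              rw [h1]; group }
  have hΦ : ∀ g k : G, Φ g = Φ k → k⁻¹ * g ∈ Subgroup.centralizer (E : Set G) := by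
    intro g k hgk
    rw [Subgroup.mem_centralizer_iff]
    intro x hx
    have h1 : Φ g ⟨x, hx⟩ = Φ k ⟨x, hx⟩ := by rw [hgk]
    have h2 : g * x * g⁻¹ * x⁻¹ = k * x * k⁻¹ * x⁻¹ := by
      have h3 := congrArg (fun t : Subgroup.center E => ((t : E) : G)) h1
      exact h3
    have h4 : g * x * g⁻¹ = k * x * k⁻¹ := mul_right_cancel h2
    calc x * (k⁻¹ * g) = k⁻¹ * (k * x * k⁻¹) * g := by group
      _ = k⁻¹ * (g * x * g⁻¹) * g := by rw [h4]
      _ = k⁻¹ * g * x := by group
  -- the induced injection `E / Z(E) → Hom(E, Z(E))`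
  let Ψ : E ⧸ Subgroup.center E → (E →* Subgroup.center E) := fun q => Φ (Quotient.out q : E)
  have hΨ : Function.Injective Ψ := by
    intro q r hqr
    have h1 := hΦ _ _ hqr
    rw [← QuotientGroup.out_eq' q, ← QuotientGroup.out_eq' r, eq_comm]
    rw [QuotientGroup.eq]
    rw [Subgroup.mem_center_iff]
    intro y
    ext
    have h2 := Subgroup.mem_centralizer_iff.1 h1 y y.2
    simpa using h2
  have hcard : Nat.card (E →* Subgroup.center E) ≤ Nat.card (E ⧸ Subgroup.center E) := by
    refine (card_monoidHom_le (E := E) (Z := Subgroup.center E) hp).trans (le_of_eq ?_)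
    rw [← Subgroup.index_eq_card, ← hc]
    rfl
  have hfin : Finite (E →* Subgroup.center E) := by
    apply Finite.of_injective (fun f : E →* Subgroup.center E => (f : E → Subgroup.center E))
    exact DFunLike.coe_injective
  have hbij := hΨ.bijective_of_nat_card_le hcard
  rw [eq_top_iff]
  intro g _
  obtain ⟨q, hq⟩ := hbij.2 (Φ g)
  have h1 : (((Quotient.out q : E) : G))⁻¹ * g ∈ Subgroup.centralizer (E : Set G) :=
    hΦ _ _ hq.symm
  have h2 : g = ((Quotient.out q : E) : G) * ((((Quotient.out q : E) : G))⁻¹ * g) := by group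
  rw [h2]
  exact mul_mem (Subgroup.mem_sup_left (Quotient.out q : E).2) (Subgroup.mem_sup_right h1)

/-- If `E` is an extraspecial subgroup of `G` with `[G, E] ≤ Z(E)` then `G = E C_G(E)`. -/
theorem sup_centralizer_eq_top {G : Type*} [Group G] {p : ℕ} [hp : Fact p.Prime] (E : Subgroup G)
    [Finite E] (hE : Cfsg.IsExtraspecial p E)
    (h : ⁅(⊤ : Subgroup G), E⁆ ≤ E ⊓ Subgroup.centralizer (E : Set G)) :
    E ⊔ Subgroup.centralizer (E : Set G) = ⊤ :=
  sup_centralizer_eq_top_of_prime_center E (hE.2.symm ▸ hp.out) hE.1.2.2 h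

end Cfsg.Agent.Transfer.ExtraspecialProduct
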