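import Mathlib.GroupTheory.Sylow
import Mathlib.GroupTheory.Frattini
import Mathlib.GroupTheory.Nilpotent
import Mathlib.GroupTheory.PGroup
import Mathlib.Tactic
import Cfsg.Agent.Lib.FrattiniPGroup

/-!
# Finite `p`-groups in which every characteristic abelian subgroup is central

* `commutator_le_center`: such a nilpotent group has class at most two.
* `pow_mem_center`: such a `p`-group has `G / Z(G)` of exponent dividing `p`, as soon as `G' = Z(G)`
  (indeed in general: commutators have order dividing `p`).
-/

open Subgroup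
open scoped commutatorElement

namespace Cfsg.Agent.Transfer.CharAbelianCentral

variable {G : Type*} [Group G]

/-- Every characteristic abelian subgroup is central. -/
def CAC (G : Type*) [Group G] : Prop :=
  ∀ H : Subgroup G, H.Characteristic → (∀ x ∈ H, ∀ y ∈ H, x * y = y * x) → H ≤ center G

theorem lcs_aux (h : CAC G) : ∀ n : ℕ, (⊤ : Subgroup G).lowerCentralSeries (n + 2) = ⊥ →
    (⊤ : Subgroup G).lowerCentralSeries 2 = ⊥ := by
  intro n
  induction n with
  | zero => exact id
  | succ n ih =>
    intro hn
    apply ih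
    set H : Subgroup G := (⊤ : Subgroup G).lowerCentralSeries (n + 1) with hH
    have hHG : (⊤ : Subgroup G).lowerCentralSeries (n + 2) = ⁅H, (⊤ : Subgroup G)⁆ :=
      Subgroup.lowerCentralSeries_succ _ _
    have hHGG : ⁅⁅H, (⊤ : Subgroup G)⁆, (⊤ : Subgroup G)⁆ = ⊥ := by
      rw [← hHG, ← Subgroup.lowerCentralSeries_succ]; exact hn
    have h3 : ⁅⁅(⊤ : Subgroup G), (⊤ : Subgroup G)⁆, H⁆ = ⊥ := by
      apply commutator_commutator_eq_bot_of_rotate
      · rw [commutator_comm (⊤ : Subgroup G) H]; exact hHGG
      · exact hHGG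
    have hle : H ≤ ⁅(⊤ : Subgroup G), (⊤ : Subgroup G)⁆ := by
      have h1 : H ≤ (⊤ : Subgroup G).lowerCentralSeries 1 :=
        Subgroup.lowerCentralSeries_antitone _ (by omega)
      rwa [Subgroup.lowerCentralSeries_succ, Subgroup.lowerCentralSeries_zero] at h1
    have hab : ∀ x ∈ H, ∀ y ∈ H, x * y = y * x := by
      intro x hx y hy
      rw [commutator_eq_bot_iff_le_centralizer] at h3
      exact ((mem_centralizer_iff.mp (h3 (hle hx))) y hy).symm
    have hchar : H.Characteristic := by rw [hH]; infer_instance
    have hcen := h H hchar hab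
    rw [hHG, commutator_eq_bot_iff_le_centralizer]
    intro x hx
    have := hcen hx
    rw [mem_center_iff] at this
    rw [mem_centralizer_iff]
    intro y _
    exact this y

/-- A nilpotent group all of whose characteristic abelian subgroups are central has class `≤ 2`. -/
theorem commutator_le_center [Group.IsNilpotent G] (h : CAC G) : commutator G ≤ center G := by
  obtain ⟨n, hn⟩ := (Subgroup.nilpotent_iff_lowerCentralSeries (G := G)).mp inferInstance
  have h2 : (⊤ : Subgroup G).lowerCentralSeries (n + 2) = ⊥ := by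
    rw [eq_bot_iff, ← hn]
    exact Subgroup.lowerCentralSeries_antitone _ (by omega)
  have h3 := lcs_aux h n h2
  rw [Subgroup.lowerCentralSeries_succ, commutator_eq_bot_iff_le_centralizer] at h3
  intro x hx
  have hx' : x ∈ (⊤ : Subgroup G).lowerCentralSeries 1 := by
    rw [Subgroup.lowerCentralSeries_succ, Subgroup.lowerCentralSeries_zero]; exact hx
  have := h3 hx'
  rw [mem_centralizer_iff] at this
  rw [mem_center_iff]
  intro y
  exact this y (mem_top y)

theorem comm_pow_left (hc : ∀ x y : G, ⁅x, y⁆ ∈ center G) (x y : G) (n : ℕ) :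
    ⁅x ^ n, y⁆ = ⁅x, y⁆ ^ n := by
  induction n with
  | zero => simp
  | succ n ih =>
    have h1 := mem_center_iff.mp (hc x y)
    have h2 : ⁅x ^ (n + 1), y⁆ = x ^ n * ⁅x, y⁆ * (x ^ n)⁻¹ * ⁅x ^ n, y⁆ := by
      simp only [commutatorElement_def]; group
    rw [h2, h1 (x ^ n), mul_inv_cancel_right, ih, pow_succ']

theorem comm_pow_right (hc : ∀ x y : G, ⁅x, y⁆ ∈ center G) (x y : G) (n : ℕ) :
    ⁅x, y ^ n⁆ = ⁅x, y⁆ ^ n := by
  rw [← commutatorElement_inv, comm_pow_left hc, ← commutatorElement_inv x y, inv_pow, inv_inv]

/-- In a finite `p`-group all of whose characteristic abelian subgroups are central, commutators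
have order dividing `p`. -/
theorem comm_pow_eq_one {p : ℕ} [Fact p.Prime] [Finite G] (hG : IsPGroup p G) (h : CAC G)
    (x y : G) : ⁅x, y⁆ ^ p = 1 := by
  have := hG.isNilpotent
  have hcen := commutator_le_center h
  have hc : ∀ x y : G, ⁅x, y⁆ ∈ center G := fun x y =>
    hcen (commutator_mem_commutator (mem_top x) (mem_top y))
  have key : ∀ n : ℕ, (∀ x y : G, ⁅x, y⁆ ^ (p ^ (n + 1)) = 1) → ∀ x y : G, ⁅x, y⁆ ^ p = 1 := by
    intro n
    induction n with
    | zero => intro h1 x y; simpa using h1 x y
    | succ n ih =>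
      intro h1
      apply ih
      set K : Subgroup G := closure {z : G | ∃ x : G, z = x ^ (p ^ (n + 1))} with hK
      have hKc : K.Characteristic := by
        rw [Subgroup.characteristic_iff_map_le]
        intro φ
        rw [hK, MonoidHom.map_closure, closure_le]
        rintro _ ⟨_, ⟨x, rfl⟩, rfl⟩
        apply Subgroup.subset_closure
        exact ⟨φ x, by simp⟩
      have hcomm : ∀ a ∈ {z : G | ∃ x : G, z = x ^ (p ^ (n + 1))},
          ∀ b ∈ {z : G | ∃ x : G, z = x ^ (p ^ (n + 1))}, a * b = b * a := by
        rintro _ ⟨a, rfl⟩ _ ⟨b, rfl⟩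
        rw [← commutatorElement_eq_one_iff_mul_comm, comm_pow_left hc, comm_pow_right hc,
          ← pow_mul, ← pow_add]
        have : n + 1 + (n + 1) = (n + 1 + 1) + n := by ring
        rw [this, pow_add, pow_mul, h1, one_pow]
      have hKab : ∀ x ∈ K, ∀ y ∈ K, x * y = y * x := by
        have h2 : K ≤ centralizer (K : Set G) := by
          rw [hK, closure_le]
          intro a ha
          rw [SetLike.mem_coe, mem_centralizer_iff]
          have h3 : closure {z : G | ∃ x : G, z = x ^ (p ^ (n + 1))} ≤ centralizer {a} := by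
            rw [closure_le]
            intro b hb
            rw [SetLike.mem_coe, mem_centralizer_iff]
            rintro c rfl
            exact hcomm c ha b hb
          intro b hb
          have := mem_centralizer_iff.mp (h3 hb) a rfl
          exact this.symm
        intro x hx y hy
        exact ((mem_centralizer_iff.mp (h2 hx)) y hy).symm
      have hKcen := h K hKc hKab
      intro x y
      rw [← comm_pow_left hc]
      have h4 : x ^ (p ^ (n + 1)) ∈ center G := hKcen (Subgroup.subset_closure ⟨x, rfl⟩)
      rw [commutatorElement_eq_one_iff_mul_comm]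
      exact ((mem_center_iff.mp h4) y).symm
  obtain ⟨n, hn⟩ := (IsPGroup.iff_card (p := p) (G := G)).mp hG
  refine key n ?_ x y
  intro x y
  rw [pow_succ, pow_mul, ← hn, pow_card_eq_one', one_pow]

end Cfsg.Agent.Transfer.CharAbelianCentral
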