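import Mathlib
import Cfsg.Agent.Transfer.ClassTwo
import Cfsg.Agent.Lib.FrattiniPGroup

/-!
# Coprime automorphisms fixing the elements of order `p` (`p` odd)

Elementwise version, for an endomorphism `f : G →* G` of a finite `p`-group `G` with `f^[n] = id`,
`n` prime to `p`:

* `map_eq_self_of_chain`: if `f` fixes every element `x⁻¹ * f x`, then `f = id`;
* `map_eq_self_of_omega`: if `p` is odd and `f` fixes every element of order dividing `p`, then
  `f = id`.
-/

open Subgroup
open scoped commutatorElement

namespace Cfsg.Agent.Transfer.OmegaFaithful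

universe u

/-- `(a x)` iterated `orderOf a` times is the identity. -/
theorem iterate_orderOf {G : Type*} [Group G] (a : MulAut G) (x : G) :
    (⇑a.toMonoidHom)^[orderOf a] x = x := by
  have h : ∀ n : ℕ, ∀ x : G, (⇑a.toMonoidHom)^[n] x = (a ^ n) x := by
    intro n
    induction n with
    | zero => intro x; rfl
    | succ n ih =>
      intro x
      rw [Function.iterate_succ_apply, ih, pow_succ]
      rfl
  rw [h, pow_orderOf_eq_one]
  rfl

/-- If `f` fixes `x⁻¹ * f x`, then `f^[n] x = x * (x⁻¹ * f x) ^ n`. -/
theorem iterate_eq_mul_pow {G : Type*} [Group G] (f : G →* G) (x : G)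
    (h : f (x⁻¹ * f x) = x⁻¹ * f x) (n : ℕ) : f^[n] x = x * (x⁻¹ * f x) ^ n := by
  induction n with
  | zero => simp
  | succ n ih =>
    rw [Function.iterate_succ_apply', ih, map_mul, map_pow, h, pow_succ', ← mul_assoc,
      mul_inv_cancel_left]

/-- If `f^[n] = id` with `n` prime to `p`, `G` is a `p`-group and `f` fixes `x⁻¹ * f x`, then `f`
fixes `x`. -/
theorem map_eq_self_of_fixed {G : Type*} [Group G] {p n : ℕ} (hG : IsPGroup p G)
    (hn : n.Coprime p) (f : G →* G) (x : G) (hf : f^[n] x = x)
    (h : f (x⁻¹ * f x) = x⁻¹ * f x) : f x = x := by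
  rw [iterate_eq_mul_pow f x h n] at hf
  have h1 : (x⁻¹ * f x) ^ n = 1 := by
    have := hf
    rwa [mul_eq_left] at this
  have h2 : x⁻¹ * f x = 1 := by
    obtain ⟨k, hk⟩ := hG (x⁻¹ * f x)
    have hco : n.Coprime (p ^ k) := Nat.Coprime.pow_right k hn
    have := pow_gcd_eq_one.mpr ⟨h1, hk⟩
    rwa [hco.gcd_eq_one, pow_one] at this
  rw [inv_mul_eq_one] at h2
  exact h2.symm

/-- The restriction of an endomorphism to an invariant subgroup. -/
theorem restrict_data {G : Type*} [Group G] (f : G →* G) (H : Subgroup G)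
    (hH : ∀ x ∈ H, f x ∈ H) : ∃ g : H →* H, (∀ x : H, (g x : G) = f x) ∧
      ∀ (n : ℕ) (x : H), ((g^[n] x : H) : G) = f^[n] x := by
  refine ⟨(f.comp H.subtype).codRestrict H (fun x => hH x x.2), fun x => rfl, fun n => ?_⟩
  induction n with
  | zero => intro x; rfl
  | succ n ih =>
    intro x
    rw [Function.iterate_succ_apply, Function.iterate_succ_apply, ih]
    rfl

/-- If `f` is the identity on an `f`-invariant normal subgroup `H`, then `H` centralises every
`x⁻¹ * f x`. -/
theorem commute_of_fixed {G : Type*} [Group G] (f : G →* G) (H : Subgroup G) [H.Normal]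
    (hH : ∀ x ∈ H, f x = x) (x z : G) (hz : z ∈ H) : Commute (x⁻¹ * f x) z := by
  have h1 : f (x * z * x⁻¹) = x * z * x⁻¹ := hH _ (Normal.conj_mem inferInstance z hz x)
  rw [map_mul, map_mul, map_inv, hH z hz] at h1
  have h2 : f x * z = x * z * x⁻¹ * f x := by
    rw [← h1]; simp [mul_assoc]
  change x⁻¹ * f x * z = z * (x⁻¹ * f x)
  rw [mul_assoc, h2]
  simp [mul_assoc]

/-- For odd `p`, an endomorphism `f` of the finite `p`-group `G` with `f^[n] = id`, `n` prime to
`p`, which fixes every element of order dividing `p`, is the identity. -/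
theorem map_eq_self_of_omega {p : ℕ} [hpf : Fact p.Prime] (hp : p ≠ 2) {n : ℕ}
    (hn : n.Coprime p) (G : Type u) [Group G] [Finite G] (hG : IsPGroup p G) (f : G →* G)
    (hf : ∀ x, f^[n] x = x) (h : ∀ x, x ^ p = 1 → f x = x) (x : G) : f x = x := by
  -- strong induction on the order
  suffices H : ∀ (N : ℕ) (G : Type u) [Group G] [Finite G] (_ : Nat.card G ≤ N)
      (_ : IsPGroup p G) (f : G →* G) (_ : ∀ x, f^[n] x = x) (_ : ∀ x, x ^ p = 1 → f x = x)
      (x : G), f x = x from H _ G le_rfl hG f hf h x
  intro N
  induction N with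
  | zero =>
    intro G _ _ hN
    exact absurd (Nat.card_pos (α := G)) (by omega)
  | succ N ih =>
    intro G _ _ hN hG f hf h
    -- `f` is the identity on proper invariant subgroups
    have key : ∀ H : Subgroup G, (∀ x ∈ H, f x ∈ H) → H ≠ ⊤ → ∀ x ∈ H, f x = x := by
      intro H hH hne x hx
      obtain ⟨g, hg, hgn⟩ := restrict_data f H hH
      have hlt : Nat.card H < Nat.card G := by
        refine lt_of_le_of_ne (Subgroup.card_le_card_group H) ?_
        intro he
        exact hne (Subgroup.eq_top_of_card_eq H he)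
      have := ih H (by omega) (hG.to_subgroup H) g
        (fun x => Subtype.ext (by rw [hgn, hf]))
        (fun x hx => Subtype.ext (by
          rw [hg]; exact h x (by rw [← Subgroup.coe_pow, hx]; rfl)))
        ⟨x, hx⟩
      rw [← hg ⟨x, hx⟩, this]
    set K : Subgroup G := Subgroup.closure {c | ∃ x, x⁻¹ * f x = c} with hK
    have hKmem : ∀ x, x⁻¹ * f x ∈ K := fun x => Subgroup.subset_closure ⟨x, rfl⟩
    have hKinv : ∀ x ∈ K, f x ∈ K := by
      intro x hx
      have h1 := hKmem x
      have h2 := K.mul_mem hx h1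
      rwa [mul_inv_cancel_left] at h2
    by_cases hKtop : K = ⊤
    swap
    · intro x
      exact map_eq_self_of_fixed hG hn f x (hf x) (key K hKinv hKtop _ (hKmem x))
    -- so `K = ⊤`
    by_cases htriv : Subsingleton G
    · intro x; exact Subsingleton.elim _ _
    rw [not_subsingleton_iff_nontrivial] at htriv
    have := hG.isNilpotent
    -- the Frattini subgroup is fixed pointwise
    have hΦtop : frattini G ≠ ⊤ := by
      intro htop
      obtain ⟨M, hM, -⟩ := (eq_top_or_exists_le_coatom (⊥ : Subgroup G)).resolve_left bot_ne_top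
      exact hM.1 (top_le_iff.mp (htop ▸ frattini_le_coatom hM))
    have hinj : Function.Injective f := by
      rcases Nat.eq_zero_or_pos n with h0 | h0
      · subst h0
        exact absurd (Nat.coprime_zero_left p |>.mp hn) hpf.out.one_lt.ne'
      · intro x y hxy
        rw [← hf x, ← hf y]
        obtain ⟨m, rfl⟩ : ∃ m, n = m + 1 := ⟨n - 1, by omega⟩
        rw [Function.iterate_succ_apply, Function.iterate_succ_apply, hxy]
    have hsurj : Function.Surjective f := Finite.surjective_of_injective hinj
    have hΦinv : ∀ x ∈ frattini G, f x ∈ frattini G := by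
      intro x hx
      exact frattini_le_comap_frattini_of_surjective hsurj hx
    have hΦfix : ∀ x ∈ frattini G, f x = x := key _ hΦinv hΦtop
    have : (frattini G).Normal := inferInstance
    -- the Frattini subgroup is central
    have hcent : ∀ z ∈ frattini G, ∀ x : G, Commute x z := by
      intro z hz x
      have hx : x ∈ K := by rw [hKtop]; trivial
      rw [hK] at hx
      induction hx using Subgroup.closure_induction with
      | mem c hc =>
        obtain ⟨y, rfl⟩ := hc
        exact commute_of_fixed f (frattini G) hΦfix y z hz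
      | one => exact Commute.one_left z
      | mul a b _ _ ha hb => exact ha.mul_left hb
      | inv a _ ha => exact ha.inv_left
    have hcomm : ∀ x y : G, ⁅x, y⁆ ∈ frattini G := by
      intro x y
      exact Cfsg.Agent.Lib.FrattiniPGroup.commutator_le_frattini hG
        (Subgroup.commutator_mem_commutator (Subgroup.mem_top x) (Subgroup.mem_top y))
    have hpow : ∀ x : G, x ^ p ∈ frattini G :=
      fun x => Cfsg.Agent.Lib.FrattiniPGroup.pow_mem_frattini hG x
    -- commutators have order dividing `p`
    have hcp : ∀ x y : G, ⁅y, x⁆ ^ p = 1 := by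
      intro x y
      have h1 : y ^ p * x = x * y ^ p * ⁅y, x⁆ ^ p :=
        Cfsg.Agent.Transfer.ClassTwo.pow_mul_eq (hcent _ (hcomm y x) x) (hcent _ (hcomm y x) y) p
      rw [(hcent _ (hpow y) x).eq] at h1
      exact (mul_eq_left.mp h1.symm)
    have hfix : ∀ x : G, f (x⁻¹ * f x) = x⁻¹ * f x := by
      intro x
      apply h
      rw [Cfsg.Agent.Transfer.ClassTwo.mul_pow_prime hpf.out hp (hcent _ (hcomm _ _) _)
        (hcent _ (hcomm _ _) _) (hcp _ _), ← map_pow, hΦfix _ (hpow x), inv_pow, inv_mul_cancel]
    intro x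
    exact map_eq_self_of_fixed hG hn f x (hf x) (hfix x)

end Cfsg.Agent.Transfer.OmegaFaithful
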